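import Groth.Agent.Lib.ArtFun.Smooth
import Groth.Agent.Lib.Compl.Complete
import Groth.Agent.Lib.AdicSmooth.PowerSeries
import Mathlib.RingTheory.MvPowerSeries.Inverse
import Mathlib.RingTheory.AdicCompletion.LocalRing
import Mathlib.RingTheory.AdicCompletion.Topology

/-!
Power series rings over coefficient rings.
-/

set_option autoImplicit false

universe u v w

open CategoryTheory

namespace Groth.Agent.ArtFunLib

open ArtFun ArtFun.Art

section PSComplete

variable {A : Type u} [CommRing A] {n : ℕ}

theorem span_X_eq_ker :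
    Ideal.span (Set.range fun i : Fin n => (MvPowerSeries.X i : MvPowerSeries (Fin n) A)) =
      RingHom.ker (MvPowerSeries.constantCoeff : MvPowerSeries (Fin n) A →+* A) := by
  refine le_antisymm (Ideal.span_le.2 ?_) fun f hf => ?_
  · rintro _ ⟨i, rfl⟩
    exact RingHom.mem_ker.2 (MvPowerSeries.constantCoeff_X i)
  · have := AdicSmooth.mem_pow_of_coeff_eq_zero 1 f fun d hd => by
      have hd0 : d = 0 := (Finsupp.degree_eq_zero_iff d).1 (by omega)
      rw [hd0, MvPowerSeries.coeff_zero_eq_constantCoeff_apply]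
      exact RingHom.mem_ker.1 hf
    rwa [pow_one] at this

theorem isAdicComplete_span_X :
    IsAdicComplete (Ideal.span (Set.range fun i : Fin n => (MvPowerSeries.X i : MvPowerSeries (Fin n) A)))
      (MvPowerSeries (Fin n) A) := by
  let V := MvPolynomial.idealOfVars (Fin n) A
  let e := MvPowerSeries.toAdicCompletionAlgEquiv (Fin n) A
  have hc : IsAdicComplete (V.map (algebraMap (MvPolynomial (Fin n) A)
      (AdicCompletion V (MvPolynomial (Fin n) A)))) (AdicCompletion V (MvPolynomial (Fin n) A)) :=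
    AdicCompletion.isAdicComplete_self _ (MvPolynomial.idealOfVars_fg _ _)
  have h := (IsAdicComplete.congr_ringEquiv (V.map (algebraMap (MvPolynomial (Fin n) A)
    (AdicCompletion V (MvPolynomial (Fin n) A)))) e.symm.toRingEquiv).2 hc
  have heq : (V.map (algebraMap (MvPolynomial (Fin n) A)
      (AdicCompletion V (MvPolynomial (Fin n) A)))).map e.symm.toRingEquiv =
      Ideal.span (Set.range fun i : Fin n => (MvPowerSeries.X i : MvPowerSeries (Fin n) A)) := by
    have hV : V = Ideal.span (Set.range (MvPolynomial.X : Fin n → MvPolynomial (Fin n) A)) := rfl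
    simp only [hV, Ideal.map_span, ← Set.range_comp]
    congr 2
    funext i
    refine (e.symm.commutes _).trans ?_
    exact MvPolynomial.coe_X i
  exact heq ▸ h

theorem isAdicComplete_mvPowerSeries [IsLocalRing A] [IsNoetherianRing A]
    [IsAdicComplete (IsLocalRing.maximalIdeal A) A] :
    IsAdicComplete (IsLocalRing.maximalIdeal (MvPowerSeries (Fin n) A)) (MvPowerSeries (Fin n) A) := by
  let V := Ideal.span (Set.range fun i : Fin n => (MvPowerSeries.X i : MvPowerSeries (Fin n) A))
  have := isAdicComplete_span_X (A := A) (n := n)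
  have hs : Function.Surjective (MvPowerSeries.constantCoeff : MvPowerSeries (Fin n) A →+* A) :=
    fun a => ⟨MvPowerSeries.C a, MvPowerSeries.constantCoeff_C a⟩
  let e : (MvPowerSeries (Fin n) A ⧸ V) ≃+* A :=
    (Ideal.quotEquivOfEq span_X_eq_ker).trans (RingHom.quotientKerEquivOfSurjective hs)
  have : IsAdicComplete ((IsLocalRing.maximalIdeal (MvPowerSeries (Fin n) A)).map (Ideal.Quotient.mk V))
      (MvPowerSeries (Fin n) A ⧸ V) := by
    refine (IsAdicComplete.congr_ringEquiv _ e).1 ?_
    rw [show ((IsLocalRing.maximalIdeal (MvPowerSeries (Fin n) A)).map (Ideal.Quotient.mk V)).map e =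
        IsLocalRing.maximalIdeal A from ?_]
    · infer_instance
    refine (Ideal.map_map (Ideal.Quotient.mk V) (RingHomClass.toRingHom e)).trans ?_
    have he : (RingHomClass.toRingHom e).comp (Ideal.Quotient.mk V) = MvPowerSeries.constantCoeff := RingHom.ext fun f => rfl
    rw [he]
    exact IsLocalRing.map_maximalIdeal_of_surjective _ hs
  exact Groth.Agent.Compl.isAdicComplete_of_quotient V _

end PSComplete

variable {Λ k : Type u} [CommRing Λ] [Field k] [Algebra Λ k]

/-- The power series ring over a coefficient ring. -/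
noncomputable abbrev psRing (R : CRing Λ k) (n : ℕ) : CRing Λ k :=
  { carrier := MvPowerSeries (Fin n) R.carrier
    res := R.res.comp
      { toRingHom := MvPowerSeries.constantCoeff
        commutes' := fun r => by
          rw [MvPowerSeries.algebraMap_apply]
          exact MvPowerSeries.constantCoeff_C _ }
    res_surjective := fun y => by
      obtain ⟨a, ha⟩ := R.res_surjective y
      refine ⟨MvPowerSeries.C a, ?_⟩
      change R.res (MvPowerSeries.constantCoeff (MvPowerSeries.C a : MvPowerSeries (Fin n) R.carrier)) = y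
      rw [MvPowerSeries.constantCoeff_C, ha]
    isAdicComplete := isAdicComplete_mvPowerSeries }

/-- The constants of a power series ring. -/
noncomputable def psC (R : CRing Λ k) (n : ℕ) : R.carrier →ₐ[Λ] (psRing R n).carrier :=
  (IsScalarTower.toAlgHom Λ R.carrier (MvPowerSeries (Fin n) R.carrier) :)

theorem res_psC (R : CRing Λ k) (n : ℕ) : (psRing R n).res.comp (psC R n) = R.res :=
  AlgHom.ext fun a => by
    change R.res (MvPowerSeries.constantCoeff (MvPowerSeries.C a : MvPowerSeries (Fin n) R.carrier)) = R.res a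
    rw [MvPowerSeries.constantCoeff_C]

theorem res_psX (R : CRing Λ k) {n : ℕ} (i : Fin n) : (psRing R n).res (MvPowerSeries.X i) = 0 :=
  (congrArg R.res (MvPowerSeries.constantCoeff_X i)).trans (map_zero _)

/-- Points of a power series ring are determined by their values on constants and variables. -/
theorem ps_point_ext {R : CRing Λ k} {n : ℕ} {A : Art Λ k}
    {φ ψ : HomSet (psRing R n).carrier (psRing R n).res A}
    (hC : ∀ r, φ.1 (psC R n r) = ψ.1 (psC R n r))
    (hX : ∀ i : Fin n, φ.1 (MvPowerSeries.X i) = ψ.1 (MvPowerSeries.X i)) : φ = ψ := by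
  obtain ⟨N, hN⟩ := exists_mpow_le_ker φ
  obtain ⟨M, hM⟩ := exists_mpow_le_ker ψ
  let φ₀ : MvPowerSeries (Fin n) R.carrier →ₐ[Λ] A := φ.1
  let ψ₀ : MvPowerSeries (Fin n) R.carrier →ₐ[Λ] A := ψ.1
  refine homSet_ext fun (x : MvPowerSeries (Fin n) R.carrier) => ?_
  let p : MvPolynomial (Fin n) R.carrier := MvPowerSeries.truncTotal (N + M + 1) x
  have hmem : x - (p : MvPowerSeries (Fin n) R.carrier) ∈
      IsLocalRing.maximalIdeal (MvPowerSeries (Fin n) R.carrier) ^ (N + M + 1) := by
    refine Ideal.pow_right_mono (Ideal.span_le.2 ?_) _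
      (AdicSmooth.mem_pow_of_coeff_eq_zero (N + M + 1) _ fun d hd => ?_)
    · rintro _ ⟨i, rfl⟩
      exact ((psRing R n).mem_maximalIdeal_iff _).2 (res_psX R i)
    · rw [map_sub, MvPolynomial.coeff_coe, MvPowerSeries.coeff_truncTotal _ hd, sub_self]
  have e : φ₀.toRingHom.comp MvPolynomial.coeToMvPowerSeries.ringHom =
      ψ₀.toRingHom.comp MvPolynomial.coeToMvPowerSeries.ringHom :=
    MvPolynomial.ringHom_ext (fun r => by
      change φ₀ (MvPolynomial.C r : MvPolynomial (Fin n) R.carrier) =
        ψ₀ (MvPolynomial.C r : MvPolynomial (Fin n) R.carrier)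
      rw [MvPolynomial.coe_C]
      exact hC r) fun i => by
      change φ₀ (MvPolynomial.X i : MvPolynomial (Fin n) R.carrier) =
        ψ₀ (MvPolynomial.X i : MvPolynomial (Fin n) R.carrier)
      rw [MvPolynomial.coe_X]
      exact hX i
  have h1 : φ₀ (x - p) = 0 := hN (Ideal.pow_le_pow_right (by omega) hmem)
  have h2 : ψ₀ (x - p) = 0 := hM (Ideal.pow_le_pow_right (by omega) hmem)
  rw [map_sub, sub_eq_zero] at h1 h2
  exact h1.trans ((RingHom.congr_fun e p).trans h2.symm)

/-- The universal property of power series rings. -/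
theorem exists_ps_point {R : CRing Λ k} {n : ℕ} {A : Art Λ k} (g : HomSet R.carrier R.res A)
    (a : Fin n → A) (ha : ∀ i, a i ∈ IsLocalRing.maximalIdeal A) :
    ∃ φ : HomSet (psRing R n).carrier (psRing R n).res A,
      (∀ r, φ.1 (psC R n r) = g.1 r) ∧ ∀ i : Fin n, φ.1 (MvPowerSeries.X i) = a i := by
  letI : Algebra R.carrier A := g.1.toRingHom.toAlgebra
  have : IsScalarTower Λ R.carrier A := IsScalarTower.of_algebraMap_eq fun r => (g.1.commutes r).symm
  obtain ⟨G, hG, hGp⟩ := AdicSmooth.exists_algHom_of_isNilpotent (A := R.carrier) a fun i => by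
    obtain ⟨N, hN⟩ := isNilpotent_𝔪 A
    exact ⟨N, (Ideal.mem_bot).1 (hN.le (Ideal.pow_mem_pow (ha i) N))⟩
  refine ⟨⟨G.restrictScalars Λ, AlgHom.ext fun (x : MvPowerSeries (Fin n) R.carrier) => ?_⟩,
    fun r => G.commutes r, hG⟩
  change A.res (G x) = R.res (MvPowerSeries.constantCoeff x)
  obtain ⟨c, hc⟩ := (Submodule.mem_span_range_iff_exists_fun _).1
    (show x - MvPowerSeries.C (MvPowerSeries.constantCoeff x) ∈
        Ideal.span (Set.range fun i : Fin n => (MvPowerSeries.X i : MvPowerSeries (Fin n) R.carrier)) by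
      rw [span_X_eq_ker, RingHom.mem_ker, map_sub, MvPowerSeries.constantCoeff_C, sub_self])
  rw [← sub_add_cancel x (MvPowerSeries.C (MvPowerSeries.constantCoeff x)), ← hc, map_add, map_add, map_sum,
    map_sum, map_add, map_sum, Finset.sum_eq_zero fun i _ => ?_, zero_add, MvPowerSeries.constantCoeff_C]
  · rw [Finset.sum_eq_zero fun i _ => ?_, zero_add]
    · refine (congrArg A.res (G.commutes _)).trans ?_
      exact homSet_res g _
    · rw [smul_eq_mul, map_mul, MvPowerSeries.constantCoeff_X, mul_zero]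
  · rw [smul_eq_mul, map_mul, hG, map_mul, (A.mem_maximalIdeal_iff _).1 (ha i), mul_zero]

/-- The universal property for maps into coefficient rings. -/
theorem exists_ps_map {R S : CRing Λ k} {n : ℕ} (g : R.carrier →ₐ[Λ] S.carrier) (hg : S.res.comp g = R.res)
    (a : Fin n → S.carrier) (ha : ∀ i, a i ∈ IsLocalRing.maximalIdeal S.carrier) :
    ∃ G : (psRing R n).carrier →ₐ[Λ] S.carrier, S.res.comp G = (psRing R n).res ∧ G.comp (psC R n) = g ∧
      ∀ i : Fin n, G (MvPowerSeries.X i) = a i := by
  choose φ hφC hφX using fun N => exists_ps_point (truncPoint g hg N) (fun i => (S.truncHom N).1 (a i))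
    fun i => homSet_mem_max (S.truncHom N) (ha i)
  obtain ⟨G, hG, hGn⟩ := exists_of_compat φ fun N => ps_point_ext
    (fun r => by
      change S.truncMap N ((φ (N + 1)).1 _) = _
      rw [hφC, hφC]
      rfl)
    (fun i => by
      change S.truncMap N ((φ (N + 1)).1 _) = _
      rw [hφX, hφX]
      rfl)
  have key : ∀ x y, (∀ N, (φ N).1 x = (S.truncHom N).1 y) → G x = y := fun x y h => sub_eq_zero.1
    (IsHausdorff.haus' (I := IsLocalRing.maximalIdeal S.carrier) _ fun N => by
      rw [SModEq.zero, smul_eq_mul, Ideal.mul_top]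
      refine Ideal.pow_le_pow_right (Nat.le_succ N) (Ideal.Quotient.eq.1 ?_)
      exact (congrArg (fun χ : HomSet (psRing R n).carrier (psRing R n).res (S.trunc N) => χ.1 x) (hGn N)).trans (h N))
  exact ⟨G, hG, AlgHom.ext fun r => key _ _ fun N => hφC N r, fun i => key _ _ fun N => hφX N i⟩

/-- A minimal cover by a power series ring. -/
theorem exists_minimal_cover {R S : CRing Λ k} (f : R.carrier →ₐ[Λ] S.carrier) (hf : S.res.comp f = R.res) :
    ∃ (n : ℕ) (G : (psRing R n).carrier →ₐ[Λ] S.carrier), S.res.comp G = (psRing R n).res ∧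
      G.comp (psC R n) = f ∧ Function.Surjective G ∧
      ∀ z ∈ RingHom.ker G, z ∈ (IsLocalRing.maximalIdeal R.carrier).map (psC R n) ⊔
        IsLocalRing.maximalIdeal (psRing R n).carrier ^ 2 := by
  classical
  let m := IsLocalRing.maximalIdeal R.carrier
  let mS := IsLocalRing.maximalIdeal S.carrier
  let J : Ideal S.carrier := m.map f ⊔ mS ^ 2
  have hex : ∃ n, ∃ a : Fin n → S.carrier, (∀ i, a i ∈ mS) ∧ mS ≤ Ideal.span (Set.range a) ⊔ J := by
    obtain ⟨l, w, hw⟩ := Submodule.fg_iff_exists_fin_generating_family.1 (IsNoetherian.noetherian mS)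
    exact ⟨l, w, fun j => hw ▸ Submodule.subset_span (Set.mem_range_self j),
      le_trans hw.ge le_sup_left⟩
  obtain ⟨a, ham, haspan⟩ := Nat.find_spec hex
  obtain ⟨G, hG, hGC, hGX⟩ := exists_ps_map f hf a ham
  let P := psRing R (Nat.find hex)
  let mP := IsLocalRing.maximalIdeal P.carrier
  have : IsAdicComplete mP P.carrier := P.isAdicComplete
  have hmP : mP.map (G : P.carrier →+* S.carrier) ≤ mS :=
    Ideal.map_le_iff_le_comap.2 (CRing.maximalIdeal_le_comap G hG)
  have hfG : ∀ r, G (psC R _ r) = f r := AlgHom.congr_fun hGC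
  have hGs : Function.Surjective G := by
    refine surjective_of_cotangent mP mS (G : P.carrier →+* S.carrier) hmP (fun s => ?_) (haspan.trans ?_)
    · obtain ⟨r, hr⟩ := P.res_surjective (S.res s)
      refine ⟨r, (S.mem_maximalIdeal_iff _).2 ?_⟩
      rw [map_sub, sub_eq_zero, ← hr]
      exact (CRing.res_comp_apply G hG r).symm
    · refine sup_le (le_sup_of_le_left (Ideal.span_le.2 ?_)) (sup_le (le_sup_of_le_left ?_) le_sup_right)
      · rintro _ ⟨i, rfl⟩
        rw [← hGX i]
        exact Ideal.mem_map_of_mem (G : P.carrier →+* S.carrier)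
          ((P.mem_maximalIdeal_iff (MvPowerSeries.X i)).2 (res_psX R i))
      · refine Ideal.map_le_iff_le_comap.2 fun r hr => ?_
        have := Ideal.mem_map_of_mem (G : P.carrier →+* S.carrier)
          (show psC R (Nat.find hex) r ∈ mP from
            CRing.maximalIdeal_le_comap (psC R (Nat.find hex)) (res_psC R _) hr)
        rw [Ideal.mem_comap, ← hfG r]
        exact this
  have hmem : ∀ c : Fin (Nat.find hex) → R.carrier, ∀ r : R.carrier, r ∈ m →
      f r + ∑ i, f (c i) * a i ∈ mS ^ 2 → ∀ i, c i ∈ m := by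
    intro c r hr hc i₀
    by_contra hne
    obtain ⟨u, hu⟩ : IsUnit (f (c i₀)) := (IsLocalRing.notMem_maximalIdeal).1 fun h => hne
      ((R.mem_maximalIdeal_iff _).2 ((CRing.res_comp_apply f hf _).symm.trans ((S.mem_maximalIdeal_iff _).1 h)))
    obtain ⟨n', hn'⟩ : ∃ n', Nat.find hex = n' + 1 := ⟨_, (Nat.succ_pred_eq_of_pos i₀.pos).symm⟩
    refine Nat.find_min hex (m := n') (by omega) ⟨fun j => a (Fin.cast hn'.symm ((Fin.cast hn' i₀).succAbove j)),
      fun j => ham _, haspan.trans (sup_le (Ideal.span_le.2 ?_) le_sup_right)⟩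
    rintro _ ⟨i, rfl⟩
    have hothers : ∀ j, j ≠ i₀ → a j ∈ Ideal.span
        (Set.range fun j => a (Fin.cast hn'.symm ((Fin.cast hn' i₀).succAbove j))) ⊔ J := fun j hj => by
      obtain ⟨j', hj'⟩ := Fin.exists_succAbove_eq (x := Fin.cast hn' j) (y := Fin.cast hn' i₀)
        (fun h => hj ((Fin.cast_inj _).1 h))
      refine Ideal.mem_sup_left (Ideal.subset_span ⟨j', ?_⟩)
      simp [hj']
    by_cases hi : i = i₀
    · subst hi
      have h : f (c i) * a i ∈ Ideal.span
          (Set.range fun j => a (Fin.cast hn'.symm ((Fin.cast hn' i).succAbove j))) ⊔ J := by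
        rw [← Finset.sum_erase_add _ _ (Finset.mem_univ i)] at hc
        rw [show f (c i) * a i = (f r + ((∑ j ∈ Finset.univ.erase i, f (c j) * a j) + f (c i) * a i)) -
          f r - ∑ j ∈ Finset.univ.erase i, f (c j) * a j by ring]
        exact sub_mem (sub_mem (Ideal.mem_sup_right (Ideal.mem_sup_right hc))
          (Ideal.mem_sup_right (Ideal.mem_sup_left (Ideal.mem_map_of_mem f hr))))
          (sum_mem fun j hj => Ideal.mul_mem_left _ _ (hothers j (Finset.ne_of_mem_erase hj)))
      rw [← hu] at h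
      have h' := Ideal.mul_mem_left _ (↑u⁻¹ : S.carrier) h
      rwa [← mul_assoc, Units.inv_mul, one_mul] at h'
    · exact hothers i hi
  have hker : ∀ z ∈ RingHom.ker G, z ∈ m.map (psC R (Nat.find hex)) ⊔ mP ^ 2 := by
    intro z hz
    let z₀ : MvPowerSeries (Fin (Nat.find hex)) R.carrier := z
    obtain ⟨c, hc⟩ := (Submodule.mem_span_range_iff_exists_fun _).1
      (show z₀ - MvPowerSeries.C (MvPowerSeries.constantCoeff z₀) ∈
          Ideal.span (Set.range fun i : Fin (Nat.find hex) => (MvPowerSeries.X i : MvPowerSeries (Fin (Nat.find hex)) R.carrier)) by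
        rw [span_X_eq_ker, RingHom.mem_ker, map_sub, MvPowerSeries.constantCoeff_C, sub_self])
    let c₀ : Fin (Nat.find hex) → R.carrier := fun i => MvPowerSeries.constantCoeff (c i)
    let r₀ : R.carrier := MvPowerSeries.constantCoeff z₀
    have hr₀ : r₀ ∈ m := (R.mem_maximalIdeal_iff _).2 ((CRing.res_comp_apply G hG z).symm.trans (by
      rw [show G z = 0 from hz, map_zero]))
    have hd : ∀ i, (c i - MvPowerSeries.C (c₀ i) : MvPowerSeries (Fin (Nat.find hex)) R.carrier) ∈
        IsLocalRing.maximalIdeal (MvPowerSeries (Fin (Nat.find hex)) R.carrier) := fun i =>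
      (P.mem_maximalIdeal_iff (c i - MvPowerSeries.C (c₀ i))).2 (by
        change R.res (MvPowerSeries.constantCoeff (c i - MvPowerSeries.C (c₀ i))) = 0
        rw [map_sub, MvPowerSeries.constantCoeff_C, sub_self, map_zero])
    have hX : ∀ i, (MvPowerSeries.X i : P.carrier) ∈ mP := fun i => (P.mem_maximalIdeal_iff _).2 (res_psX R i)
    let y : P.carrier := psC R (Nat.find hex) r₀ +
      ∑ i : Fin (Nat.find hex), psC R (Nat.find hex) (c₀ i) * (MvPowerSeries.X i : P.carrier)
    have hzy : z - y ∈ mP ^ 2 := by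
      have e : z - y = ∑ i, (c i - MvPowerSeries.C (c₀ i)) * MvPowerSeries.X i := by
        change z₀ - (MvPowerSeries.C r₀ + ∑ i, MvPowerSeries.C (c₀ i) * MvPowerSeries.X i) = _
        rw [← sub_sub, ← hc, ← Finset.sum_sub_distrib]
        exact Finset.sum_congr rfl fun i _ => by rw [smul_eq_mul, sub_mul]
      rw [e, pow_two]
      exact sum_mem fun i _ => Ideal.mul_mem_mul (hd i) (hX i)
    have hGy : f r₀ + ∑ i, f (c₀ i) * a i ∈ mS ^ 2 := by
      have h1 : G y = f r₀ + ∑ i, f (c₀ i) * a i := by
        rw [map_add, map_sum, hfG]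
        exact congrArg _ (Finset.sum_congr rfl fun i _ => by rw [map_mul, hfG, hGX])
      have h2 := Ideal.mem_map_of_mem (G : P.carrier →+* S.carrier) hzy
      rw [Ideal.map_pow] at h2
      have h3 : G (z - y) ∈ mS ^ 2 := Ideal.pow_right_mono hmP 2 h2
      rwa [map_sub, show G z = 0 from hz, zero_sub, neg_mem_iff, h1] at h3
    rw [← sub_add_cancel z y]
    refine add_mem (Ideal.mem_sup_right hzy) (add_mem (Ideal.mem_sup_left (Ideal.mem_map_of_mem _ hr₀))
      (sum_mem fun i _ => Ideal.mul_mem_right _ _ (Ideal.mem_sup_left (Ideal.mem_map_of_mem _ (hmem c₀ r₀ hr₀ hGy i)))))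
  exact ⟨_, G, hG, hGC, hGs, hker⟩

/-- Relatively smooth coefficient rings are power series rings. -/
theorem exists_ps_equiv_of_versal {R S : CRing Λ k} (f : R.carrier →ₐ[Λ] S.carrier)
    (hf : S.res.comp f = R.res) (hv : IsVersal ((Family.self R.carrier R.res).along f hf)) :
    ∃ (n : ℕ) (e : S.carrier ≃ₐ[Λ] (psRing R n).carrier), ∀ r, e (f r) = psC R n r := by
  obtain ⟨n, G, hG, hGC, hGs, hker⟩ := exists_minimal_cover f hf
  let m := IsLocalRing.maximalIdeal R.carrier
  let mS := IsLocalRing.maximalIdeal S.carrier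
  let P := psRing R n
  let mP := IsLocalRing.maximalIdeal P.carrier
  have : IsAdicComplete mP P.carrier := P.isAdicComplete
  have hfG : ∀ r, G (psC R _ r) = f r := AlgHom.congr_fun hGC
  obtain ⟨s, hs, hsG, hsC⟩ := exists_lift_along (F := hR R.carrier R.res) (rs_hR R.res) hv G hG hGs
    ((Family.self R.carrier R.res).along (psC R _) (res_psC R _)).toFormalElt (AlgHom.id Λ _) (AlgHom.comp_id _)
    (fun N => homSet_ext fun r => (congrArg (Ideal.Quotient.mk (CRing.mpow S N)) (hfG r)).symm)
  have hsf : ∀ r, s (f r) = psC R _ r := fun r => sub_eq_zero.1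
    (IsHausdorff.haus' (I := mP) _ fun N => by
      rw [SModEq.zero, smul_eq_mul, Ideal.mul_top]
      exact Ideal.pow_le_pow_right (Nat.le_succ N) (Ideal.Quotient.eq.1
        (congrArg (fun χ : HomSet R.carrier R.res (P.trunc N) => χ.1 r) (hsC N))))
  have hms : m.map (psC R n) ≤ (IsLocalRing.maximalIdeal S.carrier).map (s : S.carrier →+* P.carrier) :=
    Ideal.map_le_iff_le_comap.2 fun r hr => by
      rw [Ideal.mem_comap, ← hsf r]
      exact Ideal.mem_map_of_mem (s : S.carrier →+* P.carrier) (CRing.maximalIdeal_le_comap f hf hr)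
  have hGs' : ∀ x, G (s x) = x := AlgHom.congr_fun hsG
  have hss : Function.Surjective s := by
    refine surjective_of_cotangent mS mP (s : S.carrier →+* P.carrier)
      (Ideal.map_le_iff_le_comap.2 (CRing.maximalIdeal_le_comap s hs)) (fun z => ?_) fun z hz => ?_
    · refine ⟨G z, (P.mem_maximalIdeal_iff _).2 ?_⟩
      rw [map_sub, sub_eq_zero]
      exact ((CRing.res_comp_apply s hs _).trans (CRing.res_comp_apply G hG z)).symm
    · rw [← sub_add_cancel z (s (G z))]
      refine add_mem (sup_le_sup hms le_rfl (hker _ (RingHom.mem_ker.2 ?_)))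
        (Ideal.mem_sup_left (Ideal.mem_map_of_mem (s : S.carrier →+* P.carrier)
          (CRing.maximalIdeal_le_comap G hG hz)))
      rw [map_sub, hGs', sub_self]
  exact ⟨_, AlgEquiv.ofBijective s ⟨Function.LeftInverse.injective hGs', hss⟩, hsf⟩

/-- Power series rings are relatively smooth. -/
theorem versal_of_ps_equiv {R S : CRing Λ k} (f : R.carrier →ₐ[Λ] S.carrier)
    (hf : S.res.comp f = R.res) {n : ℕ} (e : S.carrier ≃ₐ[Λ] (psRing R n).carrier)
    (he : ∀ r, e (f r) = psC R n r) : IsVersal ((Family.self R.carrier R.res).along f hf) := by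
  have hmax : ∀ x, x ∈ IsLocalRing.maximalIdeal (psRing R n).carrier →
      e.symm x ∈ IsLocalRing.maximalIdeal S.carrier := fun x hx => by
    rw [IsLocalRing.mem_maximalIdeal] at hx ⊢
    exact fun h => hx (by
      have h' := h.map e.toMonoidHom
      simpa using h')
  have hres : S.res.comp e.symm.toAlgHom = (psRing R n).res := AlgHom.ext fun (x : MvPowerSeries (Fin n) R.carrier) => by
    let c : R.carrier := MvPowerSeries.constantCoeff x
    have hm : x - psC R n c ∈ IsLocalRing.maximalIdeal (psRing R n).carrier := by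
      refine ((psRing R n).mem_maximalIdeal_iff _).2 ?_
      rw [map_sub, CRing.res_comp_apply (psC R n) (res_psC R n) c]
      exact sub_self _
    have h := (S.mem_maximalIdeal_iff _).1 (hmax _ hm)
    rw [map_sub, map_sub, sub_eq_zero, ← he c, AlgEquiv.symm_apply_apply,
      CRing.res_comp_apply f hf c] at h
    exact h
  intro B A μ hμ φ y hy
  choose b hb using fun i : Fin n => hμ (φ.1 (e.symm (MvPowerSeries.X i)))
  obtain ⟨χ, hχC, hχX⟩ := exists_ps_point (n := n) y b fun i =>
    mem_of_map_mem μ (by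
      rw [hb]
      exact homSet_mem_max φ (hmax _ (((psRing R n).mem_maximalIdeal_iff _).2 (res_psX R i))))
  let φ' : HomSet (psRing R n).carrier (psRing R n).res A :=
    ⟨φ.1.comp e.symm.toAlgHom, by rw [← AlgHom.comp_assoc, φ.2, hres]⟩
  have hcmp : HomSet.map μ χ = φ' := ps_point_ext
    (fun r => by
      refine (congrArg μ (hχC r)).trans ((congrArg (fun t : HomSet R.carrier R.res A => t.1 r) hy).trans ?_)
      change φ.1 (f r) = φ.1 (e.symm (psC R n r))
      rw [← he, AlgEquiv.symm_apply_apply])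
    (fun i => (congrArg μ (hχX i)).trans (hb i))
  refine ⟨⟨χ.1.comp e.toAlgHom, AlgHom.ext fun s => ?_⟩, homSet_ext fun s => ?_, homSet_ext fun r => ?_⟩
  · exact (homSet_res χ (e s)).trans ((AlgHom.congr_fun hres (e s)).symm.trans
      (congrArg S.res (e.symm_apply_apply s)))
  · exact (congrArg (fun t : HomSet (psRing R n).carrier (psRing R n).res A => t.1 (e s)) hcmp).trans
      (congrArg φ.1 (e.symm_apply_apply s))
  · exact (congrArg χ.1 (he r)).trans (hχC r)

end Groth.Agent.ArtFunLib
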