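import Groth.Agent.Lib.ArtFun.Tangent

/-!
The doubling of a small extension and its consequences.
-/

set_option autoImplicit false

universe u v w

open CategoryTheory

namespace Groth.Agent.ArtFunLib

open ArtFun ArtFun.Art

variable {Λ k : Type u} [CommRing Λ] [Field k] [Algebra Λ k]

theorem res_eq_zero_of_mul_eq_zero {A : Art Λ k} {a t : A} (ht : t ≠ 0) (h : a * t = 0) : A.res a = 0 := by
  by_contra hne
  obtain ⟨u, rfl⟩ := res_ne_zero_isUnit A hne
  exact ht ((Units.mul_right_eq_zero u).1 h)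

theorem mul_eq_of_res_eq {B A : Art Λ k} {p : B ⟶ A} (hp : IsSemismallExt p) {a b x : B}
    (h : B.res a = B.res b) (hx : p x = 0) : a * x = b * x := by
  rw [← sub_eq_zero, ← sub_mul]
  exact (Ideal.mem_bot).1 (hp.2.le (Ideal.mul_mem_mul
    (show a - b ∈ IsLocalRing.maximalIdeal B by rw [mem_maximalIdeal_iff, map_sub, h, sub_self])
    (RingHom.mem_ker.2 hx)))

theorem ker_eq_span {B A : Art Λ k} {p : B ⟶ A} (hp : IsSmallExt p) {s : B} (hs : p s = 0) (hs0 : s ≠ 0) :
    RingHom.ker p.toAlgHom = Ideal.span {s} := by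
  obtain ⟨t, ht⟩ := hp.2.2.1
  refine le_antisymm ?_ ((Ideal.span_singleton_le_iff_mem _).2 (RingHom.mem_ker.2 hs))
  rw [ht]
  have hs' : s ∈ RingHom.ker p.toAlgHom := RingHom.mem_ker.2 hs
  rw [ht] at hs'
  obtain ⟨a, rfl⟩ := Ideal.mem_span_singleton'.1 hs'
  refine (Ideal.span_singleton_le_iff_mem _).2 ?_
  obtain ⟨u, rfl⟩ := res_ne_zero_isUnit B (a := a) fun h => hs0 <| by
    rw [mul_eq_of_res_eq (a := a) (b := 0) hp.isSemismallExt (by rw [h, map_zero])
      (RingHom.mem_ker.1 (by rw [ht]; exact Ideal.mem_span_singleton_self t)), zero_mul]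
  exact Ideal.mem_span_singleton'.2 ⟨↑u⁻¹, by rw [← mul_assoc, Units.inv_mul, one_mul]⟩

/-- The doubling `B ×_A B ≅ B ×ₖ k[ε]` of a small extension. -/
theorem exists_doubled {B A : Art Λ k} (p : B ⟶ A) (hp : IsSmallExt p) (t : B)
    (ht : RingHom.ker p.toAlgHom = Ideal.span {t}) :
    ∃ (P : Art Λ k) (p₁ p₂ : P ⟶ B) (g : P ⟶ dual Λ k), IsFibreProd p₁ p₂ p p ∧
      IsFibreProd p₁ g (toBase B) (toBase (dual Λ k)) ∧
      ∀ (z : P) (a : B), a * t = p₂ z - p₁ z → B.res a = TrivSqZeroExt.snd (g z) := by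
  obtain ⟨P, p₁, p₂, hP⟩ := exists_isFibreProd p p hp.1
  have htk : p t = 0 := RingHom.mem_ker.1 (by rw [ht]; exact Ideal.mem_span_singleton_self t)
  have ht0 : t ≠ 0 := fun h => hp.2.1 (by rw [ht, h]; simp)
  have hex : ∀ z : P, ∃ a : B, a * t = p₂ z - p₁ z := fun z => by
    have h : p₂ z - p₁ z ∈ RingHom.ker p.toAlgHom := RingHom.mem_ker.2 (by
      change p (p₂ z - p₁ z) = 0
      rw [map_sub, hP.w_apply, sub_self])
    rw [ht] at h
    exact Ideal.mem_span_singleton'.1 h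
  choose co hco using hex
  have huniq : ∀ (z : P) (a : B), a * t = p₂ z - p₁ z → B.res a = B.res (co z) := fun z a ha => by
    rw [← sub_eq_zero, ← map_sub]
    exact res_eq_zero_of_mul_eq_zero ht0 (by rw [sub_mul, ha, hco, sub_self])
  let g₀ : P →ₐ[Λ] DualNumber k :=
    { toFun := fun z => (TrivSqZeroExt.inl (P.res z) + TrivSqZeroExt.inr (B.res (co z)) : DualNumber k)
      map_one' := TrivSqZeroExt.ext (by simp) (by
        have h := huniq 1 0 (by simp)
        rw [map_zero] at h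
        simp [← h])
      map_mul' := fun x y => TrivSqZeroExt.ext (by simp) (by
        obtain ⟨a, ha⟩ := B.res_surjective (P.res x)
        obtain ⟨b, hb⟩ := B.res_surjective (P.res y)
        have h := huniq (x * y) (a * co y + b * co x) (by
          have e1 : p₂ x * (p₂ y - p₁ y) = a * (p₂ y - p₁ y) :=
            mul_eq_of_res_eq hp.isSemismallExt (by rw [res_app, ha]) (by
              rw [map_sub, hP.w_apply, sub_self])
          have e2 : p₁ y * (p₂ x - p₁ x) = b * (p₂ x - p₁ x) :=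
            mul_eq_of_res_eq hp.isSemismallExt (by rw [res_app, hb]) (by
              rw [map_sub, hP.w_apply, sub_self])
          rw [map_mul, map_mul]
          linear_combination a * hco y + b * hco x - e1 - e2)
        rw [map_add, map_mul, map_mul, ha, hb] at h
        simp only [TrivSqZeroExt.snd_add, TrivSqZeroExt.snd_inl, TrivSqZeroExt.snd_inr,
          TrivSqZeroExt.snd_mul, TrivSqZeroExt.fst_add, TrivSqZeroExt.fst_inl, TrivSqZeroExt.fst_inr,
          zero_add, add_zero, op_smul_eq_smul, smul_eq_mul]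
        exact h.symm)
      map_zero' := TrivSqZeroExt.ext (by simp) (by
        have h := huniq 0 0 (by simp)
        rw [map_zero] at h
        simp [← h])
      map_add' := fun x y => TrivSqZeroExt.ext (by simp) (by
        have h := huniq (x + y) (co x + co y) (by rw [add_mul, hco, hco, map_add, map_add]; ring)
        rw [map_add] at h
        simp only [TrivSqZeroExt.snd_add, TrivSqZeroExt.snd_inl, TrivSqZeroExt.snd_inr, zero_add]
        exact h.symm)
      commutes' := fun c => TrivSqZeroExt.ext (by simp [TrivSqZeroExt.algebraMap_eq_inl']) (by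
        have h := huniq (algebraMap Λ P c) 0 (by simp)
        rw [map_zero] at h
        simp [TrivSqZeroExt.algebraMap_eq_inl', ← h]) }
  let g : P ⟶ dual Λ k := Art.homMk g₀ (AlgHom.ext fun a => by
    change P.res a + 0 = P.res a
    exact add_zero _)
  refine ⟨P, p₁, p₂, g, hP, ⟨(eq_toBase _).trans (eq_toBase _).symm, fun x y e1 e2 => ?_,
    fun b ε e => ?_⟩, fun z a ha => (huniq z a ha).trans (zero_add _).symm⟩
  · refine hP.inj x y e1 ?_
    have h : (0 : k) + B.res (co x) = 0 + B.res (co y) := congrArg TrivSqZeroExt.snd e2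
    rw [zero_add, zero_add] at h
    have := mul_eq_of_res_eq hp.isSemismallExt h htk
    rw [hco, hco, e1] at this
    exact sub_left_injective this
  · obtain ⟨a, ha⟩ := B.res_surjective (TrivSqZeroExt.snd ε)
    obtain ⟨z, h1, h2⟩ := hP.surj b (b + a * t) (by rw [map_add, map_mul, htk, mul_zero, add_zero])
    refine ⟨z, h1, TrivSqZeroExt.ext (R := k) (M := k) ?_ ?_⟩
    · change P.res z + 0 = _
      rw [add_zero, ← res_app p₁, h1]
      exact e
    · change 0 + B.res (co z) = _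
      rw [zero_add, ← huniq z a (by rw [h1, h2]; ring), ha]

theorem diag_dual {B P : Art Λ k} {p₁ p₂ : P ⟶ B} {g : P ⟶ dual Λ k} {t : B}
    (hg : ∀ (z : P) (a : B), a * t = p₂ z - p₁ z → B.res a = TrivSqZeroExt.snd (g z))
    {d : B ⟶ P} (h1 : d ≫ p₁ = 𝟙 B) (h2 : d ≫ p₂ = 𝟙 B) : d ≫ g = toBase B ≫ baseToDual := by
  refine hom_ext' fun b => TrivSqZeroExt.ext (R := k) (M := k) (res_app (d ≫ g) b) ?_
  refine Eq.trans (hg (d b) 0 ?_).symm ((map_zero _).trans rfl)
  have e1 : p₁ (d b) = b := congr_hom h1 b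
  have e2 : p₂ (d b) = b := congr_hom h2 b
  rw [e1, e2, sub_self, zero_mul]

/-- Two lifts along a small extension with the same image and the same difference class are equal. -/
theorem eq_of_doubled {F : Art Λ k ⥤ Type v} (h2 : Heps F) {B P : Art Λ k} {p₁ p₂ : P ⟶ B}
    {g : P ⟶ dual Λ k} (h' : IsFibreProd p₁ g (toBase B) (toBase (dual Λ k))) {d : B ⟶ P}
    (hd1 : d ≫ p₁ = 𝟙 B) (hd2 : d ≫ p₂ = 𝟙 B) (w : F.obj P)
    (hθ : F.map g w = F.map g (F.map d (F.map p₁ w))) : F.map p₁ w = F.map p₂ w := by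
  have e : w = F.map d (F.map p₁ w) :=
    (cmp_injective_iff F h').1 (h2 _ _ h').1 _ _
      ((map_id' F (F.map p₁ w)).symm.trans ((map_congr F hd1.symm _).trans (map_comp' F _ _ _))) hθ
  conv_rhs => rw [e, ← map_comp', hd2, map_id']

variable {F : Art Λ k ⥤ Type v} {G : Art Λ k ⥤ Type w}

/-- Schlessinger's criterion for smoothness. -/
theorem lifts_of_tangent (η : ∀ A, F.obj A → G.obj A) (hη : Natural η) (hF0 : H0 F)
    (hF2 : ∀ ⦃B A' : Art Λ k⦄ (p' : B ⟶ A') (p'' : B ⟶ dual Λ k)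
      (h : IsFibreProd p' p'' (toBase A') (toBase (dual Λ k))), Function.Surjective (cmp F h))
    (hG1 : Hbar G) (hG2 : Heps G) (hT : Function.Surjective (η (dual Λ k)))
    (hlift : ∀ ⦃B A : Art Λ k⦄ (μ : B ⟶ A), IsSmallExt μ → ∀ (x : F.obj A) (y : G.obj B),
      G.map μ y = η A x → ∃ x' : F.obj B, F.map μ x' = x)
    ⦃B A : Art Λ k⦄ (μ : B ⟶ A) (hμ : Function.Surjective μ) : Lifts η μ := by
  refine lifts_of_small η hη (fun B A μ hμ x y hy => ?_) μ hμ
  obtain ⟨x', hx'⟩ := hlift μ hμ x y hy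
  obtain ⟨t, ht⟩ := hμ.2.2.1
  obtain ⟨P, p₁, p₂, g, hP, h', -⟩ := exists_doubled μ hμ t ht
  obtain ⟨zG, hz1, hz2⟩ := (cmp_surjective_iff G hP).1 (hG1 _ _ _ _ hP hμ) (η B x') y
    (by rw [← hη, hx', hy])
  obtain ⟨θ, hθ⟩ := hT (G.map g zG)
  obtain ⟨z, hw1, hw2⟩ := (cmp_surjective_iff F h').1 (hF2 _ _ h') x' θ (subsingleton_base hF0 _ _)
  have e : η P z = zG := (cmp_injective_iff G h').1 (hG2 _ _ h').1 _ _
    (by rw [← hη, hw1, hz1]) (by rw [← hη, hw2, hθ])
  exact ⟨F.map p₂ z, by rw [← map_map_eq F hP.w, hw1, hx'], by rw [hη, e, hz2]⟩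

/-- A family with injective differential is injective. -/
theorem injective_of_tangent (η : ∀ A, F.obj A → G.obj A) (hη : Natural η) (hF0 : H0 F) (hF1 : Hbar F)
    (hF2 : Heps F) (hG4 : HSq G) (hT : Function.Injective (η (dual Λ k))) (A : Art Λ k) :
    Function.Injective (η A) := by
  suffices H : ∀ ⦃C B : Art Λ k⦄ (f : B ⟶ C), Function.Surjective f →
      Function.Injective (η C) → Function.Injective (η B) from
    H (toBase A) (surjective_toBase A) fun x y _ => subsingleton_base hF0 x y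
  intro C B f hf
  refine surjInduction (P := fun C B _ => Function.Injective (η C) → Function.Injective (η B))
    (fun C B e he hC x y hxy => ?_) (fun C B p hp hC x y hxy => ?_)
    (fun C D B p q _ _ ih ih' hC => ih (ih' hC)) f hf
  · exact (map_bijective F e).1 (hC (by rw [hη, hη, hxy]))
  · obtain ⟨t, ht⟩ := hp.2.2.1
    obtain ⟨P, p₁, p₂, g, hP, h', hg⟩ := exists_doubled p hp t ht
    obtain ⟨w, hw1, hw2⟩ := (cmp_surjective_iff F hP).1 (hF1 _ _ _ _ hP hp) x y
      (hC (by rw [hη, hη, hxy]))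
    let d : B ⟶ P := fibLift hP (𝟙 B) (𝟙 B) rfl
    have hd1 : d ≫ p₁ = 𝟙 B := fibLift_fst _ _ _ _
    have hd2 : d ≫ p₂ = 𝟙 B := fibLift_snd _ _ _ _
    have e : η P w = G.map d (η B x) := (cmp_injective_iff G hP).1 (hG4 _ _ _ hP hp).1 _ _
      (by rw [← hη, hw1, ← map_comp', hd1, map_id'])
      (by rw [← hη, hw2, ← map_comp', hd2, map_id', hxy])
    rw [← hw1, ← hw2]
    refine eq_of_doubled hF2 h' hd1 hd2 w (hT ?_)
    rw [hη, e, hη, hη, hw1]

/-- Homogeneity from Schlessinger's conditions. -/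
theorem rs_of_hbar_heps_hsq (h1 : Hbar F) (h2 : Heps F) (h4 : HSq F) : RS F := by
  refine rs_of_smallExt fun B A A' A'' p' p'' f' f'' h hf => ⟨?_, h1 _ _ _ _ h hf⟩
  refine (cmp_injective_iff F h).2 fun z z' e1 e2 => ?_
  have hp' := isSmallExt_fst h hf
  obtain ⟨τ, hτ⟩ := hp'.2.2.1
  have hτk : p' τ = 0 := RingHom.mem_ker.1 (by rw [hτ]; exact Ideal.mem_span_singleton_self τ)
  have hτ0 : τ ≠ 0 := fun h0 => hp'.2.1 (by rw [hτ, h0]; simp)
  have htk : f'' (p'' τ) = 0 := by rw [← h.w_apply, hτk, map_zero]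
  have ht0 : p'' τ ≠ 0 := fun h0 => hτ0 (h.inj _ _ (by rw [hτk, map_zero]) (by rw [h0, map_zero]))
  obtain ⟨P, p₁, p₂, g, hP, hP', hg⟩ := exists_doubled p' hp' τ hτ
  obtain ⟨Q, q₁, q₂, g'', hQ, -, hg''⟩ := exists_doubled f'' hf (p'' τ) (ker_eq_span hf htk ht0)
  have hl : (p₁ ≫ p'') ≫ f'' = (p₂ ≫ p'') ≫ f'' := by
    rw [Category.assoc, Category.assoc, ← h.w, ← Category.assoc, hP.w, Category.assoc]
  let l : P ⟶ Q := fibLift hQ (p₁ ≫ p'') (p₂ ≫ p'') hl
  have hl1 : l ≫ q₁ = p₁ ≫ p'' := fibLift_fst _ _ _ _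
  have hl2 : l ≫ q₂ = p₂ ≫ p'' := fibLift_snd _ _ _ _
  have hlg : l ≫ g'' = g := hom_ext' fun x => by
    refine TrivSqZeroExt.ext (R := k) (M := k) ?_ ?_
    · exact (res_app (l ≫ g'') x).trans (res_app g x).symm
    · obtain ⟨a, ha⟩ : ∃ a : B, a * τ = p₂ x - p₁ x := by
        have hm : p₂ x - p₁ x ∈ RingHom.ker p'.toAlgHom := RingHom.mem_ker.2 (by
          change p' (p₂ x - p₁ x) = 0
          rw [map_sub, hP.w_apply, sub_self])
        rw [hτ] at hm
        exact Ideal.mem_span_singleton'.1 hm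
      refine Eq.trans (hg'' (l x) (p'' a) ?_).symm ((res_app p'' a).trans (hg x a ha))
      have e1' : q₁ (l x) = p'' (p₁ x) := congr_hom hl1 x
      have e2' : q₂ (l x) = p'' (p₂ x) := congr_hom hl2 x
      rw [e1', e2', ← map_sub, ← ha, map_mul]
  obtain ⟨w, hw1, hw2⟩ := (cmp_surjective_iff F hP).1 (h1 _ _ _ _ hP hp') z z' e1
  let d : B ⟶ P := fibLift hP (𝟙 B) (𝟙 B) rfl
  have hd1 : d ≫ p₁ = 𝟙 B := fibLift_fst _ _ _ _
  have hd2 : d ≫ p₂ = 𝟙 B := fibLift_snd _ _ _ _
  have e : F.map l w = F.map l (F.map d z) := (cmp_injective_iff F hQ).1 (h4 _ _ _ hQ hf).1 _ _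
    (by rw [map_map_eq F hl1, hw1, map_map_eq F hl1, ← map_comp' F d p₁, hd1, map_id'])
    (by rw [map_map_eq F hl2, hw2, ← e2, map_map_eq F hl2, ← map_comp' F d p₂, hd2, map_id'])
  rw [← hw1, ← hw2]
  refine eq_of_doubled h2 hP' hd1 hd2 w ?_
  rw [hw1, ← hlg, map_comp', e, ← map_comp']

end Groth.Agent.ArtFunLib
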