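import Groth.Prelude.Def_ArtFun3
import Mathlib.RingTheory.Artinian.Module
import Mathlib.RingTheory.HopkinsLevitzki
import Mathlib.RingTheory.Nakayama

/-!
The category `Art Λ k`: isomorphisms, nilpotency, small extensions and fibre products.
-/

set_option autoImplicit false

universe u v w

open CategoryTheory

namespace Groth.Agent.ArtFunLib

open ArtFun ArtFun.Art

variable {Λ k : Type u} [CommRing Λ] [Field k] [Algebra Λ k]

/-- The maximal ideal. -/
noncomputable abbrev 𝔪 (A : Art Λ k) : Ideal A := IsLocalRing.maximalIdeal A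

theorem isNilpotent_𝔪 (A : Art Λ k) : IsNilpotent (𝔪 A) :=
  (isArtinianRing_iff_isNilpotent_maximalIdeal A).1 inferInstance

theorem res_ne_zero_isUnit (A : Art Λ k) {a : A} (h : A.res a ≠ 0) : IsUnit a := by
  by_contra hu
  exact h ((A.mem_maximalIdeal_iff a).1 ((IsLocalRing.mem_maximalIdeal a).2 hu))

theorem exists_sub_mem (A : Art Λ k) (c : k) : ∃ a : A, A.res a = c :=
  A.res_surjective c

theorem map_mem {A B : Art Λ k} (f : A ⟶ B) {a : A} (ha : a ∈ 𝔪 A) : f a ∈ 𝔪 B := by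
  rw [mem_maximalIdeal_iff] at ha ⊢
  rw [res_app, ha]

theorem mem_of_map_mem {A B : Art Λ k} (f : A ⟶ B) {a : A} (ha : f a ∈ 𝔪 B) : a ∈ 𝔪 A := by
  rw [mem_maximalIdeal_iff] at ha ⊢
  rwa [res_app] at ha

theorem ker_le {A B : Art Λ k} (f : A ⟶ B) : RingHom.ker f.toAlgHom ≤ 𝔪 A := fun a ha =>
  mem_of_map_mem f (by rw [RingHom.mem_ker.1 ha]; exact zero_mem _)

theorem hom_ext' {A B : Art Λ k} {f g : A ⟶ B} (h : ∀ a : A, f a = g a) : f = g :=
  Art.hom_ext (AlgHom.ext h)

theorem congr_hom {A B : Art Λ k} {f g : A ⟶ B} (h : f = g) (a : A) : f a = g a := by rw [h]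

/-- A bijective morphism as an isomorphism. -/
noncomputable def isoOfBijective {A B : Art Λ k} (f : A ⟶ B) (h : Function.Bijective f) : A ≅ B where
  hom := f
  inv := ⟨(AlgEquiv.ofBijective f.toAlgHom h).symm.toAlgHom, AlgHom.ext fun b => by
    obtain ⟨a, rfl⟩ := h.2 b
    change A.res ((AlgEquiv.ofBijective f.toAlgHom h).symm ((AlgEquiv.ofBijective f.toAlgHom h) a)) = _
    rw [AlgEquiv.symm_apply_apply]
    exact (res_app f a).symm⟩
  hom_inv_id := hom_ext' fun a => (AlgEquiv.ofBijective f.toAlgHom h).symm_apply_apply a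
  inv_hom_id := hom_ext' fun b => (AlgEquiv.ofBijective f.toAlgHom h).apply_symm_apply b

theorem isIso_of_bijective {A B : Art Λ k} (f : A ⟶ B) (h : Function.Bijective f) : IsIso f :=
  (isoOfBijective f h).isIso_hom

theorem bijective_of_isIso {A B : Art Λ k} (f : A ⟶ B) [IsIso f] : Function.Bijective f :=
  Function.bijective_iff_has_inverse.2
    ⟨inv f, fun a => congr_hom (IsIso.hom_inv_id f) a, fun b => congr_hom (IsIso.inv_hom_id f) b⟩

theorem surjective_comp {A B C : Art Λ k} {f : A ⟶ B} {g : B ⟶ C} (hf : Function.Surjective f)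
    (hg : Function.Surjective g) : Function.Surjective (f ≫ g) :=
  hg.comp hf

theorem surjective_toBase (A : Art Λ k) : Function.Surjective (toBase A) :=
  A.res_surjective

theorem isIso_of_ker_eq_bot {A B : Art Λ k} (f : A ⟶ B) (hf : Function.Surjective f)
    (h : RingHom.ker f.toAlgHom = ⊥) : IsIso f :=
  isIso_of_bijective f ⟨(RingHom.injective_iff_ker_eq_bot f.toAlgHom).2 h, hf⟩

theorem ker_quotMk (C : Art Λ k) (K : Ideal C) (hK : K ≤ 𝔪 C) :
    RingHom.ker (quotMk C K hK).toAlgHom = K := by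
  ext a
  exact Ideal.Quotient.eq_zero_iff_mem

theorem quotFactor_surjective {C D : Art Λ k} {K : Ideal C} (hK : K ≤ 𝔪 C) (p : C ⟶ D)
    (hp : K ≤ RingHom.ker p.toAlgHom) (hs : Function.Surjective p) :
    Function.Surjective (quotFactor hK p hp) := fun d => by
  obtain ⟨c, rfl⟩ := hs d
  exact ⟨Ideal.Quotient.mk K c, rfl⟩

theorem ker_quotFactor {C D : Art Λ k} {K : Ideal C} (hK : K ≤ 𝔪 C) (p : C ⟶ D)
    (hp : K ≤ RingHom.ker p.toAlgHom) :
    RingHom.ker (quotFactor hK p hp).toAlgHom =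
      (RingHom.ker p.toAlgHom).map (Ideal.Quotient.mk K) := by
  refine le_antisymm (fun (x : C ⧸ K) hx => ?_) (Ideal.map_le_iff_le_comap.2 fun a ha => ha)
  obtain ⟨a, rfl⟩ := Ideal.Quotient.mk_surjective x
  exact Ideal.mem_map_of_mem _ (show a ∈ RingHom.ker p.toAlgHom from hx)

/-- The quotient by the kernel of a surjection. -/
noncomputable def quotKerIso {A B : Art Λ k} (p : A ⟶ B) (hp : Function.Surjective p) :
    quot A (RingHom.ker p.toAlgHom) (ker_le p) ≅ B :=
  isoOfBijective (quotFactor (ker_le p) p le_rfl)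
    (show Function.Bijective (quotFactor (ker_le p) p le_rfl).toAlgHom from
      ⟨(RingHom.injective_iff_ker_eq_bot (quotFactor (ker_le p) p le_rfl).toAlgHom).2
        (by rw [ker_quotFactor]; exact Ideal.map_quotient_self _),
        quotFactor_surjective _ _ _ hp⟩)

theorem quotMk_quotKerIso {A B : Art Λ k} (p : A ⟶ B) (hp : Function.Surjective p) :
    quotMk A (RingHom.ker p.toAlgHom) (ker_le p) ≫ (quotKerIso p hp).hom = p :=
  quotMk_quotFactor _ _ _

/-- A morphism killing the kernel of a surjection factors through it. -/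
noncomputable def descHom {A B C : Art Λ k} (p : A ⟶ B) (hp : Function.Surjective p) (f : A ⟶ C)
    (h : RingHom.ker p.toAlgHom ≤ RingHom.ker f.toAlgHom) : B ⟶ C :=
  (quotKerIso p hp).inv ≫ quotFactor (ker_le p) f h

theorem descHom_fac {A B C : Art Λ k} (p : A ⟶ B) (hp : Function.Surjective p) (f : A ⟶ C)
    (h : RingHom.ker p.toAlgHom ≤ RingHom.ker f.toAlgHom) : p ≫ descHom p hp f h = f := by
  have e : p ≫ (quotKerIso p hp).inv = quotMk A (RingHom.ker p.toAlgHom) (ker_le p) :=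
    (Iso.comp_inv_eq _).2 (quotMk_quotKerIso p hp).symm
  rw [descHom, ← Category.assoc, e]
  exact quotMk_quotFactor _ _ _

theorem descHom_apply {A B C : Art Λ k} (p : A ⟶ B) (hp : Function.Surjective p) (f : A ⟶ C)
    (h : RingHom.ker p.toAlgHom ≤ RingHom.ker f.toAlgHom) (a : A) :
    descHom p hp f h (p a) = f a :=
  congr_hom (descHom_fac p hp f h) a

theorem epi_of_surjective {A B C : Art Λ k} (p : A ⟶ B) (hp : Function.Surjective p) {f g : B ⟶ C}
    (h : p ≫ f = p ≫ g) : f = g :=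
  hom_ext' fun b => by
    obtain ⟨a, rfl⟩ := hp b
    exact congr_hom h a

/-- Every surjection is a composite of small extensions. -/
theorem surjInduction {P : ∀ ⦃A B : Art Λ k⦄, (B ⟶ A) → Prop}
    (hiso : ∀ ⦃A B : Art Λ k⦄ (e : B ⟶ A), IsIso e → P e)
    (hsmall : ∀ ⦃A B : Art Λ k⦄ (p : B ⟶ A), IsSmallExt p → P p)
    (hcomp : ∀ ⦃A B C : Art Λ k⦄ (p : C ⟶ B) (q : B ⟶ A),
      Function.Surjective p → Function.Surjective q → P p → P q → P (p ≫ q))
    ⦃A B : Art Λ k⦄ (f : B ⟶ A) (hf : Function.Surjective f) : P f := by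
  suffices H : ∀ (I : Ideal B) (A : Art Λ k) (f : B ⟶ A), Function.Surjective f →
      RingHom.ker f.toAlgHom = I → P f from H _ A f hf rfl
  intro I
  induction I using WellFoundedLT.induction with
  | _ I ih =>
    intro A f hf hI
    by_cases h0 : I = ⊥
    · exact hiso f (isIso_of_ker_eq_bot f hf (hI.trans h0))
    obtain ⟨K, hKI, hmax⟩ := set_has_maximal_iff_noetherian.2 (inferInstance : IsNoetherian B B)
      {K : Ideal B | K < I} ⟨⊥, bot_lt_iff_ne_bot.2 h0⟩
    have hKI' : K < I := hKI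
    have hKker : K ≤ RingHom.ker f.toAlgHom := hI ▸ hKI'.le
    have hKm : K ≤ 𝔪 B := hKker.trans (ker_le f)
    rw [← quotMk_quotFactor hKm f hKker]
    refine hcomp _ _ (quotMk_surjective B K hKm) (quotFactor_surjective _ _ _ hf)
      (ih K hKI' _ _ (quotMk_surjective B K hKm) (ker_quotMk B K hKm))
      (hsmall _ ⟨quotFactor_surjective _ _ _ hf, ?_, ?_, ?_⟩)
    · rw [ker_quotFactor, hI]
      intro h
      have h' := (Ideal.map_eq_bot_iff_le_ker (Ideal.Quotient.mk K)).1 h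
      rw [Ideal.mk_ker] at h'
      exact not_le_of_gt hKI' h'
    · obtain ⟨x, hxI, hxK⟩ := SetLike.exists_of_lt hKI'
      have hsup : K ⊔ Ideal.span {x} = I := by
        have hle : K ⊔ Ideal.span {x} ≤ I := sup_le hKI'.le ((Ideal.span_singleton_le_iff_mem I).2 hxI)
        rcases hle.eq_or_lt with h | h
        · exact h
        · exact absurd (lt_of_le_of_ne le_sup_left fun h' => hxK (by
            rw [h']; exact Ideal.mem_sup_right (Ideal.mem_span_singleton_self x))) (hmax _ h)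
      refine ⟨Ideal.Quotient.mk K x, ?_⟩
      rw [ker_quotFactor, hI, ← hsup, Ideal.map_sup, Ideal.map_quotient_self, bot_sup_eq,
        Ideal.map_span, Set.image_singleton]
      rfl
    · have hlt : K ⊔ 𝔪 B * I = K := by
        have hle : K ⊔ 𝔪 B * I ≤ I := sup_le hKI'.le Ideal.mul_le_right
        rcases hle.eq_or_lt with h | h
        · exfalso
          exact not_le_of_gt hKI' (Submodule.le_of_le_smul_of_le_jacobson_bot (IsNoetherian.noetherian I)
            (IsLocalRing.maximalIdeal_le_jacobson ⊥) h.ge)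
        · by_contra hne
          exact hmax _ h (lt_of_le_of_ne le_sup_left (Ne.symm hne))
      have hq : 𝔪 (quot B K hKm) = (𝔪 B).map (Ideal.Quotient.mk K) := by
        refine le_antisymm (fun (x : B ⧸ K) hx => ?_) (Ideal.map_le_iff_le_comap.2 fun a ha => ?_)
        · obtain ⟨a, rfl⟩ := Ideal.Quotient.mk_surjective x
          exact Ideal.mem_map_of_mem _ (mem_of_map_mem (quotMk B K hKm) hx)
        · exact map_mem (quotMk B K hKm) ha
      change 𝔪 (quot B K hKm) * _ = _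
      rw [ker_quotFactor, hI, hq]
      exact (Ideal.map_mul _ _ _).symm.trans
        ((Ideal.map_eq_bot_iff_le_ker _).2 (by rw [Ideal.mk_ker]; exact sup_eq_left.1 hlt))

section FibreProd

variable {B A A' A'' : Art Λ k} {p' : B ⟶ A'} {p'' : B ⟶ A''} {f' : A' ⟶ A} {f'' : A'' ⟶ A}

/-- The morphism into a fibre product. -/
noncomputable def fibLift (h : IsFibreProd p' p'' f' f'') {C : Art Λ k} (a : C ⟶ A') (b : C ⟶ A'')
    (w : a ≫ f' = b ≫ f'') : C ⟶ B :=
  have hx : ∀ c : C, ∃ z : B, p' z = a c ∧ p'' z = b c := fun c => h.surj _ _ (congr_hom w c)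
  have hz : ∀ (c : C) (z : B), p' z = a c → p'' z = b c → (hx c).choose = z := fun c z h1 h2 =>
    h.inj _ _ ((hx c).choose_spec.1.trans h1.symm) ((hx c).choose_spec.2.trans h2.symm)
  Art.homMk
    { toFun := fun c => (hx c).choose
      map_one' := hz 1 1 (by simp) (by simp)
      map_mul' := fun c c' => hz _ _
        (by simp [(hx c).choose_spec.1, (hx c').choose_spec.1])
        (by simp [(hx c).choose_spec.2, (hx c').choose_spec.2])
      map_zero' := hz 0 0 (by simp) (by simp)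
      map_add' := fun c c' => hz _ _
        (by simp [(hx c).choose_spec.1, (hx c').choose_spec.1])
        (by simp [(hx c).choose_spec.2, (hx c').choose_spec.2])
      commutes' := fun r => hz _ _ (by simp [AlgHom.commutes]) (by simp [AlgHom.commutes]) }
    (AlgHom.ext fun c => by
      change B.res ((hx c).choose) = C.res c
      rw [← res_app p', (hx c).choose_spec.1, res_app])

theorem fibLift_fst (h : IsFibreProd p' p'' f' f'') {C : Art Λ k} (a : C ⟶ A') (b : C ⟶ A'')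
    (w : a ≫ f' = b ≫ f'') : fibLift h a b w ≫ p' = a :=
  hom_ext' fun c => (h.surj _ _ (congr_hom w c)).choose_spec.1

theorem fibLift_snd (h : IsFibreProd p' p'' f' f'') {C : Art Λ k} (a : C ⟶ A') (b : C ⟶ A'')
    (w : a ≫ f' = b ≫ f'') : fibLift h a b w ≫ p'' = b :=
  hom_ext' fun c => (h.surj _ _ (congr_hom w c)).choose_spec.2

theorem fibHom_ext (h : IsFibreProd p' p'' f' f'') {C : Art Λ k} {g g' : C ⟶ B}
    (h1 : g ≫ p' = g' ≫ p') (h2 : g ≫ p'' = g' ≫ p'') : g = g' :=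
  hom_ext' fun c => h.inj _ _ (congr_hom h1 c) (congr_hom h2 c)

theorem isFibreProd_symm (h : IsFibreProd p' p'' f' f'') : IsFibreProd p'' p' f'' f' where
  w := h.w.symm
  inj b₁ b₂ h1 h2 := h.inj b₁ b₂ h2 h1
  surj a'' a' e := by
    obtain ⟨b, h1, h2⟩ := h.surj a' a'' e.symm
    exact ⟨b, h2, h1⟩

theorem surjective_fst (h : IsFibreProd p' p'' f' f'') (hf : Function.Surjective f'') :
    Function.Surjective p' := fun a' => by
  obtain ⟨a'', ha⟩ := hf (f' a')
  obtain ⟨b, h1, -⟩ := h.surj a' a'' ha.symm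
  exact ⟨b, h1⟩

theorem surjective_snd (h : IsFibreProd p' p'' f' f'') (hf : Function.Surjective f') :
    Function.Surjective p'' :=
  surjective_fst (isFibreProd_symm h) hf

theorem isSmallExt_fst (h : IsFibreProd p' p'' f' f'') (hf : IsSmallExt f'') : IsSmallExt p' := by
  obtain ⟨hs, hne, ⟨t, ht⟩, hm⟩ := hf
  have htk : f'' t = 0 := RingHom.mem_ker.1 (by rw [ht]; exact Ideal.mem_span_singleton_self t)
  obtain ⟨τ, hτ1, hτ2⟩ := h.surj 0 t (by rw [map_zero, htk])
  have hgen : RingHom.ker p'.toAlgHom = Ideal.span {τ} := by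
    refine le_antisymm (fun b hb => ?_)
      ((Ideal.span_singleton_le_iff_mem _).2 (RingHom.mem_ker.2 hτ1))
    have hk : p'' b ∈ RingHom.ker f''.toAlgHom := RingHom.mem_ker.2 (by
      change f'' (p'' b) = 0
      rw [← h.w_apply, (RingHom.mem_ker.1 hb : p' b = 0), map_zero])
    rw [ht] at hk
    obtain ⟨c, hc⟩ := Ideal.mem_span_singleton'.1 hk
    obtain ⟨b₀, hb₀⟩ := B.res_surjective (A''.res c)
    refine Ideal.mem_span_singleton'.2 ⟨b₀, h.inj _ _ ?_ ?_⟩
    · rw [map_mul, hτ1, mul_zero]; exact (RingHom.mem_ker.1 hb : p' b = 0).symm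
    · rw [map_mul, hτ2, ← hc]
      refine sub_eq_zero.1 ?_
      rw [← sub_mul]
      refine (Ideal.mem_bot).1 (hm.le (Ideal.mul_mem_mul
        (show p'' b₀ - c ∈ 𝔪 A'' by rw [mem_maximalIdeal_iff, map_sub, res_app, hb₀, sub_self]) ?_))
      rw [ht]
      exact Ideal.mem_span_singleton_self t
  refine ⟨surjective_fst h hs, ?_, ⟨τ, hgen⟩, ?_⟩
  · intro h0
    refine hne ?_
    rw [ht, Ideal.span_singleton_eq_bot, ← hτ2]
    have : τ = 0 := by
      have hmem : τ ∈ RingHom.ker p'.toAlgHom := RingHom.mem_ker.2 hτ1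
      rwa [h0, Ideal.mem_bot] at hmem
    rw [this, map_zero]
  · refine le_bot_iff.1 (Ideal.mul_le.2 fun b hb x hx => ?_)
    refine (Ideal.mem_bot).2 (h.inj _ _ ?_ ?_)
    · rw [map_mul, (RingHom.mem_ker.1 hx : p' x = 0), mul_zero, map_zero]
    · rw [map_mul, map_zero]
      refine (Ideal.mem_bot).1 (hm.le (Ideal.mul_mem_mul (map_mem p'' hb) ?_))
      refine RingHom.mem_ker.2 (show f'' (p'' x) = 0 from ?_)
      rw [← h.w_apply, (RingHom.mem_ker.1 hx : p' x = 0), map_zero]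

theorem isArtinian_of_killed (R : Type u) [CommRing R] (A : Art Λ k) [Algebra R A]
    (hR : ∀ c : k, ∃ r : R, A.res (algebraMap R A r) = c) (n : ℕ) :
    ∀ (M : Type u) [AddCommGroup M] [Module A M] [Module R M] [IsScalarTower R A M] [IsArtinian A M],
      (∀ a ∈ 𝔪 A ^ n, ∀ x : M, a • x = 0) → IsArtinian R M := by
  induction n with
  | zero =>
    intro M _ _ _ _ _ hM
    have : Subsingleton M := subsingleton_of_forall_eq 0 fun x => by
      have h := hM 1 (by simp) x
      rwa [one_smul] at h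
    infer_instance
  | succ n ih =>
    intro M _ _ _ _ _ hM
    let N : Submodule A M := 𝔪 A • ⊤
    have h1 : IsArtinian R N := ih N fun a ha x => Subtype.ext (by
      change a • (x : M) = 0
      refine Submodule.smul_induction_on x.2 (fun b hb y _ => ?_) fun y z hy hz => ?_
      · rw [← mul_smul]
        exact hM _ (by rw [pow_succ]; exact Ideal.mul_mem_mul ha hb) y
      · rw [smul_add, hy, hz, add_zero])
    have hkill : ∀ a ∈ 𝔪 A, ∀ x : M ⧸ N, a • x = 0 := fun a ha x => by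
      obtain ⟨y, rfl⟩ := N.mkQ_surjective x
      rw [Submodule.mkQ_apply, ← Submodule.Quotient.mk_smul, Submodule.Quotient.mk_eq_zero]
      exact Submodule.smul_mem_smul ha trivial
    let g : Submodule R (M ⧸ N) → Submodule A (M ⧸ N) := fun S =>
      { carrier := S
        add_mem' := fun hx hy => S.add_mem hx hy
        zero_mem' := S.zero_mem
        smul_mem' := fun a x hx => by
          obtain ⟨r, hr⟩ := hR (A.res a)
          have e : a • x = r • x := by
            rw [← algebraMap_smul A r x, ← sub_eq_zero, ← sub_smul]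
            exact hkill _ (by rw [mem_maximalIdeal_iff, map_sub, hr, sub_self]) x
          rw [e]
          exact S.smul_mem r hx }
    have h2 : IsArtinian R (M ⧸ N) :=
      ⟨(OrderEmbedding.ofMapLEIff g fun S T => Iff.rfl).wellFounded
        (IsWellFounded.wf (r := ((· < ·) : Submodule A (M ⧸ N) → _ → Prop)))⟩
    exact isArtinian_of_range_eq_ker (N.subtype.restrictScalars R) (N.mkQ.restrictScalars R)
      (by rw [LinearMap.range_restrictScalars, LinearMap.ker_restrictScalars, Submodule.range_subtype,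
        Submodule.ker_mkQ])

theorem isArtinian_of_residually_surjective (R : Type u) [CommRing R] (A : Art Λ k) [Algebra R A]
    (hR : ∀ c : k, ∃ r : R, A.res (algebraMap R A r) = c) : IsArtinian R A := by
  obtain ⟨n, hn⟩ := isNilpotent_𝔪 A
  exact isArtinian_of_killed R A hR n A fun a ha x => by
    rw [hn] at ha
    rw [(Ideal.mem_bot).1 ha, zero_smul]

/-- The set-theoretic fibre product is an object when it maps onto `k`. -/
theorem exists_isFibreProd_of {A A₁ A₂ : Art Λ k} (f₁ : A₁ ⟶ A) (f₂ : A₂ ⟶ A)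
    (hsurj : ∀ c : k, ∃ (a₁ : A₁) (a₂ : A₂), f₁ a₁ = f₂ a₂ ∧ A₁.res a₁ = c) :
    ∃ (B : Art Λ k) (p₁ : B ⟶ A₁) (p₂ : B ⟶ A₂), IsFibreProd p₁ p₂ f₁ f₂ := by
  let S : Subalgebra Λ (A₁ × A₂) :=
    AlgHom.equalizer (f₁.toAlgHom.comp (AlgHom.fst Λ A₁ A₂)) (f₂.toAlgHom.comp (AlgHom.snd Λ A₁ A₂))
  have hmem : ∀ {x : A₁ × A₂}, x ∈ S ↔ f₁ x.1 = f₂ x.2 := Iff.rfl
  let q₁ : S →ₐ[Λ] A₁ := (AlgHom.fst Λ A₁ A₂).comp S.val
  let q₂ : S →ₐ[Λ] A₂ := (AlgHom.snd Λ A₁ A₂).comp S.val
  have hres : ∀ s : S, A₁.res (q₁ s) = A₂.res (q₂ s) := fun s => by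
    rw [← res_app f₁, ← res_app f₂]
    exact congrArg A.res (hmem.1 s.2)
  have hunit : ∀ s : S, A₁.res (q₁ s) ≠ 0 → IsUnit s := fun s hs => by
    obtain ⟨u₁, hu₁⟩ := res_ne_zero_isUnit A₁ hs
    obtain ⟨u₂, hu₂⟩ := res_ne_zero_isUnit A₂ (hres s ▸ hs)
    have e : f₁ (↑u₁⁻¹) = f₂ (↑u₂⁻¹) := by
      have h1 : f₁ (↑u₁⁻¹) * f₁ u₁ = 1 := by rw [← map_mul, Units.inv_mul, map_one]
      have h2 : f₂ u₂ * f₂ (↑u₂⁻¹) = 1 := by rw [← map_mul, Units.mul_inv, map_one]
      have h3 : f₁ u₁ = f₂ u₂ := by rw [hu₁, hu₂]; exact hmem.1 s.2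
      rw [h3] at h1
      exact left_inv_eq_right_inv h1 h2
    refine isUnit_iff_exists_inv.2 ⟨⟨(↑u₁⁻¹, ↑u₂⁻¹), hmem.2 e⟩, Subtype.ext (Prod.ext ?_ ?_)⟩
    · change q₁ s * ↑u₁⁻¹ = 1
      rw [← hu₁, Units.mul_inv]
    · change q₂ s * ↑u₂⁻¹ = 1
      rw [← hu₂, Units.mul_inv]
  have : Nontrivial S := (A₁.res.comp q₁).toRingHom.domain_nontrivial
  have : IsLocalRing S := by
    refine IsLocalRing.of_isUnit_or_isUnit_one_sub_self fun s => ?_
    by_cases h : A₁.res (q₁ s) = 0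
    · exact Or.inr (hunit _ (by simp [map_sub, h]))
    · exact Or.inl (hunit s h)
  have hsurj' : ∀ c : k, ∃ s : S, A₁.res (q₁ s) = c := fun c => by
    obtain ⟨a₁, a₂, h, hc⟩ := hsurj c
    exact ⟨⟨(a₁, a₂), hmem.2 h⟩, hc⟩
  have : IsArtinianRing S := by
    letI := q₁.toRingHom.toAlgebra
    letI := q₂.toRingHom.toAlgebra
    have h1 : IsArtinian S A₁ := isArtinian_of_residually_surjective S A₁ hsurj'
    have h2 : IsArtinian S A₂ := isArtinian_of_residually_surjective S A₂ fun c => by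
      obtain ⟨s, hs⟩ := hsurj' c
      exact ⟨s, (hres s).symm.trans hs⟩
    let ι : S →ₗ[S] A₁ × A₂ :=
      { toFun := fun s => (q₁ s, q₂ s)
        map_add' := fun x y => Prod.ext (map_add q₁ x y) (map_add q₂ x y)
        map_smul' := fun x y => Prod.ext (map_mul q₁ x y) (map_mul q₂ x y) }
    have h12 : IsArtinian S (A₁ × A₂) := @isArtinian_prod _ _ _ _ _ _ _ _ h1 h2
    exact isArtinian_of_injective ι fun x y hxy => Subtype.ext hxy
  let B : Art Λ k := Art.of S (A₁.res.comp q₁) hsurj'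
  exact ⟨B, ⟨q₁, rfl⟩, ⟨q₂, AlgHom.ext fun s => (hres s).symm⟩,
    ⟨hom_ext' fun (s : S) => hmem.1 s.2, fun (b₁ b₂ : S) h1 h2 => Subtype.ext (Prod.ext h1 h2),
      fun a₁ a₂ h => ⟨(⟨(a₁, a₂), hmem.2 h⟩ : S), rfl, rfl⟩⟩⟩

theorem exists_isFibreProd {A A₁ A₂ : Art Λ k} (f₁ : A₁ ⟶ A) (f₂ : A₂ ⟶ A)
    (hf₂ : Function.Surjective f₂) :
    ∃ (B : Art Λ k) (p₁ : B ⟶ A₁) (p₂ : B ⟶ A₂), IsFibreProd p₁ p₂ f₁ f₂ := by
  refine exists_isFibreProd_of f₁ f₂ fun c => ?_
  obtain ⟨a₁, ha⟩ := A₁.res_surjective c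
  obtain ⟨a₂, ha₂⟩ := hf₂ (f₁ a₁)
  exact ⟨a₁, a₂, ha₂.symm, ha⟩

/-- Vertical pasting of fibre products. -/
theorem isFibreProd_factor {A A' C D B B₁ : Art Λ k} {p' : B ⟶ A'} {p'' : B ⟶ C} {f' : A' ⟶ A}
    {g : C ⟶ D} {g₁ : D ⟶ A} (h : IsFibreProd p' p'' f' (g ≫ g₁)) {r' : B₁ ⟶ A'} {r'' : B₁ ⟶ D}
    (h₁ : IsFibreProd r' r'' f' g₁) :
    IsFibreProd (fibLift h₁ p' (p'' ≫ g) (h.w.trans (Category.assoc _ _ _).symm)) p'' r'' g where
  w := fibLift_snd _ _ _ _
  inj b₁ b₂ e1 e2 := by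
    refine h.inj b₁ b₂ ?_ e2
    have := congrArg r' e1
    rwa [← Art.comp_apply, ← Art.comp_apply, fibLift_fst] at this
  surj x c hxc := by
    obtain ⟨b, hb1, hb2⟩ := h.surj (r' x) c (by rw [h₁.w_apply, hxc]; rfl)
    refine ⟨b, h₁.inj _ _ ?_ ?_, hb2⟩
    · rw [← Art.comp_apply, fibLift_fst, hb1]
    · rw [← Art.comp_apply, fibLift_snd, hxc, ← hb2]
      rfl

end FibreProd

end Groth.Agent.ArtFunLib
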