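import Groth.Agent.Lib.ArtFun.Cmp
import Groth.Prelude.Def_ArtFun5
import Mathlib.RingTheory.AdicCompletion.RingHom
import Mathlib.RingTheory.AdicCompletion.Noetherian

/-!
Coefficient rings, truncations and formal elements.
-/

set_option autoImplicit false

universe u v w

open CategoryTheory

namespace Groth.Agent.ArtFunLib

open ArtFun ArtFun.Art

/-- Surjectivity from surjectivity on residue fields and cotangent spaces. -/
theorem surjective_of_cotangent {R S : Type*} [CommRing R] [CommRing S] (m : Ideal R) (n : Ideal S)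
    [IsPrecomplete m R] [IsHausdorff n S] (f : R →+* S) (hf : m.map f ≤ n)
    (h0 : ∀ s : S, ∃ r : R, s - f r ∈ n) (h1 : n ≤ m.map f ⊔ n ^ 2) : Function.Surjective f := by
  have hone : ∀ y ∈ n, ∃ x ∈ m, y - f x ∈ n ^ 2 := by
    intro y hy
    obtain ⟨a, ha, b, hb, rfl⟩ := Submodule.mem_sup.1 (h1 hy)
    obtain ⟨x, hx, hax⟩ : ∃ x ∈ m, a - f x ∈ n ^ 2 := by
      refine Submodule.span_induction (p := fun a _ => ∃ x ∈ m, a - f x ∈ n ^ 2) ?_ ⟨0, zero_mem _, by simp⟩
        ?_ ?_ ha
      · rintro _ ⟨x, hx, rfl⟩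
        exact ⟨x, hx, by simp⟩
      · rintro a b - - ⟨x, hx, hx'⟩ ⟨y, hy, hy'⟩
        exact ⟨x + y, add_mem hx hy, by rw [map_add, add_sub_add_comm]; exact add_mem hx' hy'⟩
      · rintro s a - ⟨x, hx, hx'⟩
        obtain ⟨r, hr⟩ := h0 s
        refine ⟨r * x, m.mul_mem_left r hx, ?_⟩
        rw [smul_eq_mul, map_mul, show s * a - f r * f x = s * (a - f x) + (s - f r) * f x by ring,
          pow_two]
        exact add_mem (Ideal.mul_mem_left _ _ (by rwa [← pow_two]))
          (Ideal.mul_mem_mul hr (hf (Ideal.mem_map_of_mem f hx)))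
    exact ⟨x, hx, by rw [show a + b - f x = (a - f x) + b by ring]; exact add_mem hax hb⟩
  have happ : ∀ j, ∀ y ∈ n ^ j, ∃ x ∈ m ^ j, y - f x ∈ n ^ (j + 1) := by
    intro j
    induction j with
    | zero => exact fun y _ => (h0 y).imp fun r hr => ⟨by simp, by simpa using hr⟩
    | succ j ih =>
      intro y hy
      rw [pow_succ] at hy
      refine Submodule.mul_induction_on hy (fun a ha b hb => ?_) fun a b ha hb => ?_
      · obtain ⟨x, hx, hax⟩ := ih a ha
        obtain ⟨x', hx', hbx⟩ := hone b hb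
        refine ⟨x * x', by rw [pow_succ]; exact Ideal.mul_mem_mul hx hx', ?_⟩
        rw [map_mul, show a * b - f x * f x' = (a - f x) * b + f x * (b - f x') by ring]
        have hfx : f x ∈ n ^ j :=
          Ideal.pow_right_mono hf j (by rw [← Ideal.map_pow]; exact Ideal.mem_map_of_mem f hx)
        refine add_mem (by rw [pow_succ]; exact Ideal.mul_mem_mul hax hb) ?_
        rw [show j + 1 + 1 = j + 2 by rfl, pow_add]
        exact Ideal.mul_mem_mul hfx hbx
      · obtain ⟨x, hx, hx'⟩ := ha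
        obtain ⟨y, hy, hy'⟩ := hb
        exact ⟨x + y, add_mem hx hy, by rw [map_add, add_sub_add_comm]; exact add_mem hx' hy'⟩
  intro s
  choose g hg hg' using happ
  have hstep : ∀ j (r : R), s - f r ∈ n ^ j → ∃ r', r' - r ∈ m ^ j ∧ s - f r' ∈ n ^ (j + 1) :=
    fun j r hr => ⟨r + g j _ hr, by simpa using hg j _ hr, by
      rw [map_add, show s - (f r + f (g j _ hr)) = (s - f r) - f (g j _ hr) by ring]
      exact hg' j _ hr⟩
  choose next hn1 hn2 using hstep
  let seq : ∀ j, {r : R // s - f r ∈ n ^ j} := fun j =>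
    Nat.rec ⟨0, by simp⟩ (fun i p => ⟨next i p.1 p.2, hn2 i p.1 p.2⟩) j
  have hseq : ∀ {i j}, i ≤ j → (seq j).1 - (seq i).1 ∈ m ^ i := by
    intro i j hij
    induction hij with
    | refl => simp
    | @step j hij ih =>
      rw [show (seq (j + 1)).1 - (seq i).1 = (next j _ (seq j).2 - (seq j).1) + ((seq j).1 - (seq i).1) by
        ring]
      exact add_mem (Ideal.pow_le_pow_right hij (hn1 j _ _)) ih
  obtain ⟨L, hL⟩ := IsPrecomplete.prec' (I := m) (fun j => (seq j).1) fun {i j} hij => by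
    rw [SModEq.sub_mem, smul_eq_mul, Ideal.mul_top, ← neg_sub]
    exact neg_mem (hseq hij)
  refine ⟨L, sub_eq_zero.1 (IsHausdorff.haus' (I := n) _ fun j => ?_)⟩
  rw [SModEq.zero, smul_eq_mul, Ideal.mul_top]
  have h := hL j
  rw [SModEq.sub_mem, smul_eq_mul, Ideal.mul_top] at h
  rw [show f L - s = -(f ((seq j).1 - L)) - (s - f (seq j).1) by rw [map_sub]; ring]
  exact sub_mem (neg_mem (Ideal.pow_right_mono hf j (by rw [← Ideal.map_pow]; exact Ideal.mem_map_of_mem f h)))
    (seq j).2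

variable {Λ k : Type u} [CommRing Λ] [Field k] [Algebra Λ k]

instance (R : CRing Λ k) : IsAdicComplete (IsLocalRing.maximalIdeal R.carrier) R.carrier :=
  R.isAdicComplete

theorem homSet_res {R : Type u} [CommRing R] [Algebra Λ R] {resR : R →ₐ[Λ] k} {A : Art Λ k}
    (φ : HomSet R resR A) (r : R) : A.res (φ.1 r) = resR r :=
  AlgHom.congr_fun φ.2 r

theorem homSet_ext {R : Type u} [CommRing R] [Algebra Λ R] {resR : R →ₐ[Λ] k} {A : Art Λ k}
    {φ ψ : HomSet R resR A} (h : ∀ r, φ.1 r = ψ.1 r) : φ = ψ :=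
  Subtype.ext (AlgHom.ext h)

theorem homSet_surjective {R : Type u} [CommRing R] [Algebra Λ R] {resR : R →ₐ[Λ] k} {A : Art Λ k}
    (φ : HomSet R resR A) (hres : Function.Surjective resR) (c : k) : ∃ r, A.res (φ.1 r) = c := by
  obtain ⟨r, hr⟩ := hres c
  exact ⟨r, (homSet_res φ r).trans hr⟩

variable {R : CRing Λ k}

theorem homSet_mem_max {A : Art Λ k} (φ : HomSet R.carrier R.res A) {r : R.carrier}
    (hr : r ∈ IsLocalRing.maximalIdeal R.carrier) : φ.1 r ∈ 𝔪 A := by
  rw [mem_maximalIdeal_iff, homSet_res, (R.mem_maximalIdeal_iff r).1 hr]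

/-- Every point of `h_R` factors through a truncation. -/
theorem exists_mpow_le_ker {A : Art Λ k} (φ : HomSet R.carrier R.res A) :
    ∃ n, CRing.mpow R n ≤ RingHom.ker φ.1 := by
  obtain ⟨N, hN⟩ := isNilpotent_𝔪 A
  refine ⟨N, Ideal.map_eq_bot_iff_le_ker φ.1 |>.1 (le_bot_iff.1 ?_)⟩
  rw [Ideal.map_pow]
  have hle : (IsLocalRing.maximalIdeal R.carrier).map φ.1 ≤ 𝔪 A :=
    Ideal.map_le_iff_le_comap.2 fun r hr => homSet_mem_max φ hr
  refine le_trans (Ideal.pow_right_mono hle _) ?_
  exact (Ideal.pow_le_pow_right (Nat.le_succ N)).trans hN.le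

/-- The factorisation of a point through a truncation. -/
noncomputable def truncDesc {A : Art Λ k} (φ : HomSet R.carrier R.res A) {n : ℕ}
    (h : CRing.mpow R n ≤ RingHom.ker φ.1) : R.trunc n ⟶ A :=
  ⟨Ideal.Quotient.liftₐ (CRing.mpow R n) φ.1 (fun _ ha => h ha), by
    apply AlgHom.ext
    intro x
    obtain ⟨a, rfl⟩ := Ideal.Quotient.mk_surjective x
    exact homSet_res φ a⟩

theorem map_truncDesc {A : Art Λ k} (φ : HomSet R.carrier R.res A) {n : ℕ}
    (h : CRing.mpow R n ≤ RingHom.ker φ.1) : HomSet.map (truncDesc φ h) (R.truncHom n) = φ :=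
  homSet_ext fun _ => rfl

theorem trunc_hom_ext {A : Art Λ k} {n : ℕ} {f g : R.trunc n ⟶ A}
    (h : HomSet.map f (R.truncHom n) = HomSet.map g (R.truncHom n)) : f = g := by
  refine hom_ext' fun x => ?_
  obtain ⟨a, rfl⟩ := Ideal.Quotient.mk_surjective (I := CRing.mpow R n) x
  exact congrArg (fun t => t.1 a) h

theorem truncHom_surjective (R : CRing Λ k) (n : ℕ) : Function.Surjective (R.truncHom n).1 :=
  Ideal.Quotient.mk_surjective

theorem ker_truncHom (R : CRing Λ k) (n : ℕ) : RingHom.ker (R.truncHom n).1 = CRing.mpow R n :=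
  Ideal.ext fun _ => Ideal.Quotient.eq_zero_iff_mem

/-- The transition maps between arbitrary truncations. -/
noncomputable def truncLE (R : CRing Λ k) {m n : ℕ} (h : m ≤ n) : R.trunc n ⟶ R.trunc m :=
  truncDesc (R.truncHom m) (by rw [ker_truncHom]; exact Ideal.pow_le_pow_right (by omega))

theorem map_truncLE (R : CRing Λ k) {m n : ℕ} (h : m ≤ n) :
    HomSet.map (truncLE R h) (R.truncHom n) = R.truncHom m :=
  map_truncDesc _ _

theorem truncMap_surjective (R : CRing Λ k) (n : ℕ) : Function.Surjective (R.truncMap n) := fun x => by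
  obtain ⟨a, rfl⟩ := Ideal.Quotient.mk_surjective (I := CRing.mpow R n) x
  exact ⟨Ideal.Quotient.mk _ a, rfl⟩

theorem formalElt_compat {F : Art Λ k ⥤ Type v} (u : FormalElt F R) {m n : ℕ} (h : m ≤ n) :
    F.map (truncLE R h) (u.elt n) = u.elt m := by
  induction h with
  | refl =>
    rw [map_congr F (trunc_hom_ext (f := truncLE R le_rfl) (g := 𝟙 _)
      ((map_truncLE R le_rfl).trans (homSet_ext fun _ => rfl))), map_id']
  | @step n h ih =>
    rw [map_congr F (trunc_hom_ext (f := truncLE R (Nat.le.step h)) (g := R.truncMap n ≫ truncLE R h)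
      ((map_truncLE R _).trans (homSet_ext fun _ => rfl))), map_comp', u.compat, ih]

/-- The family of a formal element. -/
noncomputable def ofFormalElt {F : Art Λ k ⥤ Type v} (u : FormalElt F R) :
    Family R.carrier R.res F where
  app A φ := F.map (truncDesc φ (exists_mpow_le_ker φ).choose_spec) (u.elt _)
  natural {A B} f φ := by
    rw [← map_comp']
    set m := (exists_mpow_le_ker φ).choose
    set n := (exists_mpow_le_ker (HomSet.map f φ)).choose
    have hm := (exists_mpow_le_ker φ).choose_spec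
    have hn := (exists_mpow_le_ker (HomSet.map f φ)).choose_spec
    rw [← formalElt_compat u (le_max_right m n), ← formalElt_compat u (le_max_left m n), ← map_comp',
      ← map_comp']
    refine map_congr F ?_ _
    exact trunc_hom_ext (homSet_ext fun _ => rfl)

theorem ofFormalElt_app {F : Art Λ k ⥤ Type v} (u : FormalElt F R) {A : Art Λ k}
    (φ : HomSet R.carrier R.res A) {n : ℕ} (hn : CRing.mpow R n ≤ RingHom.ker φ.1) :
    (ofFormalElt u).app A φ = F.map (truncDesc φ hn) (u.elt n) := by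
  change F.map _ (u.elt (exists_mpow_le_ker φ).choose) = _
  set m := (exists_mpow_le_ker φ).choose
  rw [← formalElt_compat u (le_max_left m n), ← formalElt_compat u (le_max_right m n), ← map_comp',
    ← map_comp']
  refine map_congr F ?_ _
  exact trunc_hom_ext (homSet_ext fun _ => rfl)

theorem toFormalElt_ofFormalElt {F : Art Λ k ⥤ Type v} (u : FormalElt F R) :
    (ofFormalElt u).toFormalElt = u := by
  refine FormalElt.ext' fun n => ?_
  change (ofFormalElt u).app _ (R.truncHom n) = _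
  rw [ofFormalElt_app u (R.truncHom n) (n := n) (ker_truncHom R n).ge]
  exact (map_congr F (trunc_hom_ext (g := 𝟙 _) ((map_truncDesc _ _).trans (homSet_ext fun _ => rfl))) _).trans
    (map_id' F _)

theorem app_eq_toFormalElt {F : Art Λ k ⥤ Type v} (ξ : Family R.carrier R.res F) {A : Art Λ k}
    (φ : HomSet R.carrier R.res A) {n : ℕ} (hn : CRing.mpow R n ≤ RingHom.ker φ.1) :
    ξ.app A φ = F.map (truncDesc φ hn) (ξ.toFormalElt.elt n) := by
  conv_lhs => rw [← map_truncDesc φ hn, ξ.natural]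
  rfl

theorem family_ext {F : Art Λ k ⥤ Type v} {ξ ξ' : Family R.carrier R.res F}
    (h : ξ.toFormalElt = ξ'.toFormalElt) : ξ = ξ' := by
  have e : ξ.app = ξ'.app := by
    funext A φ
    obtain ⟨n, hn⟩ := exists_mpow_le_ker φ
    rw [app_eq_toFormalElt ξ φ hn, app_eq_toFormalElt ξ' φ hn, h]
  cases ξ; cases ξ'; cases e; rfl

theorem bijective_toFormalElt (F : Art Λ k ⥤ Type v) :
    Function.Bijective (Family.toFormalElt (R := R) (F := F)) :=
  ⟨fun _ _ h => family_ext h, fun u => ⟨ofFormalElt u, toFormalElt_ofFormalElt u⟩⟩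

section IntoComplete

variable {P : Type u} [CommRing P] [Algebra Λ P] {resP : P →ₐ[Λ] k} {S : CRing Λ k}

/-- The point of `h_P` on a truncation given by a map to `S`. -/
noncomputable def truncPoint (g : P →ₐ[Λ] S.carrier) (hg : S.res.comp g = resP) (n : ℕ) :
    HomSet P resP (S.trunc n) :=
  ⟨(S.truncHom n).1.comp g, by rw [← AlgHom.comp_assoc, (S.truncHom n).2, hg]⟩

theorem truncPoint_ext {g g' : P →ₐ[Λ] S.carrier} (h : ∀ n, (S.truncHom n).1.comp g = (S.truncHom n).1.comp g') :
    g = g' := by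
  refine AlgHom.ext fun p => sub_eq_zero.1
    (IsHausdorff.haus' (I := IsLocalRing.maximalIdeal S.carrier) _ fun n => ?_)
  rw [SModEq.zero, smul_eq_mul, Ideal.mul_top]
  have := congrArg (fun t : P →ₐ[Λ] S.trunc n => t p) (h n)
  exact Ideal.pow_le_pow_right (Nat.le_succ n) (Ideal.Quotient.eq.1 this)

/-- Compatible points of the truncations come from a map to the complete ring. -/
theorem exists_of_compat (ψ : ∀ n, HomSet P resP (S.trunc n))
    (h : ∀ n, HomSet.map (S.truncMap n) (ψ (n + 1)) = ψ n) :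
    ∃ (g : P →ₐ[Λ] S.carrier) (hg : S.res.comp g = resP), ∀ n, truncPoint g hg n = ψ n := by
  have hc : ∀ {a b} (hab : a ≤ b), HomSet.map (truncLE S hab) (ψ b) = ψ a := by
    intro a b hab
    induction hab with
    | refl =>
      rw [trunc_hom_ext (f := truncLE S le_rfl) (g := 𝟙 _)
        ((map_truncLE S le_rfl).trans (homSet_ext fun _ => rfl))]
      rfl
    | @step b hab ih =>
      rw [trunc_hom_ext (f := truncLE S (Nat.le.step hab)) (g := S.truncMap b ≫ truncLE S hab)
        ((map_truncLE S _).trans (homSet_ext fun _ => rfl))]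
      change HomSet.map (truncLE S hab) (HomSet.map (S.truncMap b) (ψ (b + 1))) = _
      rw [h, ih]
  let I := IsLocalRing.maximalIdeal S.carrier
  let f : ∀ n, P →ₐ[Λ] S.carrier ⧸ I ^ n := fun n =>
    (Ideal.Quotient.factorₐ Λ (Ideal.pow_le_pow_right (Nat.le_succ n) : I ^ (n + 1) ≤ I ^ n)).comp (ψ n).1
  have hf : ∀ {a b : ℕ} (hab : a ≤ b),
      (Ideal.Quotient.factorₐ Λ (Ideal.pow_le_pow_right hab)).comp (f b) = f a := by
    intro a b hab
    refine AlgHom.ext fun p => ?_
    change _ = Ideal.Quotient.factorₐ Λ (Ideal.pow_le_pow_right (Nat.le_succ a) : I ^ (a + 1) ≤ I ^ a) ((ψ a).1 p)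
    rw [← hc hab]
    change Ideal.Quotient.factorₐ Λ (Ideal.pow_le_pow_right hab) (Ideal.Quotient.factorₐ Λ (Ideal.pow_le_pow_right (Nat.le_succ b) : I ^ (b + 1) ≤ I ^ b) ((ψ b).1 p)) =
      Ideal.Quotient.factorₐ Λ (Ideal.pow_le_pow_right (Nat.le_succ a) : I ^ (a + 1) ≤ I ^ a) (truncLE S hab ((ψ b).1 p))
    generalize (ψ b).1 p = x
    obtain ⟨y, rfl⟩ := Ideal.Quotient.mk_surjective (I := CRing.mpow S b) x
    rfl
  have hg : ∀ n (p : P), Ideal.Quotient.mk (CRing.mpow S n) (IsAdicComplete.liftAlgHom I f hf p) =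
      (ψ n).1 p := fun n p => by
    refine (IsAdicComplete.mk_liftAlgHom I f hf (n + 1) p).trans ?_
    change Ideal.Quotient.factorₐ Λ (Ideal.pow_le_pow_right (Nat.le_succ (n + 1)) : I ^ ((n + 1) + 1) ≤ I ^ (n + 1)) ((ψ (n + 1)).1 p) = _
    conv_rhs => rw [← h n]
    generalize hy : (ψ (n + 1)).1 p = x
    change _ = S.truncMap n ((ψ (n + 1)).1 p)
    rw [hy]
    obtain ⟨y, rfl⟩ := Ideal.Quotient.mk_surjective (I := CRing.mpow S (n + 1)) x
    rfl
  refine ⟨IsAdicComplete.liftAlgHom I f hf, AlgHom.ext fun p => ?_, fun n => homSet_ext fun p => hg n p⟩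
  refine ((homSet_res (S.truncHom 0) _).symm.trans ?_)
  exact (congrArg _ (hg 0 p)).trans (homSet_res (ψ 0) p)

end IntoComplete

theorem isLeftExact_hR {P : Type u} [CommRing P] [Algebra Λ P] (resP : P →ₐ[Λ] k) :
    IsLeftExact (hR P resP) := by
  intro B A A' A'' p' p'' f' f'' h
  refine ⟨(cmp_injective_iff _ h).2 fun φ ψ e1 e2 => homSet_ext fun r =>
    h.inj _ _ (congrArg (fun t : HomSet P resP A' => t.1 r) e1)
      (congrArg (fun t : HomSet P resP A'' => t.1 r) e2),
    (cmp_surjective_iff _ h).2 fun (a : HomSet P resP A') (b : HomSet P resP A'') e => ?_⟩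
  have e' : ∀ r, f' (a.1 r) = f'' (b.1 r) := fun r => congrArg (fun t : HomSet P resP A => t.1 r) e
  choose z hz1 hz2 using fun r => h.surj _ _ (e' r)
  let g : P →ₐ[Λ] B :=
    { toFun := z
      map_one' := h.inj _ _ (by simp [hz1]) (by simp [hz2])
      map_mul' := fun x y => h.inj _ _ (by simp [hz1]) (by simp [hz2])
      map_zero' := h.inj _ _ (by simp [hz1]) (by simp [hz2])
      map_add' := fun x y => h.inj _ _ (by simp [hz1]) (by simp [hz2])
      commutes' := fun c => h.inj _ _ (by simp [hz1, AlgHom.commutes]) (by simp [hz2, AlgHom.commutes]) }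
  refine ⟨⟨g, AlgHom.ext fun r => ?_⟩, homSet_ext hz1, homSet_ext hz2⟩
  rw [AlgHom.comp_apply, ← res_app p', show p' (g r) = a.1 r from hz1 r, homSet_res]

theorem h0_hR {P : Type u} [CommRing P] [Algebra Λ P] (resP : P →ₐ[Λ] k) : H0 (hR P resP) :=
  ⟨⟨⟨resP, AlgHom.id_comp _⟩⟩, ⟨fun φ ψ => homSet_ext fun r =>
    (homSet_res φ r).trans (homSet_res ψ r).symm⟩⟩

theorem rs_hR {P : Type u} [CommRing P] [Algebra Λ P] (resP : P →ₐ[Λ] k) : RS (hR P resP) :=
  fun _ _ _ _ p' p'' f' f'' h _ => isLeftExact_hR resP p' p'' f' f'' h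

end Groth.Agent.ArtFunLib
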