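import Groth.Agent.Lib.ArtFun.Basic

/-!
Comparison maps, the conditions on functors and smooth morphisms.
-/

set_option autoImplicit false

universe u v w x

open CategoryTheory

namespace Groth.Agent.ArtFunLib

open ArtFun ArtFun.Art

variable {Λ k : Type u} [CommRing Λ] [Field k] [Algebra Λ k]

section Map

variable (F : Art Λ k ⥤ Type v)

theorem map_comp' {A B C : Art Λ k} (f : A ⟶ B) (g : B ⟶ C) (x : F.obj A) :
    F.map (f ≫ g) x = F.map g (F.map f x) :=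
  FunctorToTypes.map_comp_apply F f g x

theorem map_id' {A : Art Λ k} (x : F.obj A) : F.map (𝟙 A) x = x :=
  FunctorToTypes.map_id_apply F x

theorem map_congr {A B : Art Λ k} {f g : A ⟶ B} (h : f = g) (x : F.obj A) : F.map f x = F.map g x := by
  rw [h]

theorem map_map_eq {A B B' C : Art Λ k} {f : A ⟶ B} {g : B ⟶ C} {f' : A ⟶ B'} {g' : B' ⟶ C}
    (h : f ≫ g = f' ≫ g') (x : F.obj A) : F.map g (F.map f x) = F.map g' (F.map f' x) := by
  rw [← map_comp', ← map_comp', h]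

theorem map_bijective {A B : Art Λ k} (f : A ⟶ B) [IsIso f] : Function.Bijective (F.map f) :=
  Function.bijective_iff_has_inverse.2
    ⟨F.map (inv f), fun x => by rw [← map_comp', IsIso.hom_inv_id, map_id'],
      fun x => by rw [← map_comp', IsIso.inv_hom_id, map_id']⟩

/-- The condition `(RS)`. -/
def RS : Prop :=
  ∀ ⦃B A A' A'' : Art Λ k⦄ (p' : B ⟶ A') (p'' : B ⟶ A'') (f' : A' ⟶ A) (f'' : A'' ⟶ A)
    (h : IsFibreProd p' p'' f' f''), Function.Surjective f'' → Function.Bijective (cmp F h)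

theorem cmp_injective_iff {B A A' A'' : Art Λ k} {p' : B ⟶ A'} {p'' : B ⟶ A''} {f' : A' ⟶ A}
    {f'' : A'' ⟶ A} (h : IsFibreProd p' p'' f' f'') :
    Function.Injective (cmp F h) ↔ ∀ z z' : F.obj B,
      F.map p' z = F.map p' z' → F.map p'' z = F.map p'' z' → z = z' :=
  ⟨fun hi z z' h1 h2 => hi (FibProd.ext h1 h2), fun hi z z' e =>
    hi z z' (congrArg (fun t => t.1.1) e) (congrArg (fun t => t.1.2) e)⟩

theorem cmp_surjective_iff {B A A' A'' : Art Λ k} {p' : B ⟶ A'} {p'' : B ⟶ A''} {f' : A' ⟶ A}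
    {f'' : A'' ⟶ A} (h : IsFibreProd p' p'' f' f'') :
    Function.Surjective (cmp F h) ↔ ∀ (a : F.obj A') (b : F.obj A''), F.map f' a = F.map f'' b →
      ∃ z : F.obj B, F.map p' z = a ∧ F.map p'' z = b :=
  ⟨fun hs a b e => by
      obtain ⟨z, hz⟩ := hs ⟨(a, b), e⟩
      exact ⟨z, congrArg (fun t => t.1.1) hz, congrArg (fun t => t.1.2) hz⟩,
    fun hs t => by
      obtain ⟨z, h1, h2⟩ := hs t.1.1 t.1.2 t.2
      exact ⟨z, FibProd.ext h1 h2⟩⟩

variable {F}

theorem subsingleton_base (h0 : H0 F) (x y : F.obj (base Λ k)) : x = y :=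
  @Subsingleton.elim _ h0.2 x y

theorem RS.s1 (h : RS F) : S1 F := fun _ _ _ _ p' p'' f' f'' hh hs => (h p' p'' f' f'' hh hs).2

theorem RS.hbar (h : RS F) : Hbar F := fun _ _ _ _ p' p'' f' f'' hh hs =>
  (h p' p'' f' f'' hh hs.1).2

theorem RS.heps (h : RS F) : Heps F := fun _ _ p' p'' hh =>
  h p' p'' _ _ hh (surjective_toBase _)

theorem RS.hsq (h : RS F) : HSq F := fun _ _ _ p₁ p₂ f hh hs => h p₁ p₂ f f hh hs.1

theorem s1_hbar (h : S1 F) : Hbar F := fun _ _ _ _ p' p'' f' f'' hh hs => h p' p'' f' f'' hh hs.1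

theorem cmp_of_isIso_injective {B A A' A'' : Art Λ k} {p' : B ⟶ A'} {p'' : B ⟶ A''} {f' : A' ⟶ A}
    {f'' : A'' ⟶ A} (h : IsFibreProd p' p'' f' f'') (hf : IsIso f'') : Function.Bijective (cmp F h) := by
  have hp : IsIso p' := isIso_of_bijective p'
    ⟨fun b b' e => h.inj b b' e ((bijective_of_isIso f'').1 (by rw [← h.w_apply, ← h.w_apply, e])),
      surjective_fst h (bijective_of_isIso f'').2⟩
  refine ⟨(cmp_injective_iff F h).2 fun z z' h1 _ => (map_bijective F p').1 h1,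
    (cmp_surjective_iff F h).2 fun a b e => ?_⟩
  obtain ⟨z, hz⟩ := (map_bijective F p').2 a
  exact ⟨z, hz, (map_bijective F f'').1 (by rw [map_map_eq F h.w.symm, hz, e])⟩

theorem cmp_surjective_of_small
    (h1 : Hbar F) ⦃B A A' A'' : Art Λ k⦄ (p' : B ⟶ A') (p'' : B ⟶ A'') (f' : A' ⟶ A) (f'' : A'' ⟶ A)
    (h : IsFibreProd p' p'' f' f'') (hf : Function.Surjective f'') : Function.Surjective (cmp F h) := by
  refine surjInduction (P := fun A A'' f'' => ∀ {B A' : Art Λ k} (p' : B ⟶ A') (p'' : B ⟶ A'')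
      (f' : A' ⟶ A) (h : IsFibreProd p' p'' f' f''), Function.Surjective (cmp F h))
    (fun A A'' e he B A' p' p'' f' h => (cmp_of_isIso_injective h he).2)
    (fun A A'' p hp B A' p' p'' f' h => h1 _ _ _ _ h hp)
    (fun A D C g g₁ hg hg₁ ih ih₁ B A' p' p'' f' h => ?_) f'' hf p' p'' f' h
  obtain ⟨B₁, r', r'', h'⟩ := exists_isFibreProd f' g₁ hg₁
  refine (cmp_surjective_iff F h).2 fun a b e => ?_
  obtain ⟨z₁, hz₁, hz₁'⟩ := (cmp_surjective_iff F h').1 (ih₁ _ _ _ h') a (F.map g b)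
    (by rw [← map_comp']; exact e)
  obtain ⟨z, hz, hz'⟩ :=
    (cmp_surjective_iff F _).1 (ih _ _ _ (isFibreProd_factor h h')) z₁ b hz₁'
  refine ⟨z, ?_, hz'⟩
  rw [← hz₁, ← hz, ← map_comp', fibLift_fst]

theorem rs_of_smallExt
    (h1 : ∀ ⦃B A A' A'' : Art Λ k⦄ (p' : B ⟶ A') (p'' : B ⟶ A'') (f' : A' ⟶ A) (f'' : A'' ⟶ A)
      (h : IsFibreProd p' p'' f' f''), IsSmallExt f'' → Function.Bijective (cmp F h)) : RS F := by
  intro B A A' A'' p' p'' f' f'' h hf
  refine ⟨?_, cmp_surjective_of_small (fun _ _ _ _ a b c d e hs => (h1 a b c d e hs).2) _ _ _ _ h hf⟩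
  refine surjInduction (P := fun A A'' f'' => ∀ {B A' : Art Λ k} (p' : B ⟶ A') (p'' : B ⟶ A'')
      (f' : A' ⟶ A) (h : IsFibreProd p' p'' f' f''), Function.Injective (cmp F h))
    (fun A A'' e he B A' p' p'' f' h => (cmp_of_isIso_injective h he).1)
    (fun A A'' p hp B A' p' p'' f' h => (h1 _ _ _ _ h hp).1)
    (fun A D C g g₁ hg hg₁ ih ih₁ B A' p' p'' f' h => ?_) f'' hf p' p'' f' h
  obtain ⟨B₁, r', r'', h'⟩ := exists_isFibreProd f' g₁ hg₁
  refine (cmp_injective_iff F h).2 fun z z' e1 e2 => ?_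
  refine (cmp_injective_iff F _).1 (ih _ _ _ (isFibreProd_factor h h')) z z' ?_ e2
  refine (cmp_injective_iff F h').1 (ih₁ _ _ _ h') _ _ ?_ ?_
  · rw [← map_comp', ← map_comp', fibLift_fst, e1]
  · rw [← map_comp', ← map_comp', fibLift_snd, map_comp', map_comp', e2]

end Map

section Smooth

variable {F : Art Λ k ⥤ Type v} {G : Art Λ k ⥤ Type w} {H : Art Λ k ⥤ Type x}

/-- Naturality of a family of maps between functors with values in possibly different universes. -/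
def Natural (η : ∀ A, F.obj A → G.obj A) : Prop :=
  ∀ {A B : Art Λ k} (f : A ⟶ B) (z : F.obj A), η B (F.map f z) = G.map f (η A z)

/-- The lifting property along one morphism. -/
def Lifts (η : ∀ A, F.obj A → G.obj A) {B A : Art Λ k} (μ : B ⟶ A) : Prop :=
  ∀ (x : F.obj A) (y : G.obj B), G.map μ y = η A x → ∃ z : F.obj B, F.map μ z = x ∧ η B z = y

theorem natural_app {G : Art Λ k ⥤ Type v} (η : F ⟶ G) : Natural (fun A z => η.app A z) :=
  fun f z => NatTrans.naturality_apply η f z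

theorem natural_family {R : Type u} [CommRing R] [Algebra Λ R] {resR : R →ₐ[Λ] k}
    (ξ : Family R resR G) : Natural (F := hR R resR) (fun A φ => ξ.app A φ) :=
  fun f φ => ξ.natural f φ

theorem isSmooth_iff_lifts {G : Art Λ k ⥤ Type v} (η : F ⟶ G) :
    IsSmooth η ↔ ∀ ⦃B A : Art Λ k⦄ (μ : B ⟶ A), Function.Surjective μ →
      Lifts (fun A z => η.app A z) μ := by
  constructor
  · intro h B A μ hμ x y e
    obtain ⟨z, hz⟩ := h μ hμ ⟨(x, y), e.symm⟩
    exact ⟨z, congrArg (fun t => t.1.1) hz, congrArg (fun t => t.1.2) hz⟩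
  · intro h B A μ hμ t
    obtain ⟨z, h1, h2⟩ := h μ hμ t.1.1 t.1.2 t.2.symm
    exact ⟨z, Subtype.ext (Prod.ext h1 h2)⟩

theorem isVersal_iff_lifts {R : Type u} [CommRing R] [Algebra Λ R] {resR : R →ₐ[Λ] k}
    (ξ : Family R resR G) :
    IsVersal ξ ↔ ∀ ⦃B A : Art Λ k⦄ (μ : B ⟶ A), Function.Surjective μ →
      Lifts (F := hR R resR) (fun A φ => ξ.app A φ) μ :=
  Iff.rfl

theorem lifts_of_small (η : ∀ A, F.obj A → G.obj A) (hη : Natural η)
    (h : ∀ ⦃B A : Art Λ k⦄ (μ : B ⟶ A), IsSmallExt μ → Lifts η μ)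
    ⦃B A : Art Λ k⦄ (μ : B ⟶ A) (hμ : Function.Surjective μ) : Lifts η μ := by
  refine surjInduction (P := fun A B μ => Lifts η μ) (fun A B e he x y hy => ?_) (fun A B p hp => h p hp)
    (fun A D C g g₁ hg hg₁ ih ih₁ x y hy => ?_) μ hμ
  · have := he
    obtain ⟨z, hz⟩ := (map_bijective F e).2 x
    exact ⟨z, hz, (map_bijective G e).1 (by rw [← hη, hz, hy])⟩
  · rw [map_comp'] at hy
    obtain ⟨z₁, hz₁, hz₁'⟩ := ih₁ x _ hy
    obtain ⟨z, hz, hz'⟩ := ih z₁ y hz₁'.symm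
    exact ⟨z, by rw [map_comp', hz, hz₁], hz'⟩

theorem surjective_of_lifts (η : ∀ A, F.obj A → G.obj A)
    (h : ∀ ⦃B A : Art Λ k⦄ (μ : B ⟶ A), Function.Surjective μ → Lifts η μ)
    (h0 : Function.Surjective (η (base Λ k))) (A : Art Λ k) : Function.Surjective (η A) := fun y => by
  obtain ⟨x, hx⟩ := h0 (G.map (toBase A) y)
  obtain ⟨z, -, hz⟩ := h (toBase A) (surjective_toBase A) x y hx.symm
  exact ⟨z, hz⟩

theorem surjective_map_of_lifts (η : ∀ A, F.obj A → G.obj A)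
    (h : ∀ ⦃B A : Art Λ k⦄ (μ : B ⟶ A), Function.Surjective μ → Lifts η μ)
    {B A : Art Λ k} (μ : B ⟶ A) (hμ : Function.Surjective μ) (hG : Function.Surjective (G.map μ)) :
    Function.Surjective (F.map μ) := fun x => by
  obtain ⟨y, hy⟩ := hG (η A x)
  obtain ⟨z, hz, -⟩ := h μ hμ x y hy
  exact ⟨z, hz⟩

theorem lifts_comp (η : ∀ A, F.obj A → G.obj A) (θ : ∀ A, G.obj A → H.obj A)
    {B A : Art Λ k} (μ : B ⟶ A) (h1 : Lifts η μ) (h2 : Lifts θ μ) :
    Lifts (fun A z => θ A (η A z)) μ := fun x y e => by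
  obtain ⟨g, hg, hg'⟩ := h2 (η A x) y e
  obtain ⟨z, hz, hz'⟩ := h1 x g hg
  exact ⟨z, hz, (congrArg (θ B) hz').trans hg'⟩

theorem lifts_of_comp_surjective (η : ∀ A, F.obj A → G.obj A) (θ : ∀ A, G.obj A → H.obj A)
    (hη : Natural η) {B A : Art Λ k} (μ : B ⟶ A) (hs : Function.Surjective (η A))
    (h : Lifts (fun A z => θ A (η A z)) μ) : Lifts θ μ := fun g y e => by
  obtain ⟨x, rfl⟩ := hs g
  obtain ⟨z, hz, hz'⟩ := h x y e
  exact ⟨η B z, by rw [← hη, hz], hz'⟩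

end Smooth

end Groth.Agent.ArtFunLib
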