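import Groth.Agent.Lib.ArtFun.Hull
import Groth.Prelude.Def_W4sfdMinVersal

/-!
Morphisms of coefficient rings.
-/

set_option autoImplicit false

universe u v w

open CategoryTheory

namespace Groth.Agent.ArtFunLib

open ArtFun ArtFun.Art

variable {Λ k : Type u} [CommRing Λ] [Field k] [Algebra Λ k]

theorem map_max {R S : CRing Λ k} (g : R.carrier →ₐ[Λ] S.carrier) (hgs : Function.Surjective g) :
    (IsLocalRing.maximalIdeal R.carrier).map g = IsLocalRing.maximalIdeal S.carrier :=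
  IsLocalRing.map_maximalIdeal_of_surjective (g : R.carrier →+* S.carrier) hgs

/-- A morphism injective on tangent vectors is surjective. -/
theorem surjective_of_dual_injective {R S : CRing Λ k} (f : R.carrier →ₐ[Λ] S.carrier)
    (hf : S.res.comp f = R.res)
    (hinj : ∀ φ ψ : HomSet S.carrier S.res (dual Λ k),
      (∀ r, φ.1 (f r) = ψ.1 (f r)) → φ = ψ) : Function.Surjective f := by
  let m := IsLocalRing.maximalIdeal R.carrier
  let n := IsLocalRing.maximalIdeal S.carrier
  have hfm : m.map (f : R.carrier →+* S.carrier) ≤ n :=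
    Ideal.map_le_iff_le_comap.2 (CRing.maximalIdeal_le_comap f hf)
  refine surjective_of_cotangent m n (f : R.carrier →+* S.carrier) hfm (fun s => ?_) ?_
  · obtain ⟨r, hr⟩ := R.res_surjective (S.res s)
    refine ⟨r, (S.mem_maximalIdeal_iff _).2 ?_⟩
    rw [map_sub, sub_eq_zero, ← hr]
    exact (CRing.res_comp_apply f hf r).symm
  let J : Ideal S.carrier := m.map (f : R.carrier →+* S.carrier) ⊔ n ^ 2
  obtain ⟨A, π, hπ, hk⟩ := exists_point_of_ideal (P := S) (K := J) (n := 1) le_sup_right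
    (sup_le hfm (Ideal.pow_le_self two_ne_zero))
  obtain ⟨σ', hσ'⟩ := exists_desc_point (resR' := AlgHom.id Λ k) R.res R.res_surjective
    (AlgHom.id_comp _) (A := A) (⟨π.1.comp f, by rw [← AlgHom.comp_assoc, π.2, hf]⟩ : HomSet R.carrier R.res A)
    fun r hr => (hk.ge (Ideal.mem_sup_left (Ideal.mem_map_of_mem _
      ((R.mem_maximalIdeal_iff r).2 (RingHom.mem_ker.1 hr)))) :)
  let σ : base Λ k ⟶ A := ⟨σ'.1, σ'.2⟩
  have hA : IsLocalRing.maximalIdeal A ^ 2 = ⊥ := by
    rw [pow_two, ← le_bot_iff]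
    refine Ideal.mul_le.2 fun a ha b hb => ?_
    obtain ⟨x, rfl⟩ := hπ a
    obtain ⟨y, rfl⟩ := hπ b
    rw [mem_maximalIdeal_iff, homSet_res, ← S.mem_maximalIdeal_iff] at ha hb
    rw [Ideal.mem_bot, ← map_mul]
    exact RingHom.mem_ker.1 (hk.ge (Ideal.mem_sup_right (pow_two n ▸ Ideal.mul_mem_mul ha hb)))
  have e : π = HomSet.map σ ⟨S.res, AlgHom.id_comp _⟩ := eq_of_forall_dual σ hA fun g => hinj _ _ fun r => by
    change g (π.1 (f r)) = g (σ'.1 (S.res (f r)))
    rw [CRing.res_comp_apply f hf r, hσ']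
    rfl
  intro s hs
  refine hk.le (RingHom.mem_ker.2 ?_)
  rw [e]
  change σ'.1 (S.res s) = 0
  rw [(S.mem_maximalIdeal_iff s).1 hs, map_zero]

/-- Surjective endomorphisms of Noetherian rings are injective. -/
theorem injective_of_surjective_endo {A : Type*} [CommRing A] [IsNoetherianRing A] (f : A →+* A)
    (hf : Function.Surjective f) : Function.Injective f := by
  let T : ℕ → Ideal A := fun n => Nat.rec ⊥ (fun _ I => I.comap f) n
  have hT : Monotone T := monotone_nat_of_le_succ fun n => by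
    induction n with
    | zero => exact bot_le
    | succ n ih => exact Ideal.comap_mono ih
  obtain ⟨n, hn⟩ := monotone_stabilizes_iff_noetherian.2 (inferInstance : IsNoetherian A A) ⟨T, hT⟩
  have hs : ∀ m, Function.Surjective (f^[m]) := fun m => hf.iterate m
  have hmem : ∀ m (y : A), y ∈ T m ↔ f^[m] y = 0 := by
    intro m
    induction m with
    | zero => exact fun y => Ideal.mem_bot
    | succ m ih => exact fun y => (ih (f y)).trans (by rw [Function.iterate_succ_apply])
  refine (injective_iff_map_eq_zero f).2 fun x hx => ?_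
  obtain ⟨y, rfl⟩ := hs n x
  have h : y ∈ T (n + 1) := (hmem (n + 1) y).2 (by rw [Function.iterate_succ_apply', hx])
  exact (hmem n y).1 ((hn (n + 1) (Nat.le_succ n)).ge h)

/-- Lifting along surjections of coefficient rings. -/
theorem exists_lift_along {F : Art Λ k ⥤ Type v} (hRS : RS F) {R : Type u} [CommRing R] [Algebra Λ R]
    {resR : R →ₐ[Λ] k} {ξ : Family R resR F} (hξ : IsVersal ξ) {A' A : CRing Λ k}
    (g : A'.carrier →ₐ[Λ] A.carrier) (hg : A.res.comp g = A'.res) (hgs : Function.Surjective g)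
    (η' : FormalElt F A') (φ : R →ₐ[Λ] A.carrier) (hφ : A.res.comp φ = resR)
    (hsq : ∀ n, ξ.app _ (truncPoint φ hφ n) = F.map (CRing.truncMapOfHom g hg n) (η'.elt n)) :
    ∃ (ψ : R →ₐ[Λ] A'.carrier) (hψ : A'.res.comp ψ = resR), g.comp ψ = φ ∧
      ∀ n, ξ.app _ (truncPoint ψ hψ n) = η'.elt n := by
  have hts : ∀ n, Function.Surjective (CRing.truncMapOfHom g hg n) := fun n x => by
    obtain ⟨a, rfl⟩ := Ideal.Quotient.mk_surjective x
    obtain ⟨b, rfl⟩ := hgs a
    exact ⟨Ideal.Quotient.mk _ b, rfl⟩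
  have step : ∀ n (ψ : {ψ : HomSet R resR (A'.trunc n) //
      HomSet.map (CRing.truncMapOfHom g hg n) ψ = truncPoint φ hφ n ∧ ξ.app _ ψ = η'.elt n}),
      ∃ ψ' : {ψ : HomSet R resR (A'.trunc (n + 1)) //
        HomSet.map (CRing.truncMapOfHom g hg (n + 1)) ψ = truncPoint φ hφ (n + 1) ∧
          ξ.app _ ψ = η'.elt (n + 1)}, HomSet.map (A'.truncMap n) ψ'.1 = ψ.1 := by
    rintro n ⟨ψ, hψ1, hψ2⟩
    obtain ⟨P, q₁, q₂, hP⟩ := exists_isFibreProd (CRing.truncMapOfHom g hg n) (A.truncMap n)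
      (truncMap_surjective A n)
    let c : A'.trunc (n + 1) ⟶ P := fibLift hP (A'.truncMap n) (CRing.truncMapOfHom g hg (n + 1))
      (CRing.truncMapOfHom_truncMap g hg n).symm
    have hc1 : c ≫ q₁ = A'.truncMap n := fibLift_fst _ _ _ _
    have hc2 : c ≫ q₂ = CRing.truncMapOfHom g hg (n + 1) := fibLift_snd _ _ _ _
    have hc : Function.Surjective c := fun z => by
      obtain ⟨x, hx⟩ := Ideal.Quotient.mk_surjective (I := CRing.mpow A' n) (q₁ z)
      obtain ⟨y, hy⟩ := Ideal.Quotient.mk_surjective (I := CRing.mpow A (n + 1)) (q₂ z)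
      have hxy : g x - y ∈ (CRing.mpow A' n).map g := by
        rw [CRing.mpow, Ideal.map_pow, map_max g hgs]
        have h := hP.w_apply z
        rw [← hx, ← hy] at h
        exact Ideal.Quotient.eq.1 h
      obtain ⟨t, ht, hgt⟩ := (Ideal.mem_map_iff_of_surjective (g : A'.carrier →+* A.carrier) hgs).1 hxy
      refine ⟨Ideal.Quotient.mk (CRing.mpow A' (n + 1)) (x - t), hP.inj _ _ ?_ ?_⟩
      · refine (congr_hom hc1 _).trans (Eq.trans ?_ hx)
        exact Ideal.Quotient.eq.2 (by rw [sub_sub_cancel_left]; exact neg_mem ht)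
      · refine (congr_hom hc2 _).trans (Eq.trans ?_ hy)
        refine congrArg (Ideal.Quotient.mk (CRing.mpow A (n + 1))) ?_
        rw [map_sub, hgt]
        exact sub_sub_cancel _ _
    obtain ⟨w, hw1, hw2⟩ := (cmp_surjective_iff _ hP).1 (isLeftExact_hR resR _ _ _ _ hP).2 ψ
      (truncPoint φ hφ (n + 1)) (hψ1.trans (homSet_ext fun _ => rfl))
    have hw : F.map c (η'.elt (n + 1)) = ξ.app P w :=
      (cmp_injective_iff F hP).1 (hRS _ _ _ _ hP (truncMap_surjective A n)).1 _ _
        (by rw [← map_comp', hc1, η'.compat, ← ξ.natural]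
            exact hψ2.symm.trans (congrArg (ξ.app _) hw1).symm)
        (by rw [← map_comp', hc2, ← hsq, ← ξ.natural]
            exact (congrArg (ξ.app _) hw2).symm)
    obtain ⟨ψ', h1, h2⟩ := hξ c hc w (η'.elt (n + 1)) hw
    refine ⟨⟨ψ', ?_, h2⟩, ?_⟩
    · exact (homSet_ext fun r => (congr_hom hc2 (ψ'.1 r)).symm.trans
        (congrArg (fun χ : HomSet R resR P => q₂ (χ.1 r)) h1)).trans hw2
    · exact (homSet_ext fun r => (congr_hom hc1 (ψ'.1 r)).symm.trans
        (congrArg (fun χ : HomSet R resR P => q₁ (χ.1 r)) h1)).trans hw1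
  obtain ⟨ψ₀, h₀, h₀'⟩ := hξ _ (hts 0) (truncPoint φ hφ 0) (η'.elt 0) (hsq 0).symm
  choose next hnext using step
  let seq : ∀ n, {ψ : HomSet R resR (A'.trunc n) //
      HomSet.map (CRing.truncMapOfHom g hg n) ψ = truncPoint φ hφ n ∧ ξ.app _ ψ = η'.elt n} := fun n =>
    Nat.rec ⟨ψ₀, h₀, h₀'⟩ (fun i p => next i p) n
  obtain ⟨ψ, hψ, hψn⟩ := exists_of_compat (fun n => (seq n).1) fun n => hnext n (seq n)
  refine ⟨ψ, hψ, truncPoint_ext fun n => AlgHom.ext fun r => ?_, fun n => ?_⟩
  · have h := congrArg (fun χ : HomSet R resR (A.trunc n) => χ.1 r) (seq n).2.1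
    have h' := congrArg (fun χ : HomSet R resR (A'.trunc n) => CRing.truncMapOfHom g hg n (χ.1 r)) (hψn n)
    exact h'.trans h
  · rw [hψn n]
    exact (seq n).2.2

/-- Pushing forward a formal element induced by a family. -/
theorem push_along {F : Art Λ k ⥤ Type v} {R : Type u} [CommRing R] [Algebra Λ R]
    {resR : R →ₐ[Λ] k} (ξ : Family R resR F) {S' S : CRing Λ k} (g : R →ₐ[Λ] S'.carrier)
    (hg : S'.res.comp g = resR) (f : S'.carrier →ₐ[Λ] S.carrier) (hf : S.res.comp f = S'.res) :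
    ((ξ.along g hg).toFormalElt.push f hf) =
      (ξ.along (f.comp g) (by rw [← AlgHom.comp_assoc, hf, hg])).toFormalElt :=
  FormalElt.ext' fun n => ((ξ.along g hg).natural (CRing.truncMapOfHom f hf n) (S'.truncHom n)).symm

theorem toFormalElt_eq_along {F : Art Λ k ⥤ Type v} {R : CRing Λ k} (ξ : Family R.carrier R.res F) :
    ξ.toFormalElt = (ξ.along (AlgHom.id Λ R.carrier) (AlgHom.comp_id _)).toFormalElt :=
  rfl

/-- A hull is minimal. -/
theorem isMinimalVersal_of_miniversal {F : Art Λ k ⥤ Type v} (h0 : H0 F) {R : CRing Λ k}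
    {ξ : Family R.carrier R.res F} (hξ : IsMiniversal ξ) : ξ.IsMinimalVersal := by
  refine ⟨hξ.1, fun R' u f hf hu => ?_⟩
  obtain ⟨g, hg, hgu⟩ := exists_along hξ.1 h0 u
  have e : ξ.along (f.comp g) (by rw [← AlgHom.comp_assoc, hf, hg]) = ξ :=
    family_ext (by rw [← push_along ξ g hg f hf, hgu, hu])
  refine Function.Surjective.of_comp (g := g)
    (surjective_of_dual_injective (f.comp g) (by rw [← AlgHom.comp_assoc, hf, hg]) fun a b h => hξ.2.1 ?_)
  have ha := congrArg (fun ζ : Family R.carrier R.res F => ζ.app (dual Λ k) a) e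
  have hb := congrArg (fun ζ : Family R.carrier R.res F => ζ.app (dual Λ k) b) e
  exact ha.symm.trans ((congrArg (ξ.app _) (homSet_ext h)).trans hb)

end Groth.Agent.ArtFunLib
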