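import Groth.Agent.Lib.ArtFun.Basic
import Groth.Agent.Lib.Compl.Noetherian
import Groth.Prelude.Def_ArtFun2
import Mathlib.RingTheory.AdicCompletion.LocalRing

/-!
# The completion of an augmented Noetherian local algebra as a coefficient ring
-/

set_option autoImplicit false

universe u

open IsLocalRing

namespace Groth.Agent.ArtFunLib

open ArtFun ArtFun.Art

variable {Λ : Type u} {k : Type u} [CommRing Λ] [Field k] [Algebra Λ k]
variable {S : Type u} [CommRing S] [IsLocalRing S] [Algebra Λ S]

theorem ker_res_eq_max (res : S →ₐ[Λ] k) (hres : Function.Surjective res) :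
    RingHom.ker (res : S →+* k) = maximalIdeal S :=
  IsLocalRing.eq_maximalIdeal (RingHom.ker_isMaximal_of_surjective (res : S →+* k) hres)

variable [IsNoetherianRing S]

theorem evalₐ_factor (x : AdicCompletion (maximalIdeal S) S) {m n : ℕ} (h : m ≤ n) {a : S}
    (ha : Ideal.Quotient.mk (maximalIdeal S ^ n) a = AdicCompletion.evalₐ (maximalIdeal S) n x) :
    AdicCompletion.evalₐ (maximalIdeal S) m x = Ideal.Quotient.mk (maximalIdeal S ^ m) a := by
  obtain ⟨c, rfl⟩ := AdicCompletion.mk_surjective (maximalIdeal S) S x
  rw [AdicCompletion.evalₐ_mk] at ha ⊢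
  have hc := c.2 h
  rw [SModEq.sub_mem, smul_eq_mul, Ideal.mul_top] at hc
  refine Ideal.Quotient.eq.2 ?_
  have hac := Ideal.pow_le_pow_right h (Ideal.Quotient.eq.1 ha)
  rw [show (c.1 m : S) - a = (c.1 m - c.1 n) - (a - c.1 n) by abel]
  exact sub_mem hc hac

/-- The augmentation of the completion. -/
noncomputable def augHom (res : S →ₐ[Λ] k) (hres : Function.Surjective res) :
    AdicCompletion (maximalIdeal S) S →ₐ[Λ] k :=
  (Ideal.Quotient.liftₐ (maximalIdeal S ^ 1) res (fun a ha =>
    (ker_res_eq_max res hres).ge (by rwa [pow_one] at ha))).comp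
      ((AdicCompletion.evalₐ (maximalIdeal S) 1).restrictScalars Λ)

theorem augHom_apply (res : S →ₐ[Λ] k) (hres : Function.Surjective res)
    {x : AdicCompletion (maximalIdeal S) S} {a : S}
    (h : AdicCompletion.evalₐ (maximalIdeal S) 1 x = Ideal.Quotient.mk (maximalIdeal S ^ 1) a) :
    augHom res hres x = res a := by
  rw [augHom, AlgHom.comp_apply, AlgHom.restrictScalars_apply, h]
  rfl

/-- The completion of `(S, res)`. -/
noncomputable def completionRing (res : S →ₐ[Λ] k) (hres : Function.Surjective res) : CRing Λ k :=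
  haveI : IsNoetherianRing (S ⧸ maximalIdeal S) :=
    isNoetherianRing_of_surjective _ _ (Ideal.Quotient.mk (maximalIdeal S)) Ideal.Quotient.mk_surjective
  haveI : IsNoetherianRing (AdicCompletion (maximalIdeal S) S) :=
    Groth.Agent.Compl.isNoetherianRing_adicCompletion _ (IsNoetherian.noetherian _)
  { carrier := AdicCompletion (maximalIdeal S) S
    res := augHom res hres
    res_surjective := fun c => by
      obtain ⟨s, hs⟩ := hres c
      exact ⟨AdicCompletion.of (maximalIdeal S) S s,
        (augHom_apply res hres (AdicCompletion.evalₐ_of _ _ _)).trans hs⟩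
    isAdicComplete := inferInstance }

/-- The map to the completion. -/
noncomputable def toCompletion (res : S →ₐ[Λ] k) (hres : Function.Surjective res) :
    S →ₐ[Λ] (completionRing res hres).carrier :=
  { toRingHom := algebraMap S (AdicCompletion (maximalIdeal S) S)
    commutes' := fun _ => rfl }

theorem res_toCompletion (res : S →ₐ[Λ] k) (hres : Function.Surjective res) (s : S) :
    (completionRing res hres).res (toCompletion res hres s) = res s :=
  augHom_apply res hres (AdicCompletion.evalₐ_of _ _ _)

/-- Restriction of points along `S → Ŝ`. -/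
noncomputable def restrictPoint (res : S →ₐ[Λ] k) (hres : Function.Surjective res) (A : Art Λ k)
    (φ : HomSet (completionRing res hres).carrier (completionRing res hres).res A) : HomSet S res A :=
  ⟨φ.1.comp (toCompletion res hres), AlgHom.ext fun s => by
    have h := AlgHom.congr_fun φ.2 (toCompletion res hres s)
    exact h.trans (res_toCompletion res hres s)⟩

theorem restrictPoint_map (res : S →ₐ[Λ] k) (hres : Function.Surjective res) {A B : Art Λ k} (f : A ⟶ B)
    (φ : HomSet (completionRing res hres).carrier (completionRing res hres).res A) :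
    restrictPoint res hres B (HomSet.map f φ) = HomSet.map f (restrictPoint res hres A φ) := rfl

theorem restrictPoint_bijective (res : S →ₐ[Λ] k) (hres : Function.Surjective res) (A : Art Λ k) :
    Function.Bijective (restrictPoint res hres A) := by
  obtain ⟨n, hn⟩ := isNilpotent_𝔪 A
  have hpow : maximalIdeal A ^ (n + 1) = ⊥ := by
    rw [pow_succ, hn]
    exact Submodule.bot_smul _
  refine ⟨fun φ φ' h => Subtype.ext (AlgHom.ext fun (x : AdicCompletion (maximalIdeal S) S) => ?_), fun ψ => ?_⟩
  · obtain ⟨s, hs⟩ := Ideal.Quotient.mk_surjective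
      (AdicCompletion.evalₐ (maximalIdeal S) (n + 1) x)
    have hker : x - AdicCompletion.of (maximalIdeal S) S s ∈
        maximalIdeal (AdicCompletion (maximalIdeal S) S) ^ (n + 1) := by
      rw [AdicCompletion.maximalIdeal_eq_map, ← Ideal.map_pow, ← Submodule.restrictScalars_mem S,
        ← Ideal.smul_top_eq_map, AdicCompletion.pow_smul_top_eq_ker_eval (IsNoetherian.noetherian _),
        LinearMap.mem_ker, map_sub, sub_eq_zero]
      rw [← AdicCompletion.factor_evalₐ_eq_eval (maximalIdeal S) x (by simp),
        ← AdicCompletion.factor_evalₐ_eq_eval (maximalIdeal S) (AdicCompletion.of _ _ s) (by simp),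
        AdicCompletion.evalₐ_of, hs]
    have kill : ∀ χ : HomSet (completionRing res hres).carrier (completionRing res hres).res A,
        χ.1 x = χ.1 (toCompletion res hres s) := by
      intro χ
      have hle : (maximalIdeal (completionRing res hres).carrier).map χ.1 ≤ maximalIdeal A := by
        refine Ideal.map_le_iff_le_comap.2 fun r hr => ?_
        rw [Ideal.mem_comap, mem_maximalIdeal_iff, ← AlgHom.comp_apply, χ.2]
        exact (ker_res_eq_max _ (completionRing res hres).res_surjective).ge hr
      have hmem := Ideal.mem_map_of_mem χ.1 hker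
      have h0 : ((maximalIdeal (completionRing res hres).carrier) ^ (n + 1)).map χ.1 ≤ ⊥ := by
        rw [Ideal.map_pow]
        exact (Ideal.pow_right_mono hle _).trans hpow.le
      have hz := Ideal.mem_bot.1 (h0 hmem)
      exact sub_eq_zero.1 ((map_sub χ.1 (x : (completionRing res hres).carrier)
        (toCompletion res hres s)).symm.trans hz)
    rw [kill φ, kill φ']
    exact AlgHom.congr_fun (congrArg Subtype.val h) s
  · have hle : (maximalIdeal S).map ψ.1 ≤ maximalIdeal A := by
      refine Ideal.map_le_iff_le_comap.2 fun r hr => ?_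
      rw [Ideal.mem_comap, mem_maximalIdeal_iff, ← AlgHom.comp_apply, ψ.2]
      exact (ker_res_eq_max res hres).ge hr
    have h0 : ∀ a ∈ maximalIdeal S ^ (n + 1), ψ.1 a = 0 := fun a ha => by
      have hmem := Ideal.mem_map_of_mem ψ.1 ha
      rw [Ideal.map_pow] at hmem
      exact Ideal.mem_bot.1 (hpow.le (Ideal.pow_right_mono hle _ hmem))
    let g : AdicCompletion (maximalIdeal S) S →ₐ[Λ] A :=
      (Ideal.Quotient.liftₐ (maximalIdeal S ^ (n + 1)) ψ.1 h0).comp
        ((AdicCompletion.evalₐ (maximalIdeal S) (n + 1)).restrictScalars Λ)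
    have hg : ∀ s, g (AdicCompletion.of (maximalIdeal S) S s) = ψ.1 s := fun s => by
      change Ideal.Quotient.liftₐ (maximalIdeal S ^ (n + 1)) ψ.1 h0
        (AdicCompletion.evalₐ (maximalIdeal S) (n + 1) (AdicCompletion.of (maximalIdeal S) S s)) = _
      rw [AdicCompletion.evalₐ_of]
      rfl
    have hres' : A.res.comp g = augHom res hres := by
      refine AlgHom.ext fun x => ?_
      obtain ⟨a, ha⟩ := Ideal.Quotient.mk_surjective (AdicCompletion.evalₐ (maximalIdeal S) (n + 1) x)
      rw [augHom_apply res hres (evalₐ_factor x (Nat.le_add_left 1 n) ha), AlgHom.comp_apply,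
        AlgHom.comp_apply, AlgHom.restrictScalars_apply, ← ha]
      exact AlgHom.congr_fun ψ.2 a
    exact ⟨⟨g, hres'⟩, Subtype.ext (AlgHom.ext hg)⟩

end Groth.Agent.ArtFunLib
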