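import Groth.Agent.Lib.ArtFun.Length
import Mathlib.RingTheory.Kaehler.Basic
import Mathlib.RingTheory.Etale.Field
import Mathlib.RingTheory.TensorProduct.Finite

/-!
Essential surjections.
-/

set_option autoImplicit false

universe u v w

open CategoryTheory TensorProduct

namespace Groth.Agent.ArtFunLib

open ArtFun ArtFun.Art

variable {Λ k : Type u} [CommRing Λ] [Field k] [Algebra Λ k]

/-- An Artinian object as a coefficient ring. -/
def artRing (A : Art Λ k) : CRing Λ k :=
  { carrier := A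
    res := A.res
    res_surjective := A.res_surjective
    isAdicComplete := by
      obtain ⟨N, hN⟩ := isNilpotent_𝔪 A
      exact Groth.Agent.Compl.isAdicComplete_of_le_of_pow_le (I := ⊥) A bot_le (k := N) hN.le }

/-- Every tangent vector of the source comes from the target. -/
def TangentFactors {A B : Art Λ k} (f : B ⟶ A) : Prop :=
  ∀ d : B ⟶ dual Λ k, RingHom.ker f.toAlgHom ≤ RingHom.ker d.toAlgHom

/-- Surjectivity from tangent injectivity. -/
theorem surjective_of_hom_dual_injective {A B : Art Λ k} (f : B ⟶ A)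
    (h : ∀ a b : A ⟶ dual Λ k, f ≫ a = f ≫ b → a = b) : Function.Surjective f :=
  surjective_of_dual_injective (R := artRing B) (S := artRing A) f.toAlgHom f.res_comp fun φ ψ e =>
    homSet_ext fun r => congr_hom (h ⟨φ.1, φ.2⟩ ⟨ψ.1, ψ.2⟩ (hom_ext' e)) r

/-- Essential surjections. -/
def IsEss {A B : Art Λ k} (f : B ⟶ A) : Prop :=
  Function.Surjective f ∧ ∀ (C : Art Λ k) (g : C ⟶ B), Function.Surjective (g ≫ f) → Function.Surjective g

theorem isEss_of_tangentFactors {A B : Art Λ k} (f : B ⟶ A) (hf : Function.Surjective f)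
    (ht : TangentFactors f) : IsEss f := by
  refine ⟨hf, fun C g hg => surjective_of_hom_dual_injective g fun a b e => ?_⟩
  refine hom_ext' fun x => ?_
  obtain ⟨c, hc⟩ := hg (f x)
  have hx : ∀ d : B ⟶ dual Λ k, d x = d (g c) := fun d => by
    rw [← sub_eq_zero, ← map_sub]
    refine RingHom.mem_ker.1 (ht d (RingHom.mem_ker.2 ?_))
    rw [map_sub, sub_eq_zero]
    exact hc.symm
  rw [hx a, hx b]
  exact congr_hom e c

theorem tangentFactors_of_isEss [Module.Finite Λ k] {A B : Art Λ k} (f : B ⟶ A) (hf : IsEss f) :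
    TangentFactors f := by
  intro d x hx
  by_contra hdx
  let D : B →ₐ[Λ] DualNumber k := d.toAlgHom
  have hfst : ∀ b, TrivSqZeroExt.fst (D b) = B.res b := fun b => res_app d b
  have hxm : B.res x = 0 := (B.mem_maximalIdeal_iff x).1 (ker_le f hx)
  have hc0 : TrivSqZeroExt.snd (D x) ≠ 0 := fun h => hdx (RingHom.mem_ker.2
    (TrivSqZeroExt.ext (R := k) (M := k) ((hfst x).trans hxm) h))
  let incl : k →ₐ[Λ] DualNumber k := (Algebra.ofId k (DualNumber k)).restrictScalars Λ
  let P := D.equalizer (incl.comp B.res)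
  have hP : ∀ b, TrivSqZeroExt.snd (D b) = 0 → b ∈ P := fun b h =>
    TrivSqZeroExt.ext (hfst b) h
  have hlift : ∀ b : B, ∃ p : P, f p.1 = f b ∧ B.res p.1 = B.res b := fun b => by
    obtain ⟨r, hr⟩ := B.res_surjective (-TrivSqZeroExt.snd (D b) / TrivSqZeroExt.snd (D x))
    refine ⟨⟨b + r * x, hP _ ?_⟩, ?_, ?_⟩
    · rw [map_add, map_mul, TrivSqZeroExt.snd_add, TrivSqZeroExt.snd_mul, hfst x, hxm, hfst r, hr,
        MulOpposite.op_zero, zero_smul, add_zero, smul_eq_mul, div_mul_cancel₀ _ hc0, add_neg_cancel]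
    · change f (b + r * x) = f b
      rw [map_add, map_mul, (RingHom.mem_ker.1 hx : f x = 0), mul_zero, add_zero]
    · change B.res (b + r * x) = B.res b
      rw [map_add, map_mul, hxm, mul_zero, add_zero]
  let π : P →ₐ[Λ] k := B.res.comp P.val
  have hπs : Function.Surjective π := fun c => by
    obtain ⟨b, hb⟩ := B.res_surjective c
    obtain ⟨p, -, hp⟩ := hlift b
    exact ⟨p, hp.trans hb⟩
  obtain ⟨N, hN⟩ := isNilpotent_𝔪 B
  have hnil : ∀ a : P, π a = 0 → IsNilpotent a := fun a ha => ⟨N, Subtype.ext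
    ((Ideal.mem_bot).1 (hN.le (Ideal.pow_mem_pow ((B.mem_maximalIdeal_iff a.1).2 ha) N)))⟩
  have hunit : ∀ a : P, π a ≠ 0 → IsUnit a := fun a ha => by
    obtain ⟨b, hb⟩ := hπs (π a)⁻¹
    exact isUnit_of_mul_isUnit_left (y := b) (by
      have := (hnil (1 - a * b) (by rw [map_sub, map_one, map_mul, hb, mul_inv_cancel₀ ha, sub_self])).isUnit_one_sub
      rwa [sub_sub_cancel] at this)
  have : Nontrivial P := RingHom.domain_nontrivial π.toRingHom
  have : IsLocalRing P := IsLocalRing.of_isUnit_or_isUnit_one_sub_self fun a => by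
    by_cases ha : π a = 0
    · exact Or.inr (hnil a ha).isUnit_one_sub
    · exact Or.inl (hunit a ha)
  have : IsArtinian Λ B := (isArtinian_art B).1
  have : IsArtinian Λ P := isArtinian_of_injective P.val.toLinearMap Subtype.val_injective
  have : IsArtinianRing P := isArtinian_of_tower Λ ‹_›
  let C : Art Λ k := Art.of P π hπs
  let g : C ⟶ B := Art.homMk P.val rfl
  obtain ⟨p, hp⟩ := hf.2 C g (fun y => by
    obtain ⟨b, rfl⟩ := hf.1 y
    obtain ⟨p, hp, -⟩ := hlift b
    exact ⟨p, hp⟩) x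
  refine hc0 ?_
  rw [← hp]
  have h : D p.1 = incl (B.res p.1) := p.2
  change TrivSqZeroExt.snd (D p.1) = 0
  rw [h]
  rfl

theorem isEss_iff [Module.Finite Λ k] {A B : Art Λ k} (f : B ⟶ A) :
    IsEss f ↔ Function.Surjective f ∧ TangentFactors f :=
  ⟨fun h => ⟨h.1, tangentFactors_of_isEss f h⟩, fun h => isEss_of_tangentFactors f h.1 h.2⟩

section Relative

/-- `m_Λ A + m_A²`. -/
noncomputable def relIdeal (A : Art Λ k) : Ideal A :=
  Ideal.map (algebraMap Λ A) (RingHom.ker (algebraMap Λ k)) ⊔ IsLocalRing.maximalIdeal A ^ 2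

theorem relIdeal_le_max (A : Art Λ k) : relIdeal A ≤ IsLocalRing.maximalIdeal A :=
  sup_le (Ideal.map_le_iff_le_comap.2 fun l hl => (A.mem_maximalIdeal_iff _).2
    ((A.res.commutes l).trans hl)) (Ideal.pow_le_self two_ne_zero)

theorem dual_kills_relIdeal {B : Art Λ k} (d : B ⟶ dual Λ k) : relIdeal B ≤ RingHom.ker d.toAlgHom := by
  refine sup_le (Ideal.map_le_iff_le_comap.2 fun l hl => RingHom.mem_ker.2 ?_) ?_
  · exact (d.toAlgHom.commutes l).trans (TrivSqZeroExt.ext (R := k) (M := k)
      (show algebraMap Λ k l = 0 from hl) rfl)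
  · rw [pow_two]
    refine Ideal.mul_le.2 fun a ha b hb => RingHom.mem_ker.2 ?_
    have h1 : TrivSqZeroExt.fst (d a) = 0 := (res_app d a).trans ((B.mem_maximalIdeal_iff a).1 ha)
    have h2 : TrivSqZeroExt.fst (d b) = 0 := (res_app d b).trans ((B.mem_maximalIdeal_iff b).1 hb)
    rw [map_mul]
    refine TrivSqZeroExt.ext (R := k) (M := k) ?_ ?_
    · exact (TrivSqZeroExt.fst_mul _ _).trans (by rw [h1, zero_mul]; rfl)
    · refine (TrivSqZeroExt.snd_mul _ _).trans ?_
      rw [h1, h2, MulOpposite.op_zero, zero_smul, zero_smul, add_zero]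
      rfl

theorem map_relIdeal {A B : Art Λ k} (f : B ⟶ A) (hf : Function.Surjective f) :
    (relIdeal B).map f.toAlgHom = relIdeal A := by
  rw [relIdeal, relIdeal, Ideal.map_sup, Ideal.map_pow]
  congr 1
  · refine (Ideal.map_map (algebraMap Λ B) (f.toAlgHom : (B : Type u) →+* A)).trans ?_
    rw [AlgHom.comp_algebraMap]
  · exact congrArg (· ^ 2) (IsLocalRing.map_maximalIdeal_of_surjective (f.toAlgHom : (B : Type u) →+* A) hf)

/-- A morphism is surjective when it is so on relative cotangent spaces. -/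
theorem surjective_of_relIdeal {A B : Art Λ k} (f : B ⟶ A)
    (h : IsLocalRing.maximalIdeal A ≤
      relIdeal A ⊔ Ideal.map f.toAlgHom (IsLocalRing.maximalIdeal B)) : Function.Surjective f := by
  have hfm : (IsLocalRing.maximalIdeal B).map f.toAlgHom ≤ IsLocalRing.maximalIdeal A :=
    Ideal.map_le_iff_le_comap.2 fun b hb => map_mem f hb
  have : IsPrecomplete (IsLocalRing.maximalIdeal B) B := (artRing B).isAdicComplete.toIsPrecomplete
  have : IsHausdorff (IsLocalRing.maximalIdeal A) A := (artRing A).isAdicComplete.toIsHausdorff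
  refine surjective_of_cotangent (IsLocalRing.maximalIdeal B) (IsLocalRing.maximalIdeal A)
    (f.toAlgHom : (B : Type u) →+* A) hfm (fun s => ?_) (h.trans (sup_le ?_ le_sup_left))
  · obtain ⟨b, hb⟩ := B.res_surjective (A.res s)
    refine ⟨b, (A.mem_maximalIdeal_iff _).2 ?_⟩
    rw [map_sub, sub_eq_zero, ← hb]
    exact (res_app f b).symm
  · refine sup_le (le_sup_of_le_left (Ideal.map_le_iff_le_comap.2 fun l hl => ?_)) le_sup_right
    rw [Ideal.mem_comap, ← f.toAlgHom.commutes l]
    exact Ideal.mem_map_of_mem _ ((B.mem_maximalIdeal_iff _).2 ((B.res.commutes l).trans hl))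

theorem ker_le_relIdeal_of_separable [Module.Finite Λ k] [Algebra.IsSeparable (↥(algebraMap Λ k).range) k]
    {A B : Art Λ k} {f : B ⟶ A} (ht : TangentFactors f) : RingHom.ker f.toAlgHom ≤ relIdeal B := by
  intro x hx
  let E : Art Λ k := quot B (relIdeal B) (relIdeal_le_max B)
  let q : B ⟶ E := quotMk B (relIdeal B) (relIdeal_le_max B)
  have hE : IsLocalRing.maximalIdeal E ^ 2 = ⊥ := by
    rw [pow_two, ← le_bot_iff]
    refine Ideal.mul_le.2 fun a ha b hb => ?_
    obtain ⟨a, rfl⟩ := quotMk_surjective B (relIdeal B) (relIdeal_le_max B) a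
    obtain ⟨b, rfl⟩ := quotMk_surjective B (relIdeal B) (relIdeal_le_max B) b
    rw [Ideal.mem_bot, ← map_mul]
    exact Ideal.Quotient.eq_zero_iff_mem.2 (Ideal.mem_sup_right (pow_two (IsLocalRing.maximalIdeal B) ▸
      Ideal.mul_mem_mul (mem_of_map_mem q ha) (mem_of_map_mem q hb)))
  -- the residue field lifts to `E`
  letI : Algebra Λ (algebraMap Λ k).range := (algebraMap Λ k).rangeRestrict.toAlgebra
  have : IsScalarTower Λ (algebraMap Λ k).range k := IsScalarTower.of_algebraMap_eq fun _ => rfl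
  have hkill : RingHom.ker (algebraMap Λ k).rangeRestrict ≤ RingHom.ker (algebraMap Λ E) := fun l hl => by
    refine RingHom.mem_ker.2 (Ideal.Quotient.eq_zero_iff_mem.2 (Ideal.mem_sup_left (Ideal.mem_map_of_mem _ ?_)))
    rwa [RingHom.ker_rangeRestrict] at hl
  let e₀ : (algebraMap Λ k).range →+* E :=
    (RingHom.liftOfSurjective (algebraMap Λ k).rangeRestrict (algebraMap Λ k).rangeRestrict_surjective)
      ⟨algebraMap Λ E, hkill⟩
  letI : Algebra (algebraMap Λ k).range E := e₀.toAlgebra
  have he₀ : ∀ l : Λ, e₀ ((algebraMap Λ k).rangeRestrict l) = algebraMap Λ E l := fun l =>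
    RingHom.liftOfRightInverse_comp_apply _ _ _ _ l
  have : IsScalarTower Λ (algebraMap Λ k).range E := IsScalarTower.of_algebraMap_eq fun l => (he₀ l).symm
  let r : E →ₐ[(algebraMap Λ k).range] k :=
    { toRingHom := E.res.toRingHom
      commutes' := fun c => by
        obtain ⟨l, rfl⟩ := (algebraMap Λ k).rangeRestrict_surjective c
        change E.res (e₀ _) = _
        rw [he₀, AlgHom.commutes]
        rfl }
  have : Algebra.FormallyEtale (algebraMap Λ k).range k := by
    letI : Field (algebraMap Λ k).range := by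
      have : Module.Finite (algebraMap Λ k).range k := Module.Finite.of_restrictScalars_finite Λ _ _
      exact (isField_of_isIntegral_of_isField (R := (algebraMap Λ k).range) (S := k)
        Subtype.val_injective (Field.toIsField k)).toField
    exact Algebra.FormallyEtale.of_isSeparable _ _
  have hrnil : IsNilpotent (RingHom.ker (r : E →+* k)) :=
    ⟨2, le_bot_iff.1 ((Ideal.pow_right_mono (fun e he => (E.mem_maximalIdeal_iff e).2 he) 2).trans hE.le)⟩
  let s := Algebra.FormallySmooth.liftOfSurjective (R := (algebraMap Λ k).range) (A := k) (AlgHom.id _ k) r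
    E.res_surjective hrnil
  let σ : base Λ k ⟶ E := Art.homMk (s.restrictScalars Λ) (AlgHom.ext fun c =>
    Algebra.FormallySmooth.liftOfSurjective_apply (R := (algebraMap Λ k).range) (A := k) (AlgHom.id _ k) r
      E.res_surjective hrnil c)
  let res₀ : Polynomial Λ →ₐ[Λ] k := Polynomial.aeval 0
  have hx0 : E.res (q x) = 0 := (res_app q x).trans ((B.mem_maximalIdeal_iff x).1 (ker_le f hx))
  let φx : HomSet (Polynomial Λ) res₀ E :=
    ⟨Polynomial.aeval (q x), Polynomial.algHom_ext (by simp [res₀, hx0])⟩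
  let φ0 : HomSet (Polynomial Λ) res₀ E :=
    ⟨Polynomial.aeval 0, Polynomial.algHom_ext (by simp [res₀])⟩
  have heq : φx = φ0 := eq_of_forall_dual σ hE fun g => Subtype.ext (Polynomial.algHom_ext (by
    change g (Polynomial.aeval (q x) (Polynomial.X : Polynomial Λ)) =
      g (Polynomial.aeval 0 (Polynomial.X : Polynomial Λ))
    rw [Polynomial.aeval_X, Polynomial.aeval_X, map_zero]
    exact RingHom.mem_ker.1 (ht (q ≫ g) hx)))
  have h := congrArg (fun χ : HomSet (Polynomial Λ) res₀ E => χ.1 Polynomial.X) heq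
  have h' : q x = 0 := by simpa [φx, φ0] using h
  exact Ideal.Quotient.eq_zero_iff_mem.1 h'

end Relative

section Kaehler

variable (B : Art Λ k) [Algebra B k] (hB : ∀ b : B, algebraMap B k b = B.res b)

include hB in
theorem kaehler_functional_ext {χ χ' : (k ⊗[B] Ω[B⁄Λ]) →ₗ[k] k}
    (h : ∀ b : B, χ ((1 : k) ⊗ₜ KaehlerDifferential.D Λ B b) = χ' ((1 : k) ⊗ₜ KaehlerDifferential.D Λ B b)) :
    χ = χ' := by
  refine LinearMap.ext fun z => ?_
  induction z with
  | zero => simp
  | tmul c ω =>
    have hω : ω ∈ Submodule.span B (Set.range (KaehlerDifferential.D Λ B)) :=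
      KaehlerDifferential.span_range_derivation Λ B ▸ Submodule.mem_top
    rw [show c ⊗ₜ[B] ω = c • ((1 : k) ⊗ₜ[B] ω) by rw [TensorProduct.smul_tmul', smul_eq_mul, mul_one],
      map_smul, map_smul]
    congr 1
    induction hω using Submodule.span_induction with
    | mem y hy => obtain ⟨b, rfl⟩ := hy; exact h b
    | zero => simp
    | add x y _ _ hx hy => rw [TensorProduct.tmul_add, map_add, map_add, hx, hy]
    | smul a x _ hx =>
      rw [TensorProduct.tmul_smul, ← IsScalarTower.algebraMap_smul k a ((1 : k) ⊗ₜ[B] x), map_smul, map_smul, hx]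
  | add x y hx hy => rw [map_add, map_add, hx, hy]

include hB in
theorem exists_functional (d : B ⟶ dual Λ k) :
    ∃ χ : (k ⊗[B] Ω[B⁄Λ]) →ₗ[k] k,
      ∀ b : B, χ ((1 : k) ⊗ₜ KaehlerDifferential.D Λ B b) = TrivSqZeroExt.snd (d b) := by
  have : IsScalarTower Λ B k := IsScalarTower.of_algebraMap_eq fun r => ((hB _).trans (B.res.commutes r)).symm
  let D : B →ₐ[Λ] DualNumber k := d.toAlgHom
  let l : B →ₗ[Λ] k :=
    { toFun := fun c => TrivSqZeroExt.snd (D c)
      map_add' := fun c e => by rw [map_add, TrivSqZeroExt.snd_add]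
      map_smul' := fun r c => by rw [map_smul, TrivSqZeroExt.snd_smul]; rfl }
  let δ : Derivation Λ B k := Derivation.mk' l fun a b => by
    have ha : TrivSqZeroExt.fst (D a) = B.res a := res_app d a
    have hb : TrivSqZeroExt.fst (D b) = B.res b := res_app d b
    change TrivSqZeroExt.snd (D (a * b)) = a • TrivSqZeroExt.snd (D b) + b • TrivSqZeroExt.snd (D a)
    rw [map_mul, TrivSqZeroExt.snd_mul, ha, hb, op_smul_eq_smul, Algebra.smul_def (A := k) a,
      Algebra.smul_def (A := k) b, hB, hB, smul_eq_mul, smul_eq_mul]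
  refine ⟨δ.liftKaehlerDifferential.liftBaseChange k, fun b => ?_⟩
  rw [LinearMap.liftBaseChange_tmul, one_smul, Derivation.liftKaehlerDifferential_comp_D]
  rfl

include hB in
theorem exists_tangent (χ : (k ⊗[B] Ω[B⁄Λ]) →ₗ[k] k) :
    ∃ d : B ⟶ dual Λ k,
      ∀ b : B, TrivSqZeroExt.snd (d b) = χ ((1 : k) ⊗ₜ KaehlerDifferential.D Λ B b) := by
  let δ : B → k := fun b => χ ((1 : k) ⊗ₜ KaehlerDifferential.D Λ B b)
  have hδ0 : ∀ r : Λ, δ (algebraMap Λ B r) = 0 := fun r => by
    change χ _ = 0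
    rw [Derivation.map_algebraMap, TensorProduct.tmul_zero, map_zero]
  have hδm : ∀ a b, δ (a * b) = B.res a * δ b + B.res b * δ a := fun a b => by
    change χ _ = _ * χ _ + _ * χ _
    rw [Derivation.leibniz, TensorProduct.tmul_add, TensorProduct.tmul_smul, TensorProduct.tmul_smul,
      ← IsScalarTower.algebraMap_smul k a ((1 : k) ⊗ₜ[B] KaehlerDifferential.D Λ B b),
      ← IsScalarTower.algebraMap_smul k b ((1 : k) ⊗ₜ[B] KaehlerDifferential.D Λ B a), map_add, map_smul,
      map_smul, hB, hB, smul_eq_mul, smul_eq_mul]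
  have hδa : ∀ a b, δ (a + b) = δ a + δ b := fun a b => by
    change χ _ = χ _ + χ _
    rw [map_add, TensorProduct.tmul_add, map_add]
  have hδ1 : δ 1 = 0 := by have := hδ0 1; rwa [map_one] at this
  have hδz : δ 0 = 0 := by have := hδ0 0; rwa [map_zero] at this
  let g : B →ₐ[Λ] TrivSqZeroExt k k :=
    { toFun := fun b => TrivSqZeroExt.inl (B.res b) + TrivSqZeroExt.inr (δ b)
      map_one' := TrivSqZeroExt.ext (by simp) (by simp [hδ1])
      map_mul' := fun a b => TrivSqZeroExt.ext (by simp) (by simp [hδm]; ring)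
      map_zero' := TrivSqZeroExt.ext (by simp) (by simp [hδz])
      map_add' := fun a b => TrivSqZeroExt.ext (by simp) (by simp [hδa])
      commutes' := fun r => TrivSqZeroExt.ext
        (by simp [TrivSqZeroExt.algebraMap_eq_inl']) (by simp [TrivSqZeroExt.algebraMap_eq_inl', hδ0]) }
  refine ⟨Art.homMk g (AlgHom.ext fun b => add_zero _), fun b => ?_⟩
  exact zero_add _

end Kaehler

end Groth.Agent.ArtFunLib
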