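import Groth.Agent.Lib.ArtFun.Action
import Groth.Agent.Lib.ArtFun.CRing

/-!
Versal families.
-/

set_option autoImplicit false

universe u v w

open CategoryTheory

namespace Groth.Agent.ArtFunLib

open ArtFun ArtFun.Art

variable {Λ k : Type u} [CommRing Λ] [Field k] [Algebra Λ k]

section General

variable {R : Type u} [CommRing R] [Algebra Λ R] {resR : R →ₐ[Λ] k} {F : Art Λ k ⥤ Type v}
  {ξ : Family R resR F}

theorem versal_surjective (hξ : IsVersal ξ) (h0 : H0 F) (A : Art Λ k) :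
    Function.Surjective (ξ.app A) :=
  surjective_of_lifts (F := hR R resR) (fun A φ => ξ.app A φ) ((isVersal_iff_lifts ξ).1 hξ)
    (fun y => ⟨(h0_hR resR).1.some, subsingleton_base h0 _ _⟩) A

theorem h0_of_surjective (hs : Function.Surjective (ξ.app (base Λ k))) : H0 F :=
  ⟨⟨ξ.app _ (h0_hR resR).1.some⟩, ⟨fun x y => by
    obtain ⟨φ, rfl⟩ := hs x
    obtain ⟨ψ, rfl⟩ := hs y
    exact congrArg _ (subsingleton_base (h0_hR resR) φ ψ)⟩⟩

theorem s1_of_versal (hξ : IsVersal ξ) (h0 : H0 F) : S1 F := by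
  intro B A A' A'' p' p'' f' f'' h hf
  refine (cmp_surjective_iff F h).2 fun a b e => ?_
  obtain ⟨φ', hφ'⟩ := versal_surjective hξ h0 A' a
  obtain ⟨φ'', h1, h2⟩ := hξ f'' hf (HomSet.map f' φ') b (by rw [ξ.natural, hφ', e])
  obtain ⟨ψ, hψ1, hψ2⟩ :=
    (cmp_surjective_iff _ h).1 (isLeftExact_hR resR p' p'' f' f'' h).2 φ' φ'' h1.symm
  exact ⟨ξ.app B ψ, by rw [← ξ.natural, ← hφ']; exact congrArg _ hψ1,
    by rw [← ξ.natural, ← h2]; exact congrArg _ hψ2⟩

theorem heps_of_miniversal (hξ : IsMiniversal ξ) (h0 : H0 F) : Heps F := by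
  intro B A' p' p'' h
  refine ⟨(cmp_injective_iff F h).2 fun z z' e1 e2 => ?_,
    s1_of_versal hξ.1 h0 p' p'' _ _ h (surjective_toBase _)⟩
  have hp' : Function.Surjective p' := surjective_fst h (surjective_toBase _)
  obtain ⟨φ, hφ⟩ := versal_surjective hξ.1 h0 A' (F.map p' z)
  obtain ⟨ψ, hψ1, hψ2⟩ := hξ.1 p' hp' φ z hφ.symm
  obtain ⟨ψ', hψ1', hψ2'⟩ := hξ.1 p' hp' φ z' (by rw [← e1, hφ])
  have : ψ = ψ' := (cmp_injective_iff _ h).1 (isLeftExact_hR resR _ _ _ _ h).1 ψ ψ'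
    (hψ1.trans hψ1'.symm) (hξ.2.1 (by
      change ξ.app _ (HomSet.map p'' ψ) = ξ.app _ (HomSet.map p'' ψ')
      rw [ξ.natural, ξ.natural, hψ2, hψ2', e2]))
  rw [← hψ2, ← hψ2', this]

theorem isVersal_of_tangent (ξ : Family R resR F) (h1 : Hbar F) (h2 : Heps F)
    (hT : Function.Surjective (ξ.app (dual Λ k)))
    (hlift : ∀ ⦃B A : Art Λ k⦄ (μ : B ⟶ A), IsSmallExt μ → ∀ (φ : HomSet R resR A) (y : F.obj B),
      F.map μ y = ξ.app A φ → ∃ ψ : HomSet R resR B, HomSet.map μ ψ = φ) : IsVersal ξ :=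
  (isVersal_iff_lifts ξ).2 (lifts_of_tangent (F := hR R resR) (fun A φ => ξ.app A φ)
    (natural_family ξ) (h0_hR resR) (fun _ _ _ _ h => (isLeftExact_hR resR _ _ _ _ h).2) h1 h2 hT hlift)

theorem tangentSurjective_of_versal (hξ : IsVersal ξ) (h0 : H0 F) :
    Function.Surjective (ξ.app (dual Λ k)) :=
  versal_surjective hξ h0 _

theorem isUniversal_of_miniversal (hξ : IsMiniversal ξ) (h0 : H0 F) (h4 : HSq F) : IsUniversal ξ := fun A =>
  ⟨injective_of_tangent (F := hR R resR) (fun A φ => ξ.app A φ) (natural_family ξ) (h0_hR resR)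
      (rs_hR resR).hbar (rs_hR resR).heps h4 hξ.2.1 A, versal_surjective hξ.1 h0 A⟩

theorem rs_of_universal (hξ : IsUniversal ξ) : RS F := by
  intro B A A' A'' p' p'' f' f'' h hf
  have hh := rs_hR resR p' p'' f' f'' h hf
  refine ⟨(cmp_injective_iff F h).2 fun z z' e1 e2 => ?_, (cmp_surjective_iff F h).2 fun a b e => ?_⟩
  · obtain ⟨φ, rfl⟩ := (hξ B).2 z
    obtain ⟨ψ, rfl⟩ := (hξ B).2 z'
    exact congrArg _ ((cmp_injective_iff _ h).1 hh.1 φ ψ ((hξ _).1 ((ξ.natural _ _).trans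
      (e1.trans (ξ.natural _ _).symm))) ((hξ _).1 ((ξ.natural _ _).trans (e2.trans (ξ.natural _ _).symm))))
  · obtain ⟨φ, rfl⟩ := (hξ A').2 a
    obtain ⟨ψ, rfl⟩ := (hξ A'').2 b
    obtain ⟨χ, h1, h2⟩ := (cmp_surjective_iff _ h).1 hh.2 φ ψ ((hξ A).1
      ((ξ.natural _ _).trans (e.trans (ξ.natural _ _).symm)))
    exact ⟨ξ.app B χ, by rw [← ξ.natural]; exact congrArg _ h1, by rw [← ξ.natural]; exact congrArg _ h2⟩

theorem isVersal_of_universal (hξ : IsUniversal ξ) : IsVersal ξ := by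
  intro B A μ _ φ y hy
  obtain ⟨ψ, rfl⟩ := (hξ B).2 y
  exact ⟨ψ, (hξ A).1 ((ξ.natural μ ψ).trans hy), rfl⟩

theorem isMiniversal_of_universal (hξ : IsUniversal ξ) : IsMiniversal ξ :=
  ⟨isVersal_of_universal hξ, hξ _⟩

end General

theorem truncMap0_toBase (S : CRing Λ k) : Function.Bijective (toBase (S.trunc 0)) := by
  refine ⟨fun x y h => ?_, surjective_toBase _⟩
  obtain ⟨a, rfl⟩ := Ideal.Quotient.mk_surjective (I := CRing.mpow S 0) x
  obtain ⟨b, rfl⟩ := Ideal.Quotient.mk_surjective (I := CRing.mpow S 0) y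
  refine Ideal.Quotient.eq.2 ?_
  rw [CRing.mpow, zero_add, pow_one, CRing.mem_maximalIdeal_iff, map_sub, sub_eq_zero]
  exact h

/-- A formal element is induced from a versal family. -/
theorem exists_along {F : Art Λ k ⥤ Type v} {R : Type u} [CommRing R] [Algebra Λ R] {resR : R →ₐ[Λ] k}
    {ξ : Family R resR F} (hξ : IsVersal ξ) (h0 : H0 F) {S : CRing Λ k} (η : FormalElt F S) :
    ∃ (g : R →ₐ[Λ] S.carrier) (hg : S.res.comp g = resR), (ξ.along g hg).toFormalElt = η := by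
  obtain ⟨φ₀, hφ₀⟩ := versal_surjective hξ h0 (S.trunc 0) (η.elt 0)
  have step : ∀ n (φ : {φ : HomSet R resR (S.trunc n) // ξ.app _ φ = η.elt n}),
      ∃ ψ : {φ : HomSet R resR (S.trunc (n + 1)) // ξ.app _ φ = η.elt (n + 1)},
        HomSet.map (S.truncMap n) ψ.1 = φ.1 := fun n φ => by
    obtain ⟨ψ, h1, h2⟩ := hξ (S.truncMap n) (truncMap_surjective S n) φ.1 (η.elt (n + 1))
      (by rw [η.compat, φ.2])
    exact ⟨⟨ψ, h2⟩, h1⟩
  choose next hnext using step
  let seq : ∀ n, {φ : HomSet R resR (S.trunc n) // ξ.app _ φ = η.elt n} := fun n =>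
    Nat.rec ⟨φ₀, hφ₀⟩ (fun i p => next i p) n
  obtain ⟨g, hg, hgn⟩ := exists_of_compat (fun n => (seq n).1) (fun n => hnext n (seq n))
  exact ⟨g, hg, FormalElt.ext' fun n => (congrArg (ξ.app _) (hgn n)).trans (seq n).2⟩

end Groth.Agent.ArtFunLib

namespace Groth.Agent.ArtFunLib

open ArtFun ArtFun.Art

variable {Λ k : Type u} [CommRing Λ] [Field k] [Algebra Λ k] {R : Type u} [CommRing R] [Algebra Λ R]
  {resR : R →ₐ[Λ] k} {F : Art Λ k ⥤ Type v} {ξ : Family R resR F}

/-- Points in split square-zero objects are detected by maps to the dual numbers. -/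
theorem eq_of_forall_dual {E : Art Λ k} (σ : base Λ k ⟶ E) (hE : IsLocalRing.maximalIdeal E ^ 2 = ⊥)
    {a b : HomSet R resR E} (h : ∀ g : E ⟶ dual Λ k, HomSet.map g a = HomSet.map g b) : a = b := by
  letI : Algebra k E := (σ.toAlgHom.toRingHom : k →+* E).toAlgebra
  let sσ : k →+* E := σ.toAlgHom.toRingHom
  have hs : ∀ c, E.res (sσ c) = c := fun c => res_app σ c
  refine homSet_ext fun r => sub_eq_zero.1 ?_
  by_contra hne
  obtain ⟨χ, hχ⟩ := Module.Projective.exists_dual_ne_zero k hne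
  let φ : E → k := fun e => χ (e - sσ (E.res e))
  have hmem : ∀ e : E, e - sσ (E.res e) ∈ IsLocalRing.maximalIdeal E := fun e => by
    rw [mem_maximalIdeal_iff, map_sub, hs, sub_self]
  have hsm : ∀ (c : k) (e : E), sσ c * e = c • e := fun c e => (Algebra.smul_def c e).symm
  let g₀ : E →ₐ[Λ] DualNumber k :=
    { toFun := fun e => (TrivSqZeroExt.inl (E.res e) + TrivSqZeroExt.inr (φ e) : DualNumber k)
      map_one' := TrivSqZeroExt.ext (by simp) (by simp [φ])
      map_mul' := fun x y => TrivSqZeroExt.ext (by simp) (by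
        have h0 : (x - sσ (E.res x)) * (y - sσ (E.res y)) = 0 := (Ideal.mem_bot).1 (hE.le (by
          rw [pow_two]; exact Ideal.mul_mem_mul (hmem x) (hmem y)))
        have e : x * y - sσ (E.res (x * y)) =
            E.res x • (y - sσ (E.res y)) + E.res y • (x - sσ (E.res x)) := by
          rw [← hsm, ← hsm, map_mul, map_mul]
          linear_combination h0
        simp only [φ, e, map_add, map_smul, smul_eq_mul, TrivSqZeroExt.snd_add, TrivSqZeroExt.snd_inl,
          TrivSqZeroExt.snd_inr, TrivSqZeroExt.snd_mul, TrivSqZeroExt.fst_add, TrivSqZeroExt.fst_inl,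
          TrivSqZeroExt.fst_inr, zero_add, add_zero, op_smul_eq_smul]
        )
      map_zero' := TrivSqZeroExt.ext (by simp) (by simp [φ])
      map_add' := fun x y => TrivSqZeroExt.ext (by simp) (by
        have e : x + y - sσ (E.res (x + y)) = (x - sσ (E.res x)) + (y - sσ (E.res y)) := by
          rw [map_add, map_add]; ring
        simp only [TrivSqZeroExt.snd_add, TrivSqZeroExt.snd_inl, TrivSqZeroExt.snd_inr, zero_add]
        change χ _ = χ _ + χ _
        rw [e, map_add])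
      commutes' := fun c => TrivSqZeroExt.ext (by simp [TrivSqZeroExt.algebraMap_eq_inl']) (by
        have e : algebraMap Λ E c - sσ (E.res (algebraMap Λ E c)) = 0 := by
          rw [AlgHom.commutes, sub_eq_zero]; exact (σ.toAlgHom.commutes c).symm
        simp only [φ, e, map_zero, TrivSqZeroExt.algebraMap_eq_inl', TrivSqZeroExt.snd_add,
          TrivSqZeroExt.snd_inl, TrivSqZeroExt.snd_inr, zero_add]) }
  let g : E ⟶ dual Λ k := Art.homMk g₀ (AlgHom.ext fun e => by
    change E.res e + 0 = E.res e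
    exact add_zero _)
  have e : HomSet.map g a = HomSet.map g b := h g
  have e1 : (0 : k) + φ (a.1 r) = 0 + φ (b.1 r) :=
    congrArg (fun t : HomSet R resR (dual Λ k) => TrivSqZeroExt.snd (t.1 r)) e
  refine hχ ?_
  rw [zero_add, zero_add] at e1
  simp only [φ, homSet_res] at e1
  rw [map_sub] at e1 ⊢
  rw [map_sub] at e1
  exact sub_eq_zero.2 (sub_left_injective e1)

/-- Over a field, points in split square-zero objects are detected by a miniversal family. -/
theorem injective_of_miniversal_sqZero (hξ : IsMiniversal ξ) {E : Art Λ k} (σ : base Λ k ⟶ E)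
    (hE : IsLocalRing.maximalIdeal E ^ 2 = ⊥) {a b : HomSet R resR E} (h : ξ.app E a = ξ.app E b) : a = b :=
  eq_of_forall_dual σ hE fun g => hξ.2.1 (by rw [ξ.natural, ξ.natural, h])

end Groth.Agent.ArtFunLib
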