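import Groth.Agent.Lib.ArtFun.Versal
import Mathlib.LinearAlgebra.Dimension.Finite

/-!
Schlessinger's theorem: versal families, hulls, pro-representability.
-/

set_option autoImplicit false

universe u v w

open CategoryTheory

namespace Groth.Agent.ArtFunLib

open ArtFun ArtFun.Art

variable {Λ k : Type u} [CommRing Λ] [Field k] [Algebra Λ k]

/-- Points descend along surjections. -/
theorem exists_desc_point {R R' : Type u} [CommRing R] [Algebra Λ R] [CommRing R'] [Algebra Λ R']
    {resR : R →ₐ[Λ] k} {resR' : R' →ₐ[Λ] k} (π : R →ₐ[Λ] R') (hπ : Function.Surjective π)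
    (hres : resR'.comp π = resR) {A : Art Λ k} (φ : HomSet R resR A)
    (h : RingHom.ker π ≤ RingHom.ker φ.1) :
    ∃ φ' : HomSet R' resR' A, ∀ r, φ'.1 (π r) = φ.1 r := by
  let e := Ideal.quotientKerAlgEquivOfSurjective hπ
  let g : R' →ₐ[Λ] A := (Ideal.Quotient.liftₐ (RingHom.ker π) φ.1 fun _ ha => h ha).comp e.symm.toAlgHom
  have hg : ∀ r, g (π r) = φ.1 r := fun r => by
    have : e.symm (π r) = Ideal.Quotient.mk _ r := e.symm_apply_eq.2 rfl
    change Ideal.Quotient.liftₐ _ φ.1 (fun _ ha => h ha) (e.symm (π r)) = _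
    rw [this]
    rfl
  refine ⟨⟨g, AlgHom.ext fun y => ?_⟩, hg⟩
  obtain ⟨r, rfl⟩ := hπ y
  rw [AlgHom.comp_apply, hg, homSet_res, ← hres]
  rfl

theorem dual_point_ext {R : Type u} [CommRing R] [Algebra Λ R] {resR : R →ₐ[Λ] k}
    {x y : HomSet R resR (dual Λ k)}
    (h : ∀ r, TrivSqZeroExt.snd (x.1 r) = TrivSqZeroExt.snd (y.1 r)) : x = y :=
  homSet_ext fun r => TrivSqZeroExt.ext (R := k) (M := k)
    ((homSet_res x r).trans (homSet_res y r).symm) (h r)

section TangentHR

variable {R : Type u} [CommRing R] [Algebra Λ R] {resR : R →ₐ[Λ] k} [TangentStr (hR R resR)]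

/-- Evaluation of a tangent vector of `h_R` at an element. -/
noncomputable def evLin (r : R) : TangentSpace (hR R resR) →ₗ[k] k where
  toFun φ := TrivSqZeroExt.snd ((φ.val : HomSet R resR (dual Λ k)).1 r)
  map_add' x y := by
    obtain ⟨z, h1, h2⟩ := (cmp_surjective_iff _ _).1 ((rs_hR resR).heps _ _ isFibreProd_dual2).2 x.val y.val
      (subsingleton_base (h0_hR resR) _ _)
    rw [show x + y = TangentSpace.mk ((hR R resR).map plus z) from by rw [← add_def, h1, h2]; rfl,
      ← h1, ← h2]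
    rfl
  map_smul' c x := by
    rw [smul_def]
    rfl

theorem evLin_apply (r : R) (φ : TangentSpace (hR R resR)) :
    evLin r φ = TrivSqZeroExt.snd ((φ.val : HomSet R resR (dual Λ k)).1 r) := rfl

theorem tangent_ext {x y : TangentSpace (hR R resR)} (h : ∀ r : R, evLin r x = evLin r y) : x = y :=
  dual_point_ext h

end TangentHR

theorem dual_eval_mul {R : CRing Λ k} (φ : HomSet R.carrier R.res (dual Λ k)) (a z : R.carrier)
    (hz : z ∈ IsLocalRing.maximalIdeal R.carrier) :
    TrivSqZeroExt.snd (φ.1 (a * z)) = R.res a * TrivSqZeroExt.snd (φ.1 z) := by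
  have h1 : TrivSqZeroExt.fst (φ.1 a) = R.res a := homSet_res φ a
  have h2 : TrivSqZeroExt.fst (φ.1 z) = 0 := (homSet_res φ z).trans ((R.mem_maximalIdeal_iff z).1 hz)
  have e : φ.1 (a * z) = φ.1 a * φ.1 z := map_mul φ.1 a z
  rw [e]
  refine (TrivSqZeroExt.snd_mul _ _).trans ?_
  rw [h1, h2, MulOpposite.op_zero, zero_smul, add_zero, smul_eq_mul]

/-- Tangent spaces of coefficient rings are finite-dimensional. -/
theorem hfin_hR [Module.Finite Λ k] (R : CRing Λ k) [TangentStr (hR R.carrier R.res)] :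
    Hfin (hR R.carrier R.res) := by
  obtain ⟨n, s, hs⟩ := Module.Finite.exists_fin (R := Λ) (M := k)
  choose x hx using fun i => R.res_surjective (s i)
  obtain ⟨m, w, hw⟩ := Submodule.fg_iff_exists_fin_generating_family.1
    (IsNoetherian.noetherian (IsLocalRing.maximalIdeal R.carrier))
  have hwm : ∀ j, w j ∈ IsLocalRing.maximalIdeal R.carrier := fun j =>
    hw ▸ Submodule.subset_span (Set.mem_range_self j)
  let L : TangentSpace (hR R.carrier R.res) →ₗ[k] (Fin n ⊕ Fin m → k) :=
    LinearMap.pi (Sum.elim (fun i => evLin (x i)) fun j => evLin (w j))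
  refine Module.Finite.of_injective L fun p q h => tangent_ext fun r => ?_
  obtain ⟨l, hl⟩ := (Submodule.mem_span_range_iff_exists_fun Λ).1 (hs ▸ Submodule.mem_top (x := R.res r))
  have hrest : r - ∑ i, l i • x i ∈ IsLocalRing.maximalIdeal R.carrier := by
    rw [CRing.mem_maximalIdeal_iff, map_sub, map_sum, sub_eq_zero, ← hl]
    exact Finset.sum_congr rfl fun i _ => by rw [map_smul, hx]
  rw [← hw] at hrest
  obtain ⟨a, ha⟩ := (Submodule.mem_span_range_iff_exists_fun R.carrier).1 hrest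
  have hr : r = (∑ i, l i • x i) + ∑ j, a j * w j := by
    simp only [← smul_eq_mul, ha, add_sub_cancel]
  have key : ∀ φ : HomSet R.carrier R.res (dual Λ k), TrivSqZeroExt.snd (φ.1 r) =
      (∑ i, l i • TrivSqZeroExt.snd (φ.1 (x i))) + ∑ j, R.res (a j) * TrivSqZeroExt.snd (φ.1 (w j)) := by
    intro φ
    rw [hr, map_add, map_sum, map_sum]
    refine (TrivSqZeroExt.snd_add _ _).trans ?_
    congr 1
    · refine (TrivSqZeroExt.snd_sum _ _).trans (Finset.sum_congr rfl fun i _ => ?_)
      rw [map_smul]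
      rfl
    · exact (TrivSqZeroExt.snd_sum _ _).trans
        (Finset.sum_congr rfl fun j _ => dual_eval_mul φ _ _ (hwm j))
  rw [evLin_apply, evLin_apply, key, key]
  congr 1
  · exact Finset.sum_congr rfl fun i _ => congrArg (l i • ·) (congrFun h (Sum.inl i))
  · exact Finset.sum_congr rfl fun j _ => congrArg (R.res (a j) * ·) (congrFun h (Sum.inr j))

theorem mk_baseToDual_eq_zero {F : Art Λ k ⥤ Type v} [TangentStr F] (h0 : H0 F) (p : F.obj (base Λ k)) :
    TangentSpace.mk (F.map baseToDual p) = 0 := by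
  rw [← zero_smul k (TangentSpace.mk (F.map baseToDual p)), smul_def]
  exact congrArg TangentSpace.mk (map_scale_zero h0 _ p).symm

variable [IsNoetherianRing Λ] [Module.Finite Λ k]

/-- Versal families exist. -/
theorem hasVersal_of (F : Art Λ k ⥤ Type v) [TangentStr F] (h0 : H0 F) (h1 : S1 F) (h2 : Heps F)
    (h3 : Hfin F) : HasVersal F := by
  obtain ⟨m, c, hc⟩ := exists_generators (Λ := Λ) (k := k)
  have : Module.Finite k (TangentSpace F) := h3
  let b := Module.finBasis k (TangentSpace F)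
  let c' : Fin m ⊕ Fin (Module.finrank k (TangentSpace F)) → k := Sum.elim c 0
  have hc' : Function.Surjective (MvPolynomial.aeval (R := Λ) c') := fun y => by
    obtain ⟨f, rfl⟩ := hc y
    refine ⟨MvPolynomial.rename Sum.inl f, ?_⟩
    rw [MvPolynomial.aeval_rename]
    rfl
  obtain ⟨P, x, hx, huniv⟩ := exists_polyRing c' hc'
  have hP := isSmoothFunctor_of_polyRing hx huniv
  let a : Fin m ⊕ Fin (Module.finrank k (TangentSpace F)) → tn Λ k (Module.finrank k (TangentSpace F)) :=
    Sum.elim (fun i => TrivSqZeroExt.inl (c i)) fun j => TrivSqZeroExt.inr (Pi.single j 1)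
  obtain ⟨φ₀, hφ₀, -⟩ := huniv (tn Λ k _) a (by rintro (i | j) <;> rfl)
  have hrange : ∀ z, z ∈ φ₀.1.range := by
    have hl : ∀ y : k, (TrivSqZeroExt.inl y : tn Λ k (Module.finrank k (TangentSpace F))) ∈ φ₀.1.range := by
      intro y
      obtain ⟨f, rfl⟩ := hc y
      refine ⟨MvPolynomial.aeval (x ∘ Sum.inl) f, ?_⟩
      have e : φ₀.1.comp (MvPolynomial.aeval (x ∘ Sum.inl)) =
          (TrivSqZeroExt.inlAlgHom Λ k _).comp (MvPolynomial.aeval c) :=
        MvPolynomial.algHom_ext fun i => by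
          change φ₀.1 (MvPolynomial.aeval (x ∘ Sum.inl) (MvPolynomial.X i)) =
            TrivSqZeroExt.inlAlgHom Λ k _ (MvPolynomial.aeval c (MvPolynomial.X i))
          erw [MvPolynomial.aeval_X, MvPolynomial.aeval_X]
          exact hφ₀ (Sum.inl i)
      exact AlgHom.congr_fun e f
    have hdec : ∀ z : TrivSqZeroExt k (Fin (Module.finrank k (TangentSpace F)) → k), z =
        TrivSqZeroExt.inl z.fst +
          ∑ j, TrivSqZeroExt.inl (z.snd j) * TrivSqZeroExt.inr (Pi.single j 1) := fun z => by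
      refine TrivSqZeroExt.ext ?_ ?_
      · simp [TrivSqZeroExt.fst_sum]
      · simp [TrivSqZeroExt.snd_sum, ← Pi.single_smul, Finset.univ_sum_single]
    intro z
    rw [hdec z]
    exact add_mem (hl _) (sum_mem fun j _ => mul_mem (hl _) ⟨x (Sum.inr j), hφ₀ (Sum.inr j)⟩)
  obtain ⟨y, hy⟩ := (tnProj_bijective h0 h2 _).2 fun i => (b i).val
  obtain ⟨R, π, ξ, φ, -, -, -, hξ, hver⟩ := exists_versal_quotient h1 h2 P hP ⟨_, φ₀, hrange, y⟩
  refine ⟨⟨R, ξ, hver fun z => ?_⟩⟩
  let t : TangentSpace F := TangentSpace.mk z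
  let L : (Fin (Module.finrank k (TangentSpace F)) → k) →ₗ[k] k :=
    ∑ i, b.repr t i • LinearMap.proj i
  refine ⟨HomSet.map (tnDual L) φ, ?_⟩
  rw [ξ.natural, hξ]
  change evT y L = t
  rw [evT_eq_sum, ← b.sum_repr t]
  refine Finset.sum_congr rfl fun i _ => ?_
  rw [show evT y (LinearMap.proj i) = b i from congrFun hy i]
  congr 1
  simp [L, LinearMap.sum_apply, Pi.single_apply]

/-- A versal family can be cut down to a hull when no nonzero derivation of `k` dies in `F`. -/
theorem hasHull_of_versal {F : Art Λ k ⥤ Type v} [TangentStr F] (h0 : H0 F) (h2 : Heps F)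
    (hc : ∀ (x₀ : F.obj (base Λ k)) (σ : base Λ k ⟶ dual Λ k),
      F.map σ x₀ = F.map baseToDual x₀ → σ = baseToDual)
    (V : VersalPair F) : HasHull F := by
  obtain ⟨R, ξ, hξ⟩ := V
  obtain ⟨T⟩ := nonempty_tangentStr (F := hR R.carrier R.res) (h0_hR R.res) (rs_hR R.res).heps
  have : Module.Finite k (TangentSpace (hR R.carrier R.res)) := hfin_hR R
  let δ : TangentSpace (hR R.carrier R.res) →ₗ[k] TangentSpace F :=
    dLin (F := hR R.carrier R.res) (fun A φ => ξ.app A φ) (natural_family ξ) (h0_hR R.res) (rs_hR R.res).heps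
  have hδ : ∀ φ, δ (TangentSpace.mk φ) = TangentSpace.mk (ξ.app (dual Λ k) φ) := fun _ => rfl
  have hzero : ∀ d : δ.ker,
      (∀ z ∈ IsLocalRing.maximalIdeal R.carrier, evLin z d.1 = 0) → d = 0 := by
    intro d hd
    let φ : HomSet R.carrier R.res (dual Λ k) := d.1.val
    obtain ⟨σ', hσ'⟩ := exists_desc_point (resR' := AlgHom.id Λ k) R.res R.res_surjective
      (AlgHom.id_comp _) φ fun z hz => RingHom.mem_ker.2 (TrivSqZeroExt.ext (R := k) (M := k)
        ((homSet_res φ z).trans (RingHom.mem_ker.1 hz))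
        (hd z ((R.mem_maximalIdeal_iff z).2 (RingHom.mem_ker.1 hz))))
    let σ : base Λ k ⟶ dual Λ k := ⟨σ'.1, σ'.2⟩
    let pt : HomSet R.carrier R.res (base Λ k) := ⟨R.res, AlgHom.id_comp _⟩
    have hφ : φ = HomSet.map σ pt := homSet_ext fun r => (hσ' r).symm
    have e : δ d.1 = 0 := d.2
    have e' : F.map σ (ξ.app _ pt) = F.map baseToDual (ξ.app _ pt) := by
      rw [← ξ.natural, ← hφ]
      exact e.trans (mk_baseToDual_eq_zero h0 _).symm
    refine Subtype.ext (Eq.trans ?_ (mk_baseToDual_eq_zero (F := hR R.carrier R.res) (h0_hR R.res) pt))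
    change φ = HomSet.map baseToDual pt
    rw [hφ, hc _ σ e']
  let ev : R.carrier → Module.Dual k δ.ker := fun z => (evLin z).comp δ.ker.subtype
  obtain ⟨f, hf, hspan, hind⟩ := Submodule.exists_fun_fin_finrank_span_eq k
    (ev '' (IsLocalRing.maximalIdeal R.carrier : Set R.carrier))
  choose z hzm hz using hf
  let Φ : δ.ker →ₗ[k] (_ → k) := LinearMap.pi f
  have hΦi : Function.Injective Φ := (injective_iff_map_eq_zero Φ).2 fun d hd => hzero d fun w hw => by
    have hmem : ev w ∈ Submodule.span k (Set.range f) :=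
      hspan.symm.le (Submodule.subset_span (Set.mem_image_of_mem ev hw))
    obtain ⟨l, hl⟩ := (Submodule.mem_span_range_iff_exists_fun k).1 hmem
    change ev w d = 0
    rw [← hl, LinearMap.sum_apply]
    exact Finset.sum_eq_zero fun i _ => by
      rw [LinearMap.smul_apply, show f i d = 0 from congrFun hd i, smul_zero]
  have hΦ : Function.Surjective Φ := by
    refine (LinearMap.injective_iff_surjective_of_finrank_eq_finrank
      (le_antisymm (LinearMap.finrank_le_finrank_of_injective hΦi) ?_)).1 hΦi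
    have h := hind.fintype_card_le_finrank
    rw [Subspace.dual_finrank_eq] at h
    rwa [Module.finrank_fintype_fun_eq_card]
  obtain ⟨R', q, hres, hq, hker⟩ := exists_quotient (P := R) (Ideal.span (Set.range z))
    (Ideal.span_le.2 (Set.range_subset_iff.2 hzm))
  have hqz : ∀ i, q (z i) = 0 := fun i =>
    RingHom.mem_ker.1 (hker.ge (Ideal.subset_span (Set.mem_range_self i)))
  let pre : ∀ {A : Art Λ k}, HomSet R'.carrier R'.res A → HomSet R.carrier R.res A := fun φ =>
    ⟨φ.1.comp q, by rw [← AlgHom.comp_assoc, φ.2, hres]⟩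
  have hdesc : ∀ {A : Art Λ k} (φ : HomSet R.carrier R.res A), (∀ i, φ.1 (z i) = 0) →
      ∃ φ' : HomSet R'.carrier R'.res A, pre φ' = φ := fun φ h => by
    obtain ⟨φ', hφ'⟩ := exists_desc_point q hq hres φ (hker.le.trans (Ideal.span_le.2
      (Set.range_subset_iff.2 fun i => RingHom.mem_ker.2 (h i))))
    exact ⟨φ', homSet_ext hφ'⟩
  let ξ' : Family R'.carrier R'.res F :=
    { app := fun A φ => ξ.app A (pre φ)
      natural := fun g φ => ξ.natural g (pre φ) }
  have hev : ∀ i (d : δ.ker), Φ d i = TrivSqZeroExt.snd ((d.1.val : HomSet R.carrier R.res (dual Λ k)).1 (z i)) :=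
    fun i d => by
      change f i d = _
      rw [← hz i]
      rfl
  refine ⟨⟨R', ξ', ?_, ?_, ?_⟩⟩
  · refine (isVersal_iff_lifts ξ').2
      (lifts_of_small (F := hR R'.carrier R'.res) (fun A φ => ξ'.app A φ) (natural_family ξ')
        fun B A μ hμ φ y hy => ?_)
    obtain ⟨ψ, hψ1, hψ2⟩ := hξ μ hμ.1 (pre φ) y hy
    obtain ⟨t, ht⟩ := hμ.2.2.1
    have hψz : ∀ i, ψ.1 (z i) ∈ RingHom.ker μ.toAlgHom := fun i => RingHom.mem_ker.2 (by
      refine (congrArg (fun χ : HomSet R.carrier R.res A => χ.1 (z i)) hψ1).trans ?_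
      change φ.1 (q (z i)) = 0
      rw [hqz, map_zero])
    choose b hb using fun i => Ideal.mem_span_singleton'.1
      (show ψ.1 (z i) ∈ Ideal.span {t} from (ht.trans rfl).le (hψz i))
    obtain ⟨d, hd⟩ := hΦ fun i => -B.res (b i)
    obtain ⟨P, p₁, p₂, g, hP, h', hg⟩ := exists_doubled μ hμ t (ht.trans rfl)
    obtain ⟨w, hw1, hw2⟩ := (cmp_surjective_iff _ h').1 (isLeftExact_hR R.res _ _ _ _ h').2 ψ
      (d.1.val : HomSet R.carrier R.res (dual Λ k)) (subsingleton_base (h0_hR R.res) _ _)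
    have hz' : ∀ i, (HomSet.map p₂ w).1 (z i) = 0 := fun i => by
      obtain ⟨a, ha⟩ : ∃ a : B, a * t = p₂ (w.1 (z i)) - p₁ (w.1 (z i)) := by
        refine Ideal.mem_span_singleton'.1 ((ht.trans rfl).le (RingHom.mem_ker.2 ?_))
        change μ (_ - _) = 0
        rw [map_sub, hP.w_apply, sub_self]
      have e1 : p₁ (w.1 (z i)) = b i * t :=
        (congrArg (fun χ : HomSet R.carrier R.res B => χ.1 (z i)) hw1).trans (hb i).symm
      have e2 : B.res a = -B.res (b i) := (hg _ a ha).trans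
        ((congrArg (fun χ : HomSet R.carrier R.res (dual Λ k) => TrivSqZeroExt.snd (χ.1 (z i))) hw2).trans
          ((hev i d).symm.trans (congrFun hd i)))
      have e3 := mul_eq_of_res_eq hμ.isSemismallExt (a := a) (b := -b i) (x := t)
        (by rw [e2, map_neg]) (RingHom.mem_ker.1 ((ht.trans rfl).ge (Ideal.mem_span_singleton_self t)))
      change p₂ (w.1 (z i)) = 0
      rw [← sub_add_cancel (p₂ (w.1 (z i))) (p₁ (w.1 (z i))), ← ha, e1, e3]
      ring
    obtain ⟨ψ', hψ'⟩ := hdesc _ hz'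
    refine ⟨ψ', ?_, ?_⟩
    · refine homSet_ext fun r => ?_
      obtain ⟨s, rfl⟩ := hq r
      have e1 := congrArg (fun χ : HomSet R.carrier R.res B => χ.1 s) hψ'
      have e2 := congrArg (fun χ : HomSet R.carrier R.res B => μ (χ.1 s)) hw1
      exact (congrArg μ e1).trans (((hP.w_apply _).symm.trans e2).trans
        (congrArg (fun χ : HomSet R.carrier R.res A => χ.1 s) hψ1))
    · change ξ.app B (pre ψ') = y
      let dg : B ⟶ P := fibLift hP (𝟙 B) (𝟙 B) rfl
      have hd1 : dg ≫ p₁ = 𝟙 B := fibLift_fst _ _ _ _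
      have hd2 : dg ≫ p₂ = 𝟙 B := fibLift_snd _ _ _ _
      have e : F.map p₁ (ξ.app P w) = F.map p₂ (ξ.app P w) := by
        refine eq_of_doubled h2 h' hd1 hd2 _ ?_
        rw [← map_comp' F dg g, diag_dual hg hd1 hd2, map_comp', ← ξ.natural]
        refine (congrArg (ξ.app _) hw2).trans ?_
        exact ((hδ _).symm.trans d.2).trans (mk_baseToDual_eq_zero h0 _).symm
      rw [hψ', ξ.natural, ← e, ← ξ.natural, ← hψ2]
      exact congrArg _ hw1
  · intro φ φ' h
    have hd : TangentSpace.mk (F := hR R.carrier R.res) (pre φ) -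
        TangentSpace.mk (F := hR R.carrier R.res) (pre φ') ∈ δ.ker := by
      rw [LinearMap.mem_ker, map_sub, sub_eq_zero, hδ, hδ]
      exact congrArg TangentSpace.mk h
    have e := hΦi (a₁ := ⟨_, hd⟩) (a₂ := 0) (funext fun i => by
      rw [map_zero]
      change f i _ = 0
      rw [← hz i]
      change evLin (z i) (TangentSpace.mk (F := hR R.carrier R.res) (pre φ) -
        TangentSpace.mk (F := hR R.carrier R.res) (pre φ')) = 0
      rw [map_sub, evLin_apply, evLin_apply, sub_eq_zero]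
      change TrivSqZeroExt.snd (φ.1 (q (z i))) = TrivSqZeroExt.snd (φ'.1 (q (z i)))
      rw [hqz, map_zero, map_zero])
    have e' := sub_eq_zero.1 (congrArg Subtype.val e)
    refine homSet_ext fun r => ?_
    obtain ⟨s, rfl⟩ := hq r
    exact congrArg (fun χ : HomSet R.carrier R.res (dual Λ k) => χ.1 s) e'
  · intro x
    obtain ⟨φ, hφ⟩ := versal_surjective hξ h0 (dual Λ k) x
    let p : TangentSpace (hR R.carrier R.res) := TangentSpace.mk φ
    obtain ⟨d, hd⟩ := hΦ fun i => evLin (z i) p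
    obtain ⟨φ', hφ'⟩ := hdesc (A := dual Λ k) ((p - d.1).val : HomSet R.carrier R.res (dual Λ k))
      fun i => TrivSqZeroExt.ext (R := k) (M := k)
        ((homSet_res ((p - d.1).val : HomSet R.carrier R.res (dual Λ k)) _).trans ((R.mem_maximalIdeal_iff _).1 (hzm i))) (by
          change evLin (z i) (p - d.1) = 0
          rw [map_sub, sub_eq_zero, ← congrFun hd i]
          exact hev i d)
    refine ⟨φ', ?_⟩
    change ξ.app _ (pre φ') = x
    rw [hφ']
    change δ (p - d.1) = TangentSpace.mk x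
    rw [map_sub, d.2, sub_zero, ← hφ]
    rfl

theorem hfin_of_hasHull {F : Art Λ k ⥤ Type v} [TangentStr F] (h : HasHull F) : Hfin F := by
  obtain ⟨R, ξ, hξ⟩ := h
  obtain ⟨T⟩ := nonempty_tangentStr (F := hR R.carrier R.res) (h0_hR R.res) (rs_hR R.res).heps
  have : Module.Finite k (TangentSpace (hR R.carrier R.res)) := hfin_hR R
  exact Module.Finite.of_surjective
    (dLin (F := hR R.carrier R.res) (fun A φ => ξ.app A φ) (natural_family ξ) (h0_hR R.res) (rs_hR R.res).heps)
    hξ.2.2

end Groth.Agent.ArtFunLib
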