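import Groth.Agent.Lib.ArtFun.Coef
import Mathlib.RingTheory.Length
import Mathlib.Dynamics.Newton
import Mathlib.FieldTheory.Separable
import Mathlib.RingTheory.SimpleModule.Basic
import Mathlib.RingTheory.IntegralClosure.IsIntegralClosure.Basic

/-!
Lengths over the base ring.
-/

set_option autoImplicit false

universe u v w

open CategoryTheory

namespace Groth.Agent.ArtFunLib

variable {Λ k : Type u} [CommRing Λ] [Field k] [Algebra Λ k]

theorem length_mul_length {A : Type u} [CommRing A] [Algebra Λ A] [IsLocalRing A] [Algebra A k]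
    [IsScalarTower Λ A k] (hres : Function.Surjective (algebraMap A k))
    (M : Type v) [AddCommGroup M] [Module A M] [Module Λ M] [IsScalarTower Λ A M] :
    Module.length Λ k * Module.length A M = Module.length Λ M := by
  by_cases hM : IsFiniteLength A M
  · revert ‹Module Λ M›
    induction hM with
    | @of_subsingleton M _ _ _ =>
      intro _ _
      rw [Module.length_eq_zero (R := A) (M := M), Module.length_eq_zero (R := Λ) (M := M), mul_zero]
    | @of_simple_quotient M _ _ N _ hN ih =>
      intro _ _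
      rw [Module.length_eq_add_of_exact (R := A) N.subtype N.mkQ N.injective_subtype N.mkQ_surjective
          (LinearMap.exact_subtype_mkQ N),
        Module.length_eq_add_of_exact (R := Λ) (N.subtype.restrictScalars Λ) (N.mkQ.restrictScalars Λ)
          N.injective_subtype N.mkQ_surjective (LinearMap.exact_subtype_mkQ N),
        Module.length_eq_one A (M ⧸ N), mul_add, mul_one, ih]
      congr 1
      obtain ⟨I, hI, ⟨e⟩⟩ := (isSimpleModule_iff_quot_maximal (R := A)).1 (inferInstance : IsSimpleModule A (M ⧸ N))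
      have hker : RingHom.ker (algebraMap A k) = I :=
        (IsLocalRing.eq_maximalIdeal (RingHom.ker_isMaximal_of_surjective _ hres)).trans
          (IsLocalRing.eq_maximalIdeal hI).symm
      let ρ : A →ₗ[A] k := Algebra.linearMap A k
      have hρ : LinearMap.ker ρ = I := hker
      let e' : (M ⧸ N) ≃ₗ[A] k :=
        e.trans ((Submodule.quotEquivOfEq I _ hρ.symm).trans (LinearMap.quotKerEquivOfSurjective ρ hres))
      exact (e'.restrictScalars Λ).length_eq.symm
  · rw [not_imp_comm.1 Module.length_ne_top_iff.1 hM,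
      ENat.mul_top (Module.length_pos (R := Λ) (M := k)).ne']
    refine (top_le_iff.1 ?_).symm
    rw [← not_imp_comm.1 Module.length_ne_top_iff.1 hM, ← WithBot.coe_le_coe, Module.coe_length,
      Module.coe_length]
    exact Order.krullDim_le_of_orderEmbedding (Submodule.restrictScalarsEmbedding Λ A M)

theorem length_residueField_ne_top [Module.Finite Λ k] : Module.length Λ k ≠ ⊤ := by
  let I := RingHom.ker (algebraMap Λ k)
  letI : Algebra (Λ ⧸ I) k := (RingHom.kerLift (algebraMap Λ k)).toAlgebra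
  have : IsScalarTower Λ (Λ ⧸ I) k := IsScalarTower.of_algebraMap_eq fun _ => rfl
  have : Module.Finite (Λ ⧸ I) k := Module.Finite.of_restrictScalars_finite Λ _ _
  have hF : IsField (Λ ⧸ I) := isField_of_isIntegral_of_isField
    (RingHom.kerLift_injective (algebraMap Λ k)) (Field.toIsField k)
  letI := hF.toField
  rw [Module.length_eq_of_surjective (R := Λ ⧸ I) (S := Λ) (M := k) Ideal.Quotient.mk_surjective,
    Module.length_eq_finrank]
  exact ENat.coe_ne_top _

open ArtFun in
theorem isArtinian_art [Module.Finite Λ k] (A : Art Λ k) : IsArtinian Λ A ∧ IsNoetherian Λ A := by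
  letI : Algebra A k := A.res.toRingHom.toAlgebra
  have : IsScalarTower Λ A k := IsScalarTower.of_algebraMap_eq fun r => (A.res.commutes r).symm
  have h := length_mul_length (Λ := Λ) (k := k) (A := A) A.res_surjective A
  have hne : Module.length Λ A ≠ ⊤ := by
    rw [← h]
    exact WithTop.mul_ne_top length_residueField_ne_top Module.length_ne_top
  obtain ⟨h1, h2⟩ := isFiniteLength_iff_isNoetherian_isArtinian.1 (Module.length_ne_top_iff.1 hne)
  exact ⟨h2, h1⟩

open ArtFun ArtFun.Art in
theorem exists_isFibreProd_of_separable [Module.Finite Λ k]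
    [Algebra.IsSeparable (↥(algebraMap Λ k).range) k]
    {A A₁ A₂ : Art Λ k} (f₁ : A₁ ⟶ A) (f₂ : A₂ ⟶ A) :
    ∃ (B : Art Λ k) (p₁ : B ⟶ A₁) (p₂ : B ⟶ A₂), IsFibreProd p₁ p₂ f₁ f₂ := by
  let P := (f₁.toAlgHom.comp (AlgHom.fst Λ A₁ A₂)).equalizer (f₂.toAlgHom.comp (AlgHom.snd Λ A₁ A₂))
  let π : P →ₐ[Λ] k := A₁.res.comp ((AlgHom.fst Λ A₁ A₂).comp P.val)
  have hP : ∀ a : P, f₁ a.1.1 = f₂ a.1.2 := fun a => a.2
  have hπ2 : ∀ a : P, A₂.res a.1.2 = π a := fun a => by
    rw [← res_app f₂, ← hP a, res_app]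
    rfl
  -- residual surjectivity
  have hsurj : Function.Surjective π := by
    intro c
    letI : Algebra Λ (algebraMap Λ k).range := (algebraMap Λ k).rangeRestrict.toAlgebra
    have : IsScalarTower Λ (algebraMap Λ k).range k := IsScalarTower.of_algebraMap_eq fun _ => rfl
    have : Module.Finite (algebraMap Λ k).range k := Module.Finite.of_restrictScalars_finite Λ _ _
    let q := minpoly (algebraMap Λ k).range c
    obtain ⟨Q, hQ, -, hQm⟩ := Polynomial.lifts_and_degree_eq_and_monic (f := (algebraMap Λ k).rangeRestrict)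
      (p := q) (Polynomial.map_surjective _ (algebraMap Λ k).rangeRestrict_surjective q)
      (minpoly.monic (IsIntegral.of_finite _ c))
    have hc : ∀ R : Polynomial Λ, Polynomial.aeval c R =
        Polynomial.aeval c (R.map (algebraMap Λ k).rangeRestrict) := fun R => by
      rw [Polynomial.aeval_def, Polynomial.aeval_def, Polynomial.eval₂_map]
      rfl
    have hQ0 : Polynomial.aeval c Q = 0 := by rw [hc, hQ]; exact minpoly.aeval _ _
    have hQ1 : Polynomial.aeval c (Polynomial.derivative Q) ≠ 0 := by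
      rw [hc, ← Polynomial.derivative_map, hQ]
      exact (Algebra.IsSeparable.isSeparable (↥(algebraMap Λ k).range) c).aeval_derivative_ne_zero
        (minpoly.aeval _ _)
    have hroot : ∀ C : Art Λ k, ∃ r : C, C.res r = c ∧ Polynomial.aeval r Q = 0 ∧
        ∀ r', C.res r' = c → Polynomial.aeval r' Q = 0 → r' = r := by
      intro C
      obtain ⟨x, hx⟩ := C.res_surjective c
      have hnil : ∀ y : C, C.res y = 0 → IsNilpotent y := fun y hy => by
        obtain ⟨N, hN⟩ := isNilpotent_𝔪 C
        exact ⟨N, (Ideal.mem_bot).1 (hN.le (Ideal.pow_mem_pow ((C.mem_maximalIdeal_iff y).2 hy) N))⟩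
      have h1 : IsNilpotent (Polynomial.aeval x Q) :=
        hnil _ (by rw [← Polynomial.aeval_algHom_apply, hx, hQ0])
      have h2 : IsUnit (Polynomial.aeval x (Polynomial.derivative Q)) := by
        refine res_ne_zero_isUnit C ?_
        rw [← Polynomial.aeval_algHom_apply, hx]
        exact hQ1
      obtain ⟨r, ⟨hr, hr'⟩, huniq⟩ := Polynomial.existsUnique_nilpotent_sub_and_aeval_eq_zero h1 h2
      have hres : ∀ r', C.res r' = c → IsNilpotent (x - r') := fun r' h => hnil _ (by rw [map_sub, hx, h, sub_self])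
      refine ⟨r, ?_, hr', fun r' h h' => huniq r' ⟨hres r' h, h'⟩⟩
      have := (hr.map C.res).eq_zero
      rw [map_sub, hx, sub_eq_zero] at this
      exact this.symm
    obtain ⟨r₁, h11, h12, -⟩ := hroot A₁
    obtain ⟨r₂, h21, h22, -⟩ := hroot A₂
    obtain ⟨r, -, -, huniq⟩ := hroot A
    refine ⟨⟨(r₁, r₂), ?_⟩, h11⟩
    change f₁ r₁ = f₂ r₂
    rw [huniq _ ((res_app f₁ r₁).trans h11)
        (by rw [Polynomial.aeval_algHom_apply, h12, map_zero]),
      huniq _ ((res_app f₂ r₂).trans h21)
        (by rw [Polynomial.aeval_algHom_apply, h22, map_zero])]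
  -- locality
  obtain ⟨N₁, hN₁⟩ := isNilpotent_𝔪 A₁
  obtain ⟨N₂, hN₂⟩ := isNilpotent_𝔪 A₂
  have hnil : ∀ a : P, π a = 0 → IsNilpotent a := fun a ha => ⟨N₁ + N₂, Subtype.ext (Prod.ext
    ((Ideal.mem_bot).1 (hN₁.le (Ideal.pow_le_pow_right (Nat.le_add_right _ _)
      (Ideal.pow_mem_pow ((A₁.mem_maximalIdeal_iff a.1.1).2 ha) _))))
    ((Ideal.mem_bot).1 (hN₂.le (Ideal.pow_le_pow_right (Nat.le_add_left _ _)
      (Ideal.pow_mem_pow ((A₂.mem_maximalIdeal_iff a.1.2).2 ((hπ2 a).trans ha)) _)))))⟩
  have : Nontrivial P := RingHom.domain_nontrivial π.toRingHom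
  have hunit : ∀ a : P, π a ≠ 0 → IsUnit a := fun a ha => by
    obtain ⟨b, hb⟩ := hsurj (π a)⁻¹
    exact isUnit_of_mul_isUnit_left (y := b) (by
      have := (hnil (1 - a * b) (by rw [map_sub, map_one, map_mul, hb, mul_inv_cancel₀ ha, sub_self])).isUnit_one_sub
      rwa [sub_sub_cancel] at this)
  have : IsLocalRing P := IsLocalRing.of_isUnit_or_isUnit_one_sub_self fun a => by
    by_cases ha : π a = 0
    · exact Or.inr (hnil a ha).isUnit_one_sub
    · exact Or.inl (hunit a ha)
  -- Artinian
  have : IsArtinian Λ A₁ := (isArtinian_art A₁).1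
  have : IsArtinian Λ A₂ := (isArtinian_art A₂).1
  have : IsArtinian Λ P := isArtinian_of_injective P.val.toLinearMap Subtype.val_injective
  have : IsArtinianRing P := isArtinian_of_tower Λ ‹_›
  let B : Art Λ k := Art.of P π hsurj
  let p₁ : B ⟶ A₁ := Art.homMk ((AlgHom.fst Λ A₁ A₂).comp P.val) rfl
  let p₂ : B ⟶ A₂ := Art.homMk ((AlgHom.snd Λ A₁ A₂).comp P.val) (AlgHom.ext fun a => hπ2 a)
  exact ⟨B, p₁, p₂, hom_ext' fun a => hP a, fun a b h1 h2 => Subtype.ext (Prod.ext h1 h2),
    fun a b h => ⟨⟨(a, b), h⟩, rfl, rfl⟩⟩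

end Groth.Agent.ArtFunLib
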