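import Groth.Agent.Lib.ArtFun.Length
import Groth.Agent.Lib.ArtFun.Hull
import Mathlib.RingTheory.Ideal.Cotangent

/-!
Limits of surjective systems with bounded embedding dimension.
-/

set_option autoImplicit false

universe u v w

open CategoryTheory

namespace Groth.Agent.ArtFunLib

open ArtFun ArtFun.Art

variable {Λ k : Type u} [CommRing Λ] [Field k] [Algebra Λ k]

theorem exists_stable_of_bounded {L : ℕ → ℕ∞} (hL : Monotone L) {M : ℕ∞} (hM : M ≠ ⊤) (h : ∀ n, L n ≤ M) :
    ∃ N, ∀ n, N ≤ n → L n = L N := by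
  have hne : ∀ n, L n ≠ ⊤ := fun n => ne_top_of_le_ne_top hM (h n)
  have hb : BddAbove (Set.range fun n => (L n).toNat) :=
    ⟨M.toNat, by rintro _ ⟨n, rfl⟩; exact ENat.toNat_le_toNat (h n) hM⟩
  obtain ⟨N, hN⟩ := Nat.sSup_mem (Set.range_nonempty _) hb
  refine ⟨N, fun n hn => le_antisymm ?_ (hL hn)⟩
  have : (L n).toNat ≤ (L N).toNat := (le_csSup hb ⟨n, rfl⟩).trans hN.ge
  exact (ENat.coe_toNat (hne n)).symm.le.trans ((Nat.cast_le.2 this).trans (ENat.coe_toNat (hne N)).le)

theorem exists_cotangent_stable [Module.Finite Λ k] (A : ℕ → Art Λ k) (f : ∀ n, A (n + 1) ⟶ A n)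
    (hf : ∀ n, Function.Surjective (f n)) (d : ℕ)
    (hd : ∀ n, Module.finrank (IsLocalRing.ResidueField (A n)) (IsLocalRing.CotangentSpace (A n)) ≤ d) :
    ∃ N, ∀ n, N ≤ n → ∀ x ∈ IsLocalRing.maximalIdeal (A (n + 1)),
      f n x ∈ IsLocalRing.maximalIdeal (A n) ^ 2 → x ∈ IsLocalRing.maximalIdeal (A (n + 1)) ^ 2 := by
  let L : ℕ → ℕ∞ := fun n => Module.length Λ (IsLocalRing.CotangentSpace (A n))
  have hlen : ∀ n, L n ≤ Module.length Λ k * d := fun n => by
    letI : Algebra (A n) k := (A n).res.toRingHom.toAlgebra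
    have : IsScalarTower Λ (A n) k := IsScalarTower.of_algebraMap_eq fun r => ((A n).res.commutes r).symm
    have h := length_mul_length (Λ := Λ) (k := k) (A := A n) (A n).res_surjective
      (IsLocalRing.CotangentSpace (A n))
    change Module.length Λ (IsLocalRing.CotangentSpace (A n)) ≤ _
    rw [← h, Module.length_eq_of_surjective (R := IsLocalRing.ResidueField (A n)) (S := A n)
      Ideal.Quotient.mk_surjective, Module.length_eq_finrank]
    gcongr
    exact hd n
  have hγ : ∀ n, IsLocalRing.maximalIdeal (A (n + 1)) ≤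
      (IsLocalRing.maximalIdeal (A n)).comap (f n).toAlgHom := fun n x hx => map_mem (f n) hx
  let γ : ∀ n, IsLocalRing.CotangentSpace (A (n + 1)) →ₗ[Λ] IsLocalRing.CotangentSpace (A n) :=
    fun n => Ideal.mapCotangent _ _ (f n).toAlgHom (hγ n)
  have hγs : ∀ n, Function.Surjective (γ n) := fun n y => by
    obtain ⟨⟨y, hy⟩, rfl⟩ := Ideal.toCotangent_surjective _ y
    obtain ⟨x, rfl⟩ := hf n y
    exact ⟨Ideal.toCotangent _ ⟨x, mem_of_map_mem (f n) hy⟩, rfl⟩
  have hfin : ∀ n, L n ≠ ⊤ := fun n =>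
    ne_top_of_le_ne_top (WithTop.mul_ne_top length_residueField_ne_top (ENat.coe_ne_top d)) (hlen n)
  obtain ⟨N, hN⟩ := exists_stable_of_bounded (L := L)
    (monotone_nat_of_le_succ fun n => Module.length_le_of_surjective (γ n) (hγs n))
    (WithTop.mul_ne_top length_residueField_ne_top (ENat.coe_ne_top d)) hlen
  refine ⟨N, fun n hn x hx hfx => ?_⟩
  have h := Module.length_eq_add_of_exact (LinearMap.ker (γ n)).subtype (γ n)
    (LinearMap.ker (γ n)).injective_subtype (hγs n) (LinearMap.exact_subtype_ker_map _)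
  change L (n + 1) = _ + L n at h
  rw [hN (n + 1) (hn.trans (Nat.le_succ n)), hN n hn] at h
  have h0 : Module.length Λ (LinearMap.ker (γ n)) = 0 :=
    WithTop.add_right_cancel (hfin N) (h.symm.trans (zero_add (L N)).symm)
  have : Subsingleton (LinearMap.ker (γ n)) := Module.length_eq_zero_iff.1 h0
  have hk : Ideal.toCotangent (IsLocalRing.maximalIdeal (A (n + 1))) ⟨x, hx⟩ ∈ LinearMap.ker (γ n) :=
    LinearMap.mem_ker.2 ((Ideal.toCotangent_eq_zero _ ⟨f n x, hγ n hx⟩).2 hfx)
  exact (Ideal.toCotangent_eq_zero _ ⟨x, hx⟩).1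
    (congrArg Subtype.val (Subsingleton.elim (⟨_, hk⟩ : LinearMap.ker (γ n)) 0))

section Tr

variable (A : ℕ → Art Λ k) (f : ∀ n, A (n + 1) ⟶ A n)

/-- The transition maps. -/
def tr {m n : ℕ} (h : m ≤ n) : A n ⟶ A m :=
  Nat.leRecOn (C := fun n => A n ⟶ A m) h (fun {j} g => f j ≫ g) (𝟙 _)

theorem tr_self (m : ℕ) : tr A f (le_refl m) = 𝟙 _ := Nat.leRecOn_self _

theorem tr_succ {m n : ℕ} (h : m ≤ n) : tr A f (h.trans (Nat.le_succ n)) = f n ≫ tr A f h :=
  Nat.leRecOn_succ h _

theorem tr_pred {m n : ℕ} (h : m + 1 ≤ n) : tr A f h ≫ f m = tr A f ((Nat.le_succ m).trans h) := by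
  induction h with
  | refl => rw [tr_self, Category.id_comp]; exact ((tr_succ A f le_rfl).trans (by rw [tr_self, Category.comp_id])).symm
  | @step n h ih =>
    rw [show tr A f (Nat.le.step h) = f n ≫ tr A f h from tr_succ A f h, Category.assoc, ih]
    exact (tr_succ A f _).symm

theorem tr_surjective (hf : ∀ n, Function.Surjective (f n)) {m n : ℕ} (h : m ≤ n) :
    Function.Surjective (tr A f h) := by
  induction h with
  | refl => rw [tr_self]; exact Function.surjective_id
  | @step n h ih => rw [show tr A f (Nat.le.step h) = f n ≫ tr A f h from tr_succ A f h]; exact surjective_comp (hf n) ih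

theorem tr_seq {a : ∀ n, A n} (ha : ∀ n, f n (a (n + 1)) = a n) {m n : ℕ} (h : m ≤ n) :
    tr A f h (a n) = a m := by
  induction h with
  | refl => rw [tr_self]; rfl
  | @step n h ih =>
    rw [show tr A f (Nat.le.step h) = f n ≫ tr A f h from tr_succ A f h, Art.comp_apply, ha, ih]

end Tr

variable [IsNoetherianRing Λ] [Module.Finite Λ k]

/-- A coefficient ring surjecting compatibly onto the system. -/
theorem exists_cover (A : ℕ → Art Λ k) (f : ∀ n, A (n + 1) ⟶ A n)
    (hf : ∀ n, Function.Surjective (f n)) (d : ℕ)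
    (hd : ∀ n, Module.finrank (IsLocalRing.ResidueField (A n)) (IsLocalRing.CotangentSpace (A n)) ≤ d) :
    ∃ (P : CRing Λ k) (φ : ∀ n, HomSet P.carrier P.res (A n)),
      (∀ n, HomSet.map (f n) (φ (n + 1)) = φ n) ∧ ∀ n, Function.Surjective (φ n).1 := by
  obtain ⟨N, hN⟩ := exists_cotangent_stable A f hf d hd
  obtain ⟨m, c, hc⟩ := exists_generators (Λ := Λ) (k := k)
  obtain ⟨l, w, hw⟩ := Submodule.fg_iff_exists_fin_generating_family.1
    (IsNoetherian.noetherian (IsLocalRing.maximalIdeal (A N)))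
  choose r hr using fun i => (A N).res_surjective (c i)
  let c' : Fin m ⊕ Fin l → k := Sum.elim c 0
  have hc' : Function.Surjective (MvPolynomial.aeval (R := Λ) c') := fun y => by
    obtain ⟨g, rfl⟩ := hc y
    refine ⟨MvPolynomial.rename Sum.inl g, ?_⟩
    rw [MvPolynomial.aeval_rename]
    rfl
  obtain ⟨P, x, hx, huniv⟩ := exists_polyRing c' hc'
  let a₀ : Fin m ⊕ Fin l → A N := Sum.elim r w
  have ha₀ : ∀ i, (A N).res (a₀ i) = c' i := by
    rintro (i | j)
    · exact hr i
    · exact ((A N).mem_maximalIdeal_iff _).1 (hw ▸ Submodule.subset_span (Set.mem_range_self j))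
  -- lift the generators compatibly
  choose g hg using fun n => hf (N + n)
  let a : ∀ n, (Fin m ⊕ Fin l) → A (N + n) := fun n =>
    Nat.rec (motive := fun n => (Fin m ⊕ Fin l) → A (N + n)) a₀ (fun j p i => g j (p i)) n
  have ha : ∀ n i, f (N + n) (a (n + 1) i) = a n i := fun n i => hg n _
  have hares : ∀ n i, (A (N + n)).res (a n i) = c' i := fun n => by
    induction n with
    | zero => exact ha₀
    | succ n ih => exact fun i => (res_app (f (N + n)) _).symm.trans ((congrArg _ (ha n i)).trans (ih i))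
  choose ψ hψ hψu using fun n => huniv (A (N + n)) (a n) (hares n)
  have hψf : ∀ n, HomSet.map (f (N + n)) (ψ (n + 1)) = ψ n := fun n =>
    hψu n _ fun i => (congrArg (f (N + n)) (hψ (n + 1) i)).trans (ha n i)
  have hψs : ∀ n, Function.Surjective (ψ n).1 := by
    intro n
    have hspan : IsLocalRing.maximalIdeal (A (N + n)) ≤
        Ideal.span (Set.range fun j => a n (Sum.inr j)) ⊔ IsLocalRing.maximalIdeal (A (N + n)) ^ 2 := by
      induction n with
      | zero => exact le_sup_of_le_left hw.ge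
      | succ n ih =>
        intro y hy
        obtain ⟨p, hp, q, hq, hpq⟩ := Submodule.mem_sup.1 (ih (map_mem (f (N + n)) hy))
        obtain ⟨e, he⟩ := (Submodule.mem_span_range_iff_exists_fun _).1 hp
        choose e' he' using fun j => hf (N + n) (e j)
        let z : A (N + (n + 1)) := ∑ j, e' j * a (n + 1) (Sum.inr j)
        have hz : z ∈ Ideal.span (Set.range fun j => a (n + 1) (Sum.inr j)) :=
          sum_mem fun j _ => Ideal.mul_mem_left _ _ (Ideal.subset_span ⟨j, rfl⟩)
        have hzm : z ∈ IsLocalRing.maximalIdeal (A (N + (n + 1))) :=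
          sum_mem fun j _ => Ideal.mul_mem_left _ _ (((A (N + (n + 1))).mem_maximalIdeal_iff _).2 (hares (n + 1) _))
        have hfz : f (N + n) (y - z) = q := by
          rw [map_sub, map_sum, ← hpq, ← he]
          rw [show (∑ j, f (N + n) (e' j * a (n + 1) (Sum.inr j))) = ∑ j, e j • a n (Sum.inr j) from
            Finset.sum_congr rfl fun j _ => by rw [map_mul, he', ha]; rfl]
          exact add_sub_cancel_left _ _
        have h2 := hN (N + n) (Nat.le_add_right N n) (y - z) (sub_mem hy hzm) (hfz ▸ hq)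
        rw [← sub_add_cancel y z]
        exact add_mem (Ideal.mem_sup_right h2) (Ideal.mem_sup_left hz)
    have : IsHausdorff (IsLocalRing.maximalIdeal (A (N + n))) (A (N + n)) :=
      IsHausdorff.of_isLocalRing _ _ (IsLocalRing.maximalIdeal.isMaximal _).ne_top
    refine surjective_of_cotangent (IsLocalRing.maximalIdeal P.carrier) (IsLocalRing.maximalIdeal (A (N + n)))
      ((ψ n).1 : P.carrier →+* A (N + n)) (Ideal.map_le_iff_le_comap.2 fun p hp => homSet_mem_max (ψ n) hp)
      (fun s => ?_) (hspan.trans (sup_le_sup_right (Ideal.span_le.2 ?_) _))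
    · obtain ⟨p, hp⟩ := P.res_surjective ((A (N + n)).res s)
      refine ⟨p, ((A (N + n)).mem_maximalIdeal_iff _).2 ?_⟩
      rw [map_sub, sub_eq_zero, ← hp]
      exact (homSet_res (ψ n) p).symm
    · rintro _ ⟨j, rfl⟩
      have h := Ideal.mem_map_of_mem ((ψ n).1 : P.carrier →+* A (N + n))
        ((P.mem_maximalIdeal_iff (x (Sum.inr j))).2 (hx _))
      rwa [show ((ψ n).1 : P.carrier →+* A (N + n)) (x (Sum.inr j)) = a n (Sum.inr j) from hψ n _] at h
  refine ⟨P, fun n => HomSet.map (tr A f (Nat.le_add_left n N)) (ψ n), fun n => ?_,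
    fun n => (tr_surjective A f hf _).comp (hψs n)⟩
  refine homSet_ext fun p => ?_
  have h1 := congr_hom (tr_pred A f (Nat.le_add_left (n + 1) N)) ((ψ (n + 1)).1 p)
  have h2 := congr_hom (tr_succ A f (Nat.le_add_left n N)) ((ψ (n + 1)).1 p)
  exact (h1.trans h2).trans (congrArg (tr A f (Nat.le_add_left n N))
    (congrArg (fun χ : HomSet P.carrier P.res (A (N + n)) => χ.1 p) (hψf n)))

theorem exists_limit (A : ℕ → Art Λ k) (f : ∀ n, A (n + 1) ⟶ A n)
    (hf : ∀ n, Function.Surjective (f n)) (d : ℕ)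
    (hd : ∀ n, Module.finrank (IsLocalRing.ResidueField (A n)) (IsLocalRing.CotangentSpace (A n)) ≤ d) :
    ∃ (S : CRing Λ k) (π : ∀ n, HomSet S.carrier S.res (A n)),
      (∀ n, HomSet.map (f n) (π (n + 1)) = π n) ∧
      (∀ n, Function.Surjective (π n).1) ∧
      (∀ a : ∀ n, A n, (∀ n, f n (a (n + 1)) = a n) → ∃! s : S.carrier, ∀ n, (π n).1 s = a n) ∧
      (∀ n, ∃ N, RingHom.ker (π N).1 ≤ IsLocalRing.maximalIdeal S.carrier ^ n) ∧
      (∀ n, ∃ N, IsLocalRing.maximalIdeal S.carrier ^ N ≤ RingHom.ker (π n).1) := by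
  obtain ⟨P, φ, hφ, hφs⟩ := exists_cover A f hf d hd
  let K : ℕ → Ideal P.carrier := fun n => RingHom.ker (φ n).1
  have hK : Antitone K := antitone_nat_of_succ_le fun n p hp => RingHom.mem_ker.2 (by
    rw [← hφ n]
    change f n ((φ (n + 1)).1 p) = 0
    rw [(RingHom.mem_ker.1 hp : (φ (n + 1)).1 p = 0), map_zero])
  obtain ⟨S, q, hres, hq, hker⟩ := exists_quotient (P := P) (⨅ n, K n) ((iInf_le K 0).trans (ker_le_max _))
  choose π hπ using fun n => exists_desc_point q hq hres (φ n) (hker.le.trans (iInf_le K n))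
  have hπf : ∀ n, HomSet.map (f n) (π (n + 1)) = π n := fun n => homSet_ext fun s => by
    obtain ⟨p, rfl⟩ := hq s
    change f n ((π (n + 1)).1 (q p)) = (π n).1 (q p)
    rw [hπ, hπ]
    exact congrArg (fun χ : HomSet P.carrier P.res (A n) => χ.1 p) (hφ n)
  have hπs : ∀ n, Function.Surjective (π n).1 := fun n y => by
    obtain ⟨p, rfl⟩ := hφs n y
    exact ⟨q p, hπ n p⟩
  have hmap : (IsLocalRing.maximalIdeal P.carrier).map q = IsLocalRing.maximalIdeal S.carrier := map_max q hq
  have hchev : ∀ j, ∃ n, RingHom.ker (π n).1 ≤ CRing.mpow S j := fun j => by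
    obtain ⟨n, hn⟩ := exists_le_iInf_sup K hK (fun n => exists_mpow_le_ker _) j
    refine ⟨n, fun s hs => ?_⟩
    obtain ⟨p, rfl⟩ := hq s
    have hp : p ∈ K n := RingHom.mem_ker.2 ((hπ n p).symm.trans (RingHom.mem_ker.1 hs))
    obtain ⟨u, hu, v, hv, rfl⟩ := Submodule.mem_sup.1 (hn hp)
    rw [map_add, show q u = 0 from hker.ge hu, zero_add, CRing.mpow, ← hmap, ← Ideal.map_pow]
    exact Ideal.mem_map_of_mem q hv
  have hanti : Antitone fun n => RingHom.ker (π n).1 := antitone_nat_of_succ_le fun n s hs => RingHom.mem_ker.2 (by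
    rw [← hπf n]
    change f n ((π (n + 1)).1 s) = 0
    rw [(RingHom.mem_ker.1 hs : (π (n + 1)).1 s = 0), map_zero])
  have huniq : ∀ s s' : S.carrier, (∀ n, (π n).1 s = (π n).1 s') → s = s' := fun s s' h => by
    obtain ⟨p, rfl⟩ := hq s
    obtain ⟨p', rfl⟩ := hq s'
    refine sub_eq_zero.1 ((map_sub q p p').symm.trans (hker.ge ((Submodule.mem_iInf _).2 fun n => ?_)))
    refine RingHom.mem_ker.2 ?_
    rw [map_sub, sub_eq_zero, ← hπ, ← hπ]
    exact h n
  refine ⟨S, π, hπf, hπs, fun a ha => ?_, fun n => (hchev n).imp fun M hM =>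
    hM.trans (Ideal.pow_le_pow_right (Nat.le_succ n)), fun n => ?_⟩
  · choose Q hQ using hchev
    let Q' : ℕ → ℕ := fun j => j + ∑ i ∈ Finset.range (j + 1), Q i
    have hQ'mono : Monotone Q' := fun i j hij => add_le_add hij
      (Finset.sum_le_sum_of_subset (Finset.range_mono (Nat.succ_le_succ hij)))
    have hQQ' : ∀ j, Q j ≤ Q' j := fun j =>
      (Finset.single_le_sum (fun i _ => Nat.zero_le (Q i)) (Finset.self_mem_range_succ j)).trans le_add_self
    choose z hz using fun j => hπs (Q' j) (a (Q' j))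
    have hzn : ∀ {n j}, n ≤ Q' j → (π n).1 (z j) = a n := fun {n j} h => by
      have key : ∀ m, n ≤ m → ∀ s, (π m).1 s = a m → (π n).1 s = a n := by
        intro m hm
        induction hm with
        | refl => exact fun s hs => hs
        | @step m hm ih =>
          intro s hs
          refine ih s ?_
          rw [← hπf m]
          change f m ((π (m + 1)).1 s) = a m
          rw [hs, ha]
      exact key _ h _ (hz j)
    have hcau : ∀ {i j}, i ≤ j → z i - z j ∈ CRing.mpow S i := fun {i j} hij =>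
      ((hanti (hQQ' i)).trans (hQ i)) (RingHom.mem_ker.2 (by
        rw [map_sub, hzn le_rfl, hzn (hQ'mono hij), sub_self]))
    obtain ⟨L, hL⟩ := IsPrecomplete.prec' (I := IsLocalRing.maximalIdeal S.carrier) z fun {i j} h => by
      rw [SModEq.sub_mem, smul_eq_mul, Ideal.mul_top]
      exact Ideal.pow_le_pow_right (Nat.le_succ i) (hcau h)
    have hLa : ∀ n, (π n).1 L = a n := fun n => by
      obtain ⟨M, hM⟩ := exists_mpow_le_ker (π n)
      have h := hL (max n (M + 1))
      rw [SModEq.sub_mem, smul_eq_mul, Ideal.mul_top] at h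
      have h' := hM (Ideal.pow_le_pow_right (le_max_right n (M + 1)) h)
      rw [RingHom.mem_ker, map_sub, sub_eq_zero] at h'
      rw [← h']
      exact hzn ((le_max_left _ _).trans (Nat.le_add_right _ _))
    exact ⟨L, hLa, fun s hs => huniq s L fun n => (hs n).trans (hLa n).symm⟩
  · obtain ⟨M, hM⟩ := exists_mpow_le_ker (π n)
    exact ⟨M + 1, hM⟩

end Groth.Agent.ArtFunLib
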