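import Groth.Agent.Lib.ArtFun.PS

/-!
Minimal versal families.
-/

set_option autoImplicit false

universe u v w

open CategoryTheory

namespace Groth.Agent.ArtFunLib

open ArtFun ArtFun.Art

variable {Λ k : Type u} [CommRing Λ] [Field k] [Algebra Λ k]

/-- The trivial tangent vector. -/
def trivPoint {R : Type u} [CommRing R] [Algebra Λ R] (resR : R →ₐ[Λ] k) : HomSet R resR (dual Λ k) :=
  HomSet.map baseToDual ⟨resR, AlgHom.id_comp _⟩

theorem snd_trivPoint {R : Type u} [CommRing R] [Algebra Λ R] (resR : R →ₐ[Λ] k) (r : R) :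
    TrivSqZeroExt.snd ((trivPoint resR).1 r) = 0 := rfl

/-- The difference of two tangent vectors with the same composite. -/
theorem exists_diff_point {R : CRing Λ k} {a b : HomSet R.carrier R.res (dual Λ k)} :
    ∃ d : HomSet R.carrier R.res (dual Λ k),
      ∀ r, TrivSqZeroExt.snd (d.1 r) = TrivSqZeroExt.snd (a.1 r) - TrivSqZeroExt.snd (b.1 r) := by
  obtain ⟨z, h1, h2⟩ := (cmp_surjective_iff _ _).1 ((rs_hR R.res).heps _ _ isFibreProd_dual2).2 a b
    (subsingleton_base (h0_hR R.res) _ _)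
  let minus : dual2 Λ k ⟶ dual Λ k :=
    ⟨tszeMap (LinearMap.fst k k k - LinearMap.snd k k k), AlgHom.ext fun _ => rfl⟩
  refine ⟨HomSet.map minus z, fun r => ?_⟩
  subst h1 h2
  rfl

/-- Cutting down a versal family along a tangent vector killed by an endomorphism fixing it. -/
theorem exists_cut [IsNoetherianRing Λ] {F : Art Λ k ⥤ Type v} {R : CRing Λ k} {ξ : Family R.carrier R.res F}
    (hξ : IsVersal ξ) (h : R.carrier →ₐ[Λ] R.carrier) (hh : R.res.comp h = R.res) (hfix : ξ.along h hh = ξ)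
    (d : HomSet R.carrier R.res (dual Λ k)) (hd : ∀ r, TrivSqZeroExt.snd (d.1 (h r)) = 0)
    {z : R.carrier} (hz : z ∈ IsLocalRing.maximalIdeal R.carrier) (hdz : TrivSqZeroExt.snd (d.1 z) ≠ 0) :
    ∃ (R' : CRing Λ k) (q : R.carrier →ₐ[Λ] R'.carrier) (hq : R'.res.comp q = R.res),
      Function.Surjective q ∧ IsVersal (ξ.along q hq) ∧ q z = 0 := by
  obtain ⟨R', q, hres, hq, hker⟩ := exists_quotient (P := R) (Ideal.span {z})
    ((Ideal.span_singleton_le_iff_mem _).2 hz)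
  have hqz : q z = 0 := RingHom.mem_ker.1 (hker.ge (Ideal.mem_span_singleton_self z))
  refine ⟨R', q, hres, hq, (isVersal_iff_lifts _).2 (lifts_of_small (F := hR R'.carrier R'.res)
    (fun A φ => (ξ.along q hres).app A φ) (natural_family _) fun B A μ hμ φ y hy => ?_), hqz⟩
  obtain ⟨ψ, hψ1, hψ2⟩ := hξ μ hμ.1 ⟨φ.1.comp q, by rw [← AlgHom.comp_assoc, φ.2, hres]⟩ y hy
  obtain ⟨t, ht⟩ := hμ.2.2.1
  have hψz : ψ.1 z ∈ RingHom.ker μ.toAlgHom := RingHom.mem_ker.2 (by
    refine (congrArg (fun χ : HomSet R.carrier R.res A => χ.1 z) hψ1).trans ?_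
    change φ.1 (q z) = 0
    rw [hqz, map_zero])
  obtain ⟨b, hb⟩ := Ideal.mem_span_singleton'.1 (show ψ.1 z ∈ Ideal.span {t} from (ht.trans rfl).le hψz)
  let c₀ : k := -B.res b / TrivSqZeroExt.snd (d.1 z)
  obtain ⟨P, p₁, p₂, g, hP, h', hg⟩ := exists_doubled μ hμ t (ht.trans rfl)
  obtain ⟨w, hw1, hw2⟩ := (cmp_surjective_iff _ h').1 (isLeftExact_hR R.res _ _ _ _ h').2 ψ
    (HomSet.map (scale c₀) d) (subsingleton_base (h0_hR R.res) _ _)
  have hwd : ∀ r, TrivSqZeroExt.snd (g (w.1 r)) = c₀ * TrivSqZeroExt.snd (d.1 r) := fun r =>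
    congrArg (fun χ : HomSet R.carrier R.res (dual Λ k) => TrivSqZeroExt.snd (χ.1 r)) hw2
  have hdiff : ∀ r, ∃ a : B, a * t = p₂ (w.1 r) - p₁ (w.1 r) := fun r => by
    refine Ideal.mem_span_singleton'.1 ((ht.trans rfl).le (RingHom.mem_ker.2 ?_))
    change μ (_ - _) = 0
    rw [map_sub, hP.w_apply, sub_self]
  have ht0 : μ t = 0 := RingHom.mem_ker.1 ((ht.trans rfl).ge (Ideal.mem_span_singleton_self t))
  have hp1 : ∀ r, p₁ (w.1 r) = ψ.1 r := fun r => congrArg (fun χ : HomSet R.carrier R.res B => χ.1 r) hw1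
  have hz' : (HomSet.map p₂ w).1 z = 0 := by
    obtain ⟨a, ha⟩ := hdiff z
    have e2 : B.res a = -B.res b := (hg _ a ha).trans ((hwd z).trans (div_mul_cancel₀ _ hdz))
    have e3 := mul_eq_of_res_eq hμ.isSemismallExt (a := a) (b := -b) (x := t) (by rw [e2, map_neg]) ht0
    change p₂ (w.1 z) = 0
    rw [← sub_add_cancel (p₂ (w.1 z)) (p₁ (w.1 z)), ← ha, hp1, ← hb, e3]
    ring
  obtain ⟨ψ', hψ'⟩ := exists_desc_point q hq hres (HomSet.map p₂ w) (hker.le.trans
    ((Ideal.span_singleton_le_iff_mem _).2 (RingHom.mem_ker.2 hz')))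
  refine ⟨ψ', homSet_ext fun r => ?_, ?_⟩
  · obtain ⟨s, rfl⟩ := hq r
    refine (congrArg μ (hψ' s)).trans ((hP.w_apply _).symm.trans ((congrArg μ (hp1 s)).trans ?_))
    exact congrArg (fun χ : HomSet R.carrier R.res A => χ.1 s) hψ1
  · have e1 : ∀ χ : HomSet R.carrier R.res B,
        ξ.app B χ = ξ.app B ⟨χ.1.comp h, by rw [← AlgHom.comp_assoc, χ.2, hh]⟩ := fun χ =>
      (congrArg (fun ζ : Family R.carrier R.res F => ζ.app B χ) hfix).symm
    change ξ.app B ⟨ψ'.1.comp q, _⟩ = y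
    rw [← hψ2, e1, e1 ψ]
    refine congrArg (ξ.app B) (homSet_ext fun r => ?_)
    change ψ'.1 (q (h r)) = ψ.1 (h r)
    rw [hψ', ← hp1]
    obtain ⟨a, ha⟩ := hdiff (h r)
    have e0 : B.res a = 0 := (hg _ a ha).trans ((hwd _).trans (by rw [hd, mul_zero]))
    have e3 := mul_eq_of_res_eq hμ.isSemismallExt (a := a) (b := 0) (x := t) (by rw [e0, map_zero]) ht0
    rw [zero_mul, ha, sub_eq_zero] at e3
    exact e3

/-- Every versal family restricts to a minimal one on a quotient. -/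
theorem exists_minimal_quotient [IsNoetherianRing Λ] {F : Art Λ k ⥤ Type v} (h0 : H0 F) {R : CRing Λ k}
    {ξ : Family R.carrier R.res F} (hξ : IsVersal ξ) :
    ∃ (R' : CRing Λ k) (q : R.carrier →ₐ[Λ] R'.carrier) (hq : R'.res.comp q = R.res),
      Function.Surjective q ∧ (ξ.along q hq).IsMinimalVersal := by
  obtain ⟨K, ⟨R', q, hq, hqs, hv, hK⟩, hmax⟩ := set_has_maximal_iff_noetherian.2
    (inferInstance : IsNoetherian R.carrier R.carrier)
    {K : Ideal R.carrier | ∃ (R' : CRing Λ k) (q : R.carrier →ₐ[Λ] R'.carrier) (hq : R'.res.comp q = R.res),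
      Function.Surjective q ∧ IsVersal (ξ.along q hq) ∧ RingHom.ker q = K}
    ⟨_, R, AlgHom.id Λ _, AlgHom.comp_id _, Function.surjective_id, hξ, rfl⟩
  refine ⟨R', q, hq, hqs, hv, fun R₁ u f hf hu => ?_⟩
  obtain ⟨g, hg, hgu⟩ := exists_along hv h0 u
  have hh : R'.res.comp (f.comp g) = R'.res := by rw [← AlgHom.comp_assoc, hf, hg]
  have hfix : (ξ.along q hq).along (f.comp g) hh = ξ.along q hq :=
    family_ext (by rw [← push_along _ g hg f hf, hgu, hu])
  refine Function.Surjective.of_comp (g := g) (surjective_of_dual_injective (f.comp g) hh fun a b hab => ?_)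
  by_contra hne
  obtain ⟨d, hd⟩ := exists_diff_point (a := a) (b := b)
  have hd0 : ∀ r, TrivSqZeroExt.snd (d.1 (f (g r))) = 0 := fun r => by
    rw [hd, show a.1 (f (g r)) = b.1 (f (g r)) from hab r, sub_self]
  obtain ⟨r, hr⟩ : ∃ r, TrivSqZeroExt.snd (d.1 r) ≠ 0 := by
    by_contra hall
    push Not at hall
    exact hne (dual_point_ext fun r => sub_eq_zero.1 ((hd r).symm.trans (hall r)))
  let d₀ : R'.carrier →ₐ[Λ] DualNumber k := d.1
  have hdz : TrivSqZeroExt.snd (d₀ (r - f (g r))) ≠ 0 := by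
    rw [map_sub, TrivSqZeroExt.snd_sub, show TrivSqZeroExt.snd (d₀ (f (g r))) = 0 from hd0 r, sub_zero]
    exact hr
  have hzm : r - f (g r) ∈ IsLocalRing.maximalIdeal R'.carrier := (R'.mem_maximalIdeal_iff _).2 (by
    rw [map_sub, sub_eq_zero]
    exact (AlgHom.congr_fun hh r).symm)
  obtain ⟨R'', q', hq', hq's, hv', hqz⟩ := exists_cut hv (f.comp g) hh hfix d hd0 hzm hdz
  have hlt : RingHom.ker q < RingHom.ker (q'.comp q) := by
    refine lt_of_le_of_ne (fun x hx => RingHom.mem_ker.2 ?_) fun e => ?_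
    · change q' (q x) = 0
      rw [show q x = 0 from hx, map_zero]
    · obtain ⟨x, hx⟩ := hqs (r - f (g r))
      have h1 : x ∈ RingHom.ker (q'.comp q) := RingHom.mem_ker.2 (by change q' (q x) = 0; rw [hx, hqz])
      rw [← e] at h1
      refine hdz ?_
      rw [← hx, show q x = 0 from h1, map_zero, TrivSqZeroExt.snd_zero]
  subst hK
  exact hmax _ ⟨R'', q'.comp q, by rw [← AlgHom.comp_assoc, hq', hq], hq's.comp hqs, hv', rfl⟩ hlt

theorem exists_minimal_ps [IsNoetherianRing Λ] {F : Art Λ k ⥤ Type v} (h0 : H0 F) {R : CRing Λ k}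
    {ξ : Family R.carrier R.res F} (hξ : IsVersal ξ) :
    ∃ (R' : CRing Λ k) (ξ' : Family R'.carrier R'.res F), ξ'.IsMinimalVersal ∧
      ∃ (g : R'.carrier →ₐ[Λ] R.carrier) (hg : R.res.comp g = R'.res)
        (n : ℕ) (e : R.carrier ≃ₐ[Λ] (psRing R' n).carrier),
        (∀ a, e (g a) = psC R' n a) ∧ (ξ'.along g hg).toFormalElt = ξ.toFormalElt := by
  obtain ⟨R', q, hq, hqs, hmin⟩ := exists_minimal_quotient h0 hξ
  obtain ⟨g, hg, hgu⟩ := exists_along hmin.1 h0 ξ.toFormalElt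
  have efix : (ξ.along q hq).along g hg = ξ := family_ext hgu
  have hqg : R'.res.comp (q.comp g) = R'.res := by rw [← AlgHom.comp_assoc, hq, hg]
  have hs : Function.Surjective (q.comp g) := hmin.2 R' (ξ.along q hq).toFormalElt (q.comp g) hqg (by
    refine (push_along (ξ.along q hq) (AlgHom.id Λ _) (AlgHom.comp_id _) _ hqg).trans ?_
    conv_rhs => rw [← efix]
    rfl)
  let e := AlgEquiv.ofBijective (q.comp g)
    ⟨injective_of_surjective_endo ((q.comp g : R'.carrier →ₐ[Λ] R'.carrier) : R'.carrier →+* R'.carrier) hs, hs⟩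
  let q₁ : R.carrier →ₐ[Λ] R'.carrier := e.symm.toAlgHom.comp q
  have hq₁g : ∀ a, q₁ (g a) = a := fun a => e.symm_apply_apply a
  have hq₁ : R'.res.comp q₁ = R.res := AlgHom.ext fun r => by
    have h1 : R'.res ((q.comp g) (e.symm (q r))) = R'.res (e.symm (q r)) := AlgHom.congr_fun hqg _
    rw [show (q.comp g) (e.symm (q r)) = q r from e.apply_symm_apply (q r)] at h1
    exact h1.symm.trans (AlgHom.congr_fun hq r)
  have hv : IsVersal ((Family.self R'.carrier R'.res).along g hg) := by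
    refine (isVersal_iff_lifts _).2 (lifts_of_small (F := hR R.carrier R.res) (G := hR R'.carrier R'.res)
      (fun A φ => ((Family.self R'.carrier R'.res).along g hg).app A φ) (natural_family _)
      fun B A μ hμ φ χ hχ => ?_)
    obtain ⟨ψ, hψ, -⟩ := hξ μ hμ.1 φ ((ξ.along q hq).app B χ) (by
      rw [← Family.natural]
      refine Eq.trans ?_ (congrArg (fun ζ : Family R.carrier R.res F => ζ.app A φ) efix)
      exact congrArg ((ξ.along q hq).app A) hχ)
    obtain ⟨t, ht⟩ := hμ.2.2.1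
    obtain ⟨P, p₁, p₂, γ, hP, h', -⟩ := exists_doubled μ hμ t (ht.trans rfl)
    obtain ⟨w', hw1', hw2'⟩ := (cmp_surjective_iff _ hP).1 (isLeftExact_hR R'.res _ _ _ _ hP).2
      (⟨ψ.1.comp g, by rw [← AlgHom.comp_assoc, ψ.2, hg]⟩ : HomSet R'.carrier R'.res B) χ (by
        refine Eq.trans ?_ hχ.symm
        exact homSet_ext fun r => congrArg (fun t : HomSet R.carrier R.res A => t.1 (g r)) hψ)
    obtain ⟨w, hw1, hw2⟩ := (cmp_surjective_iff _ h').1 (isLeftExact_hR R.res _ _ _ _ h').2 ψ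
      (⟨(HomSet.map γ w').1.comp q₁, by rw [← AlgHom.comp_assoc, (HomSet.map γ w').2, hq₁]⟩ :
        HomSet R.carrier R.res (dual Λ k)) (subsingleton_base (h0_hR R.res) _ _)
    refine ⟨HomSet.map p₂ w, homSet_ext fun r => ?_, homSet_ext fun r => ?_⟩
    · exact ((hP.w_apply _).symm.trans (congrArg (fun t : HomSet R.carrier R.res B => μ (t.1 r)) hw1)).trans
        (congrArg (fun t : HomSet R.carrier R.res A => t.1 r) hψ)
    · have ew : w.1 (g r) = w'.1 r := h'.inj _ _
        ((congrArg (fun t : HomSet R.carrier R.res B => t.1 (g r)) hw1).trans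
          (congrArg (fun t : HomSet R'.carrier R'.res B => t.1 r) hw1').symm)
        ((congrArg (fun t : HomSet R.carrier R.res (dual Λ k) => t.1 (g r)) hw2).trans (by
          change γ (w'.1 (q₁ (g r))) = γ (w'.1 r)
          rw [hq₁g]))
      exact (congrArg p₂ ew).trans (congrArg (fun t : HomSet R'.carrier R'.res B => t.1 r) hw2')
  obtain ⟨n, E, hE⟩ := exists_ps_equiv_of_versal g hg hv
  exact ⟨R', ξ.along q hq, hmin, g, hg, n, E, hE, hgu⟩

end Groth.Agent.ArtFunLib
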