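import Groth.Agent.Lib.ArtFun.PS
import Groth.Prelude.Def_ArtFun3
import Groth.Agent.Lib.RegLoc.Basic
import Mathlib.LinearAlgebra.Contraction
import Mathlib.RingTheory.Filtration
import Mathlib.RingTheory.RegularLocalRing.Defs
import Mathlib.RingTheory.PowerSeries.Inverse
import Mathlib.RingTheory.Ideal.KrullsHeightTheorem

/-!
Obstruction theories of coefficient rings.
-/

set_option autoImplicit false

universe u v w

open CategoryTheory TensorProduct

namespace Groth.Agent.ArtFunLib

open ArtFun ArtFun.Art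

section Regular

/-- A power series ring over a regular local ring is regular. -/
theorem isRegularLocalRing_powerSeries (A : Type u) [CommRing A] [IsRegularLocalRing A] :
    IsRegularLocalRing (PowerSeries A) := by
  have : IsLocalRing (PowerSeries A) := inferInstanceAs (IsLocalRing (MvPowerSeries Unit A))
  have hm : (PowerSeries.X : PowerSeries A) ∈ IsLocalRing.maximalIdeal (PowerSeries A) := by
    rw [IsLocalRing.mem_maximalIdeal, mem_nonunits_iff]
    intro h
    have h' := h.map (PowerSeries.constantCoeff (R := A))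
    rw [PowerSeries.constantCoeff_X] at h'
    exact not_isUnit_zero h'
  have hk : RingHom.ker (PowerSeries.constantCoeff (R := A)) = Ideal.span {PowerSeries.X} := by
    refine Ideal.ext fun f => ?_
    rw [RingHom.mem_ker, Ideal.mem_span_singleton, PowerSeries.X_dvd_iff]
  have hs : Function.Surjective (PowerSeries.constantCoeff (R := A)) := fun a =>
    ⟨PowerSeries.C a, PowerSeries.constantCoeff_C a⟩
  have : IsRegularLocalRing (PowerSeries A ⧸ Ideal.span {(PowerSeries.X : PowerSeries A)}) :=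
    IsRegularLocalRing.of_ringEquiv ((Ideal.quotEquivOfEq hk.symm).trans
      (RingHom.quotientKerEquivOfSurjective hs)).symm
  refine RegLoc.of_quotient_span_singleton hm (mem_nonZeroDivisors_iff_right.2 fun f hf => ?_)
  exact PowerSeries.ext fun n => by
    have h := congrArg (PowerSeries.coeff (n + 1)) hf
    rwa [PowerSeries.coeff_succ_mul_X, map_zero] at h

theorem isRegularLocalRing_mvPowerSeries (k : Type u) [Field k] : ∀ n : ℕ,
    IsRegularLocalRing (MvPowerSeries (Fin n) k)
  | 0 => IsRegularLocalRing.of_ringEquiv (MvPowerSeries.isEmptyEquiv (σ := Fin 0) (R := k)).symm.toRingEquiv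
  | n + 1 => by
    have := isRegularLocalRing_mvPowerSeries k n
    have := isRegularLocalRing_powerSeries (MvPowerSeries (Fin n) k)
    exact IsRegularLocalRing.of_ringEquiv (MvPowerSeries.finSuccEquiv k n).symm.toRingEquiv

end Regular

variable {k : Type u} [Field k]

/-- The field as a coefficient ring. -/
def fieldRing (k : Type u) [Field k] : CRing k k :=
  { carrier := k
    res := AlgHom.id k k
    res_surjective := Function.surjective_id
    isAdicComplete := by
      rw [show IsLocalRing.maximalIdeal k = ⊥ from IsLocalRing.maximalIdeal_eq_bot]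
      infer_instance }

/-- A minimal presentation over a field. -/
theorem exists_presentation (R : CRing k k) :
    ∃ (n : ℕ) (π : (psRing (fieldRing k) n).carrier →ₐ[k] R.carrier),
      R.res.comp π = (psRing (fieldRing k) n).res ∧ Function.Surjective π ∧
      RingHom.ker π ≤ IsLocalRing.maximalIdeal (psRing (fieldRing k) n).carrier ^ 2 ∧
      IsSmoothFunctor (hR (psRing (fieldRing k) n).carrier (psRing (fieldRing k) n).res) ∧
      IsRegularLocalRing (psRing (fieldRing k) n).carrier := by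
  have hf : R.res.comp (Algebra.ofId k R.carrier) = (fieldRing k).res := AlgHom.ext fun r => R.res.commutes r
  obtain ⟨n, G, hG, -, hGs, hker⟩ := exists_minimal_cover (R := fieldRing k) (S := R) (Algebra.ofId k R.carrier) hf
  refine ⟨n, G, hG, hGs, fun z hz => ?_, fun B A μ hμ φ => ?_, isRegularLocalRing_mvPowerSeries k n⟩
  · have h := hker z hz
    rw [show IsLocalRing.maximalIdeal (fieldRing k).carrier = ⊥ from
      IsLocalRing.maximalIdeal_eq_bot (R := k), Ideal.map_bot, bot_sup_eq] at h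
    exact h
  · obtain ⟨ψ, hψ, -⟩ := versal_of_ps_equiv (R := fieldRing k) (S := psRing (fieldRing k) n)
      (psC (fieldRing k) n) (res_psC _ n) AlgEquiv.refl (fun _ => rfl) μ hμ φ
      (⟨Algebra.ofId k B, AlgHom.ext fun r => B.res.commutes r⟩ :
        HomSet (fieldRing k).carrier (fieldRing k).res B)
      (homSet_ext fun (r : k) => (AlgHom.commutes (μ.toAlgHom.comp (Algebra.ofId k B)) r).trans
        (AlgHom.commutes (φ.1.comp (psC (fieldRing k) n)) r).symm)
    exact ⟨ψ, hψ⟩

/-- Transport of obstruction theories along a bijective natural family. -/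
theorem hasObsTheory_of_bijective {F : Art k k ⥤ Type v} {G : Art k k ⥤ Type w} {V : Type u}
    [AddCommGroup V] [Module k V] (η : ∀ A, F.obj A → G.obj A) (hη : Natural η)
    (hb : ∀ A, Function.Bijective (η A)) (h : HasObsTheory F V) : HasObsTheory G V := by
  obtain ⟨T⟩ := h
  refine ⟨{ obs := fun {C' C} p hp u => T.obs p hp ((Equiv.ofBijective _ (hb C)).symm u)
            obs_eq_zero_iff := fun {C' C} p hp u => (T.obs_eq_zero_iff p hp _).trans ⟨?_, ?_⟩
            obs_quot := fun {C' C} p hp K hK hKJ hq u => T.obs_quot p hp K hK hKJ hq _ }⟩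
  · rintro ⟨v, hv⟩
    refine ⟨η C' v, ?_⟩
    rw [← hη, hv]
    exact (Equiv.ofBijective _ (hb C)).apply_symm_apply u
  · rintro ⟨v, hv⟩
    obtain ⟨v, rfl⟩ := (hb C').2 v
    refine ⟨v, (hb C).1 ?_⟩
    rw [hη, hv]
    exact ((Equiv.ofBijective _ (hb C)).apply_symm_apply u).symm

/-- Change of the obstruction space. -/
theorem hasObsTheory_congr {F : Art k k ⥤ Type v} {V W : Type u}
    [AddCommGroup V] [Module k V] [AddCommGroup W] [Module k W] (e : V ≃ₗ[k] W)
    (h : HasObsTheory F V) : HasObsTheory F W := by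
  obtain ⟨T⟩ := h
  refine ⟨{ obs := fun {C' C} p hp u => TensorProduct.congr e (LinearEquiv.refl k _) (T.obs p hp u)
            obs_eq_zero_iff := fun {C' C} p hp u =>
              (LinearEquiv.map_eq_zero_iff _).trans (T.obs_eq_zero_iff p hp u)
            obs_quot := fun {C' C} p hp K hK hKJ hq u => ?_ }⟩
  rw [T.obs_quot p hp K hK hKJ hq u]
  induction T.obs p hp u with
  | zero => simp
  | tmul x y => rfl
  | add x y hx hy => simp only [map_add, hx, hy]

section ObsHR

variable {P : CRing k k}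

/-- Two lifts of a point agree on the square of the maximal ideal. -/
theorem lifts_agree_sq {C' C : Art k k} {p : C' ⟶ C} (hp : IsSemismallExt p)
    {ψ ψ' : HomSet P.carrier P.res C'} (h : ∀ a, p (ψ.1 a) = p (ψ'.1 a))
    {j : P.carrier} (hj : j ∈ IsLocalRing.maximalIdeal P.carrier ^ 2) : ψ.1 j = ψ'.1 j := by
  rw [pow_two] at hj
  refine Submodule.mul_induction_on hj (fun a ha b hb => ?_) fun x y hx hy => by rw [map_add, map_add, hx, hy]
  have key : ∀ c, ψ.1 c - ψ'.1 c ∈ RingHom.ker p.toAlgHom := fun c => RingHom.mem_ker.2 (by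
    change p (_ - _) = 0
    rw [map_sub, h, sub_self])
  rw [← sub_eq_zero, map_mul, map_mul,
    show ψ.1 a * ψ.1 b - ψ'.1 a * ψ'.1 b = ψ.1 b * (ψ.1 a - ψ'.1 a) + ψ'.1 a * (ψ.1 b - ψ'.1 b) by ring]
  exact (Ideal.mem_bot).1 (hp.2.le (add_mem (Ideal.mul_mem_mul (homSet_mem_max ψ hb) (key a))
    (Ideal.mul_mem_mul (homSet_mem_max ψ' ha) (key b))))

theorem mk_smul_eq {J : Ideal P.carrier} (a : P.carrier) (x : J) :
    (Submodule.Quotient.mk (a • x) :
        (↥J ⧸ (IsLocalRing.maximalIdeal P.carrier • (⊤ : Submodule P.carrier ↥J)))) =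
      P.res a • Submodule.Quotient.mk x := by
  rw [← Submodule.Quotient.mk_smul, Submodule.Quotient.eq]
  rw [← IsScalarTower.algebraMap_smul P.carrier (P.res a) x, ← sub_smul]
  refine Submodule.smul_mem_smul ?_ Submodule.mem_top
  rw [CRing.mem_maximalIdeal_iff, map_sub, AlgHom.commutes]
  exact sub_self _

theorem finite_quot (J : Ideal P.carrier) :
    Module.Finite k (↥J ⧸ (IsLocalRing.maximalIdeal P.carrier • (⊤ : Submodule P.carrier ↥J))) := by
  obtain ⟨n, g, hg⟩ := Module.Finite.exists_fin (R := P.carrier) (M := ↥J)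
  refine Module.Finite.of_surjective (LinearMap.lsum k (fun _ : Fin n => k) k
    fun i => LinearMap.toSpanSingleton k _ (Submodule.Quotient.mk (g i))) fun y => ?_
  obtain ⟨x, rfl⟩ := Submodule.Quotient.mk_surjective _ y
  obtain ⟨a, rfl⟩ := (Submodule.mem_span_range_iff_exists_fun P.carrier).1 (hg ▸ Submodule.mem_top (x := x))
  refine ⟨fun i => P.res (a i), ?_⟩
  rw [LinearMap.lsum_apply, LinearMap.sum_apply, ← Submodule.mkQ_apply, map_sum]
  exact Finset.sum_congr rfl fun i _ => (mk_smul_eq (a i) (g i)).symm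

/-- The linear map attached to a lift. -/
theorem exists_lift_map (J : Ideal P.carrier) {C' C : Art k k} {p : C' ⟶ C} (hp : IsSemismallExt p)
    (ψ : HomSet P.carrier P.res C') (h : ∀ j ∈ J, p (ψ.1 j) = 0) :
    ∃ l : (↥J ⧸ (IsLocalRing.maximalIdeal P.carrier • (⊤ : Submodule P.carrier ↥J))) →ₗ[k]
        ↥(RingHom.ker p.toAlgHom), ∀ j : J, (l (Submodule.Quotient.mk j) : C') = ψ.1 j := by
  let l₀ : J →ₗ[k] ↥(RingHom.ker p.toAlgHom) :=
    { toFun := fun j => ⟨ψ.1 j, RingHom.mem_ker.2 (h _ j.2)⟩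
      map_add' := fun x y => Subtype.ext (map_add ψ.1 _ _)
      map_smul' := fun c x => Subtype.ext (map_smul ψ.1 c (x : P.carrier)) }
  let M := IsLocalRing.maximalIdeal P.carrier • (⊤ : Submodule P.carrier ↥J)
  have hM : M.restrictScalars k ≤ LinearMap.ker l₀ := fun x hx => LinearMap.mem_ker.2 (Subtype.ext (by
    have hx' : x ∈ M := hx
    change ψ.1 (x : P.carrier) = 0
    refine Submodule.smul_induction_on hx' (fun a ha y _ => ?_) fun y z hy hz => ?_
    · rw [Submodule.coe_smul, smul_eq_mul, map_mul]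
      exact (Ideal.mem_bot).1 (hp.2.le (Ideal.mul_mem_mul (homSet_mem_max ψ ha) (RingHom.mem_ker.2 (h _ y.2))))
    · rw [Submodule.coe_add, map_add, hy, hz, add_zero]))
  exact ⟨(M.restrictScalars k).liftQ l₀ hM ∘ₗ (Submodule.Quotient.restrictScalarsEquiv k M).symm.toLinearMap,
    fun j => rfl⟩

/-- The obstruction theory of a quotient of a smooth ring. -/
theorem hasObsTheory_of_presentation (hP : IsSmoothFunctor (hR P.carrier P.res))
    {R : Type u} [CommRing R] [Algebra k R] {resR : R →ₐ[k] k} (π : P.carrier →ₐ[k] R)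
    (hres : resR.comp π = P.res) (hπ : Function.Surjective π) {J : Ideal P.carrier}
    (hJ : RingHom.ker π = J) (hJ2 : J ≤ IsLocalRing.maximalIdeal P.carrier ^ 2) :
    HasObsTheory (hR R resR)
      (Module.Dual k (↥J ⧸ (IsLocalRing.maximalIdeal P.carrier • (⊤ : Submodule P.carrier ↥J)))) := by
  classical
  let Q := ↥J ⧸ (IsLocalRing.maximalIdeal P.carrier • (⊤ : Submodule P.carrier ↥J))
  have : Module.Finite k Q := finite_quot J
  let pre : ∀ {A : Art k k}, HomSet R resR A → HomSet P.carrier P.res A := fun φ =>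
    ⟨φ.1.comp π, by rw [← AlgHom.comp_assoc, φ.2, hres]⟩
  have key : ∀ {C' C : Art k k} (p : C' ⟶ C) (hp : IsSemismallExt p) (u : HomSet R resR C),
      ∃ l : Q →ₗ[k] ↥(RingHom.ker p.toAlgHom), ∀ ψ : HomSet P.carrier P.res C',
        HomSet.map p ψ = pre u → ∀ j : J, (l (Submodule.Quotient.mk j) : C') = ψ.1 j := by
    intro C' C p hp u
    obtain ⟨ψ₀, hψ₀⟩ := hP p hp.1 (pre u)
    have hψ₀a : ∀ a, p (ψ₀.1 a) = u.1 (π a) := fun a =>
      congrArg (fun χ : HomSet P.carrier P.res C => χ.1 a) hψ₀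
    obtain ⟨l, hl⟩ := exists_lift_map J hp ψ₀ fun j hj => by
      rw [hψ₀a, show π j = 0 from hJ.ge hj, map_zero]
    refine ⟨l, fun ψ hψ j => (hl j).trans (lifts_agree_sq hp (fun a => ?_) (hJ2 j.2))⟩
    rw [hψ₀a]
    exact (congrArg (fun χ : HomSet P.carrier P.res C => χ.1 a) hψ).symm
  choose ℓ hℓ using @key
  let e : ∀ (I : Type u) [AddCommGroup I] [Module k I], Module.Dual k Q ⊗[k] I ≃ₗ[k] (Q →ₗ[k] I) :=
    fun I _ _ => dualTensorHomEquiv k Q I
  refine ⟨{ obs := fun {C' C} p hp u => (e _).symm (ℓ p hp u)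
            obs_eq_zero_iff := fun {C' C} p hp u => (LinearEquiv.map_eq_zero_iff _).trans ⟨fun h0 => ?_, ?_⟩
            obs_quot := fun {C' C} p hp K hK hKJ hq u => ?_ }⟩
  · obtain ⟨ψ, hψ⟩ := hP p hp.1 (pre u)
    have hkill : RingHom.ker π ≤ RingHom.ker ψ.1 := fun j hj => RingHom.mem_ker.2 (by
      have h := hℓ p hp u ψ hψ ⟨j, hJ ▸ hj⟩
      rw [h0, LinearMap.zero_apply] at h
      exact h.symm)
    obtain ⟨u', hu'⟩ := exists_desc_point π hπ hres ψ hkill
    refine ⟨u', homSet_ext fun r => ?_⟩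
    obtain ⟨a, rfl⟩ := hπ r
    exact (congrArg p (hu' a)).trans (congrArg (fun χ : HomSet P.carrier P.res C => χ.1 a) hψ)
  · rintro ⟨u', hu'⟩
    refine LinearMap.ext fun x => ?_
    obtain ⟨j, rfl⟩ := Submodule.Quotient.mk_surjective _ x
    refine Subtype.ext ?_
    rw [hℓ p hp u (pre u') (by rw [← hu']; rfl) j]
    change u'.1 (π j) = _
    rw [show π (j : P.carrier) = 0 from hJ.ge j.2, map_zero]
    rfl
  · obtain ⟨ψ, hψ⟩ := hP p hp.1 (pre u)
    have hnat : ∀ {I I' : Type u} [AddCommGroup I] [Module k I] [AddCommGroup I'] [Module k I']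
        (g : I →ₗ[k] I') (t : Module.Dual k Q ⊗[k] I), e I' (LinearMap.lTensor _ g t) = g ∘ₗ e I t := by
      intro I I' _ _ _ _ g t
      induction t with
      | zero => simp
      | tmul f x =>
        refine LinearMap.ext fun m => ?_
        change f m • g x = g (f m • x)
        rw [map_smul]
      | add x y hx hy => simp only [map_add, hx, hy, LinearMap.comp_add]
    refine (LinearEquiv.symm_apply_eq _).2 ?_
    rw [hnat, LinearEquiv.apply_symm_apply]
    refine LinearMap.ext fun x => ?_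
    obtain ⟨j, rfl⟩ := Submodule.Quotient.mk_surjective _ x
    refine Subtype.ext ((hℓ _ hq u (HomSet.map (quotMk C' K hK) ψ) ?_ j).trans ?_)
    · exact (homSet_ext fun a => rfl).trans hψ
    · exact (congrArg (Ideal.Quotient.mk K) (hℓ p hp u ψ hψ j)).symm

end ObsHR

/-- The point of an Artinian quotient. -/
theorem exists_point_quot {A : Type u} [CommRing A] [Algebra k A] [IsLocalRing A] [IsNoetherianRing A]
    (res : A →ₐ[k] k) {K : Ideal A} {N : ℕ} (hN : IsLocalRing.maximalIdeal A ^ N ≤ K)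
    (hK : K ≤ IsLocalRing.maximalIdeal A) :
    ∃ (C : Art k k) (q : HomSet A res C), Function.Surjective q.1 ∧ RingHom.ker q.1 = K := by
  have hres : Function.Surjective res := fun c => ⟨algebraMap k A c, res.commutes c⟩
  have hmem : ∀ a, a ∈ IsLocalRing.maximalIdeal A ↔ res a = 0 := fun a => by
    rw [← IsLocalRing.eq_maximalIdeal (RingHom.ker_isMaximal_of_surjective (res : A →+* k) hres)]
    rfl
  have : Nontrivial (A ⧸ K) := Ideal.Quotient.nontrivial_iff.2 fun h =>
    (IsLocalRing.maximalIdeal.isMaximal A).ne_top (top_le_iff.1 (h ▸ hK))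
  have : IsLocalRing (A ⧸ K) := IsLocalRing.of_surjective' (Ideal.Quotient.mk K) Ideal.Quotient.mk_surjective
  have : IsArtinianRing (A ⧸ K) := by
    rw [isArtinianRing_iff_isNilpotent_maximalIdeal]
    refine ⟨N, le_bot_iff.1 ?_⟩
    rw [← IsLocalRing.map_maximalIdeal_of_surjective (Ideal.Quotient.mk K) Ideal.Quotient.mk_surjective,
      ← Ideal.map_pow, Ideal.map_le_iff_le_comap]
    exact hN.trans (fun a ha => Ideal.Quotient.eq_zero_iff_mem.2 ha)
  exact ⟨Art.of (A ⧸ K) (Ideal.Quotient.liftₐ K res fun a ha => (hmem a).1 (hK ha))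
      (fun c => ⟨Ideal.Quotient.mk K (algebraMap k A c), res.commutes c⟩),
    ⟨Ideal.Quotient.mkₐ k K, Ideal.Quotient.liftₐ_comp _ _ _⟩, Ideal.Quotient.mk_surjective,
    Ideal.ext fun _ => Ideal.Quotient.eq_zero_iff_mem⟩

/-- Few relations in a minimal presentation. -/
theorem exists_generators_le_obs {F : Art k k ⥤ Type v} {R : Type u} [CommRing R] [Algebra k R]
    {resR : R →ₐ[k] k} {ξ : Family R resR F} (hξ : IsVersal ξ)
    {W : Type u} [AddCommGroup W] [Module k W] [Module.Finite k W] (T : ObsTheory F W)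
    {P : Type u} [CommRing P] [Algebra k P] [IsLocalRing P] [IsNoetherianRing P]
    (π : P →ₐ[k] R) (hπ : Function.Surjective π)
    (hJ2 : RingHom.ker π ≤ IsLocalRing.maximalIdeal P ^ 2) :
    ∃ s : Finset P, s.card ≤ Module.finrank k W ∧ Ideal.span (s : Set P) = RingHom.ker π := by
  classical
  let J := RingHom.ker π
  let m := IsLocalRing.maximalIdeal P
  let resP : P →ₐ[k] k := resR.comp π
  obtain ⟨k₀, hk₀⟩ := Ideal.exists_pow_inf_eq_pow_smul m (J : Submodule P P)
  let N := k₀ + 2
  have hAR : m ^ N ⊓ J ≤ m * J := by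
    have h := hk₀ N (Nat.le_add_right _ _)
    rw [smul_eq_mul, Ideal.mul_top] at h
    refine h.le.trans (Submodule.smul_mono ?_ inf_le_right)
    exact Ideal.pow_le_self (by omega)
  have hJm : J ≤ m := hJ2.trans (Ideal.pow_le_self two_ne_zero)
  have hNm : m ^ N ≤ m := Ideal.pow_le_self (by omega)
  obtain ⟨C, q, hq, hqk⟩ := exists_point_quot resP (K := J ⊔ m ^ N) le_sup_right (sup_le hJm hNm)
  obtain ⟨C₁, q₁, hq₁, hq₁k⟩ := exists_point_quot resP (K := m * J ⊔ m ^ N) le_sup_right
    (sup_le (Ideal.mul_le_left.trans le_rfl) hNm)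
  obtain ⟨φ, hφ⟩ := exists_desc_point (resR' := resR) π hπ rfl q (fun j hj => hqk.ge (Ideal.mem_sup_left hj))
  obtain ⟨p, hp⟩ : ∃ p : C₁ ⟶ C, ∀ a, p (q₁.1 a) = q.1 a := by
    obtain ⟨g, hg⟩ := exists_desc_point (resR' := C₁.res) q₁.1 hq₁ q₁.2 q
      (hq₁k.le.trans ((sup_le_sup_right Ideal.mul_le_right _).trans hqk.ge))
    exact ⟨⟨g.1, g.2⟩, hg⟩
  have hps : IsSemismallExt p := by
    refine ⟨fun c => ?_, le_bot_iff.1 (Ideal.mul_le.2 fun a ha b hb => ?_)⟩
    · obtain ⟨x, rfl⟩ := hq c
      exact ⟨q₁.1 x, hp x⟩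
    · obtain ⟨a, rfl⟩ := hq₁ a
      obtain ⟨b, rfl⟩ := hq₁ b
      have ha' : a ∈ m := by
        by_contra hu
        exact (IsLocalRing.mem_maximalIdeal _).1 ha (((IsLocalRing.notMem_maximalIdeal).1 hu).map q₁.1)
      have hb' : b ∈ RingHom.ker q.1 := RingHom.mem_ker.2 ((hp b).symm.trans (RingHom.mem_ker.1 hb))
      rw [hqk] at hb'
      obtain ⟨j, hj, x, hx, rfl⟩ := Submodule.mem_sup.1 hb'
      rw [Ideal.mem_bot, ← map_mul]
      refine RingHom.mem_ker.1 (hq₁k.ge ?_)
      rw [mul_add]
      exact add_mem (Ideal.mem_sup_left (Ideal.mul_mem_mul ha' hj))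
        (Ideal.mem_sup_right (Ideal.mul_mem_left _ _ hx))
  let b := Module.finBasis k W
  obtain ⟨x, hx⟩ : ∃ x : Fin (Module.finrank k W) → ↥(RingHom.ker p.toAlgHom),
      T.obs p hps (ξ.app C φ) = ∑ i, b i ⊗ₜ x i := by
    induction T.obs p hps (ξ.app C φ) with
    | zero => exact ⟨0, by simp⟩
    | tmul w y => exact ⟨fun i => b.repr w i • y, by
        conv_lhs => rw [← b.sum_repr w, TensorProduct.sum_tmul]
        exact Finset.sum_congr rfl fun i _ => TensorProduct.smul_tmul _ _ _⟩
    | add u v hu hv =>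
      obtain ⟨x, rfl⟩ := hu
      obtain ⟨y, rfl⟩ := hv
      exact ⟨x + y, by simp [TensorProduct.tmul_add, Finset.sum_add_distrib]⟩
  have hz : ∀ i, ∃ z ∈ J, q₁.1 z = x i := fun i => by
    obtain ⟨z, hz⟩ := hq₁ (x i)
    have hz' : z ∈ RingHom.ker q.1 := RingHom.mem_ker.2 (by rw [← hp, hz]; exact (x i).2)
    rw [hqk] at hz'
    obtain ⟨j, hj, y, hy, rfl⟩ := Submodule.mem_sup.1 hz'
    refine ⟨j, hj, ?_⟩
    rw [← hz, map_add, show q₁.1 y = 0 from hq₁k.ge (Ideal.mem_sup_right hy), add_zero]
  choose z hzJ hzx using hz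
  let L : Ideal C₁ := (Ideal.span (Set.range z)).map q₁.1
  have hLk : L ≤ RingHom.ker p.toAlgHom := Ideal.map_le_iff_le_comap.2 (Ideal.span_le.2
    (Set.range_subset_iff.2 fun i => by
      change q₁.1 (z i) ∈ RingHom.ker p.toAlgHom
      rw [hzx]
      exact (x i).2))
  have hLm : L ≤ IsLocalRing.maximalIdeal C₁ := hLk.trans (ker_le p)
  have hq2 : IsSemismallExt (quotFactor hLm p hLk) := by
    refine ⟨quotFactor_surjective _ _ _ hps.1, le_bot_iff.1 (Ideal.mul_le.2 fun a ha c hc => ?_)⟩
    obtain ⟨a, rfl⟩ := quotMk_surjective C₁ L hLm a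
    obtain ⟨c, rfl⟩ := quotMk_surjective C₁ L hLm c
    rw [Ideal.mem_bot, ← map_mul, (Ideal.mem_bot).1 (hps.2.le (Ideal.mul_mem_mul
      (mem_of_map_mem (quotMk C₁ L hLm) ha) (show c ∈ RingHom.ker p.toAlgHom from hc))), map_zero]
  have h0 : T.obs _ hq2 (ξ.app C φ) = 0 := by
    rw [T.obs_quot p hps L hLm hLk hq2, hx, map_sum]
    refine Finset.sum_eq_zero fun i _ => ?_
    rw [LinearMap.lTensor_tmul]
    have hxi : ((kerToQuot hLm p hLk).restrictScalars k) (x i) = 0 := by
      refine Subtype.ext ?_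
      change Ideal.Quotient.mk L (x i : C₁) = 0
      rw [Ideal.Quotient.eq_zero_iff_mem, ← hzx i]
      exact Ideal.mem_map_of_mem q₁.1 (Ideal.subset_span (Set.mem_range_self i))
    rw [hxi, TensorProduct.tmul_zero]
  obtain ⟨y, hy⟩ := (T.obs_eq_zero_iff _ hq2 _).1 h0
  obtain ⟨ψ, hψ, -⟩ := hξ _ hq2.1 φ y hy
  have hkey : ∀ a, quotFactor hLm p hLk (ψ.1 (π a)) = quotFactor hLm p hLk (quotMk C₁ L hLm (q₁.1 a)) := fun a =>
    (congrArg (fun χ : HomSet R resR C => χ.1 (π a)) hψ).trans ((hφ a).trans (hp a).symm)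
  have hle : J ≤ Ideal.span (Set.range z) ⊔ m * J := by
    intro j hj
    -- the two lifts agree on the square of the maximal ideal
    have hj0 : quotMk C₁ L hLm (q₁.1 j) = 0 := by
      have h2 := hJ2 hj
      rw [pow_two] at h2
      have e : quotMk C₁ L hLm (q₁.1 j) = ψ.1 (π j) := by
        refine Submodule.mul_induction_on h2 (fun a ha c hc => ?_) fun u v hu hv => by
          rw [map_add, map_add, map_add, map_add, hu, hv]
        have hd : ∀ c, quotMk C₁ L hLm (q₁.1 c) - ψ.1 (π c) ∈ RingHom.ker (quotFactor hLm p hLk).toAlgHom :=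
          fun c => RingHom.mem_ker.2 (by
            change quotFactor hLm p hLk (_ - _) = 0
            rw [map_sub, hkey, sub_self])
        have hmem : ∀ d ∈ m, quotMk C₁ L hLm (q₁.1 d) ∈ IsLocalRing.maximalIdeal (quot C₁ L hLm) ∧
            ψ.1 (π d) ∈ IsLocalRing.maximalIdeal (quot C₁ L hLm) := fun d hd => by
          have h0 : resP d = 0 := by
            by_contra hne
            refine (IsLocalRing.mem_maximalIdeal d).1 hd ?_
            by_contra hu
            have hdm : d ∈ RingHom.ker (resP : P →+* k) := by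
              rw [IsLocalRing.eq_maximalIdeal (RingHom.ker_isMaximal_of_surjective (resP : P →+* k)
                fun c => ⟨algebraMap k P c, resP.commutes c⟩)]
              exact (IsLocalRing.mem_maximalIdeal d).2 hu
            exact hne hdm
          constructor
          · rw [mem_maximalIdeal_iff, res_app, homSet_res]
            exact h0
          · rw [mem_maximalIdeal_iff, homSet_res]
            exact h0
        rw [map_mul, map_mul, map_mul, map_mul, ← sub_eq_zero,
          show quotMk C₁ L hLm (q₁.1 a) * quotMk C₁ L hLm (q₁.1 c) - ψ.1 (π a) * ψ.1 (π c) =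
            quotMk C₁ L hLm (q₁.1 c) * (quotMk C₁ L hLm (q₁.1 a) - ψ.1 (π a)) +
              ψ.1 (π a) * (quotMk C₁ L hLm (q₁.1 c) - ψ.1 (π c)) by ring]
        exact (Ideal.mem_bot).1 (hq2.2.le (add_mem (Ideal.mul_mem_mul (hmem c hc).1 (hd a))
          (Ideal.mul_mem_mul (hmem a ha).2 (hd c))))
      rw [e, show π j = 0 from hj, map_zero]
    obtain ⟨w, hw, hwj⟩ := (Ideal.mem_map_iff_of_surjective q₁.1 hq₁).1
      (Ideal.Quotient.eq_zero_iff_mem.1 hj0 : q₁.1 j ∈ L)
    have hd : j - w ∈ m * J ⊔ m ^ N := hq₁k.le (RingHom.mem_ker.2 (by rw [map_sub, hwj, sub_self]))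
    obtain ⟨u, hu, v, hv, huv⟩ := Submodule.mem_sup.1 hd
    have hvJ : v ∈ J := by
      rw [show v = j - w - u by rw [← huv]; ring]
      exact sub_mem (sub_mem hj (Ideal.span_le.2 (Set.range_subset_iff.2 hzJ) hw)) (Ideal.mul_le_right hu)
    rw [show j = w + (u + v) by rw [huv]; ring]
    exact add_mem (Ideal.mem_sup_left hw) (Ideal.mem_sup_right (add_mem hu (hAR ⟨hv, hvJ⟩)))
  have hspan : J ≤ Ideal.span (Set.range z) :=
    Submodule.le_of_le_smul_of_le_jacobson_bot (IsNoetherian.noetherian J)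
      (IsLocalRing.maximalIdeal_le_jacobson ⊥) hle
  refine ⟨Finset.univ.image z, Finset.card_image_le.trans (by simp), ?_⟩
  rw [Finset.coe_image, Finset.coe_univ, Set.image_univ]
  exact le_antisymm (Ideal.span_le.2 (Set.range_subset_iff.2 hzJ)) hspan

theorem spanFinrank_eq_of_le_sq {P R : Type u} [CommRing P] [IsLocalRing P] [IsNoetherianRing P]
    [CommRing R] [IsLocalRing R] [IsNoetherianRing R] (π : P →+* R) (hπ : Function.Surjective π)
    (hJ2 : RingHom.ker π ≤ IsLocalRing.maximalIdeal P ^ 2) :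
    (IsLocalRing.maximalIdeal R).spanFinrank = (IsLocalRing.maximalIdeal P).spanFinrank := by
  classical
  have hmap := IsLocalRing.map_maximalIdeal_of_surjective π hπ
  refine le_antisymm ?_ ?_
  · rw [← hmap]
    conv_lhs => rw [← (IsLocalRing.maximalIdeal P).span_generators, Ideal.submodule_span_eq, Ideal.map_span]
    refine (Submodule.spanFinrank_span_le_ncard_of_finite
      (((IsNoetherian.noetherian (IsLocalRing.maximalIdeal P)).finite_generators).image π)).trans ?_
    rw [← (IsNoetherian.noetherian (IsLocalRing.maximalIdeal P)).generators_ncard]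
    exact Set.ncard_image_le (IsNoetherian.noetherian (IsLocalRing.maximalIdeal P)).finite_generators
  · obtain ⟨g, hg⟩ := hπ.hasRightInverse
    have hfin := (IsNoetherian.noetherian (IsLocalRing.maximalIdeal R)).finite_generators
    let t := g '' (IsLocalRing.maximalIdeal R).generators
    have htm : t ⊆ IsLocalRing.maximalIdeal P := by
      rintro _ ⟨y, hy, rfl⟩
      intro hu
      refine (IsLocalRing.mem_maximalIdeal y).1 ((IsLocalRing.maximalIdeal R).span_generators.le
        (Submodule.subset_span hy)) ?_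
      rw [← hg y]
      exact hu.map π
    have hle : IsLocalRing.maximalIdeal P ≤ Ideal.span t ⊔ IsLocalRing.maximalIdeal P • IsLocalRing.maximalIdeal P := by
      intro a ha
      have h : π a ∈ (Ideal.span t).map π := by
        have h1 : π a ∈ IsLocalRing.maximalIdeal R := hmap ▸ Ideal.mem_map_of_mem π ha
        rw [← (IsLocalRing.maximalIdeal R).span_generators] at h1
        rw [Ideal.map_span, ← Set.image_comp, show π ∘ g = id from funext hg, Set.image_id]
        exact h1
      obtain ⟨w, hw, hwa⟩ := (Ideal.mem_map_iff_of_surjective π hπ).1 h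
      rw [← add_sub_cancel w a]
      refine add_mem (Ideal.mem_sup_left hw) (Ideal.mem_sup_right ?_)
      rw [smul_eq_mul, ← pow_two]
      exact hJ2 (RingHom.mem_ker.2 (by rw [map_sub, hwa, sub_self]))
    have heq : Ideal.span t = IsLocalRing.maximalIdeal P := le_antisymm (Ideal.span_le.2 htm)
      (Submodule.le_of_le_smul_of_le_jacobson_bot (IsNoetherian.noetherian _)
        (IsLocalRing.maximalIdeal_le_jacobson ⊥) hle)
    rw [← heq, ← (IsNoetherian.noetherian (IsLocalRing.maximalIdeal R)).generators_ncard]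
    exact (Submodule.spanFinrank_span_le_ncard_of_finite (hfin.image g)).trans (Set.ncard_image_le hfin)

/-- The numerical consequences of a regular presentation with few relations. -/
theorem dim_bounds {P R : Type u} [CommRing P] [IsRegularLocalRing P]
    [CommRing R] [IsLocalRing R] [IsNoetherianRing R] (π : P →+* R) (hπ : Function.Surjective π)
    (hJ2 : RingHom.ker π ≤ IsLocalRing.maximalIdeal P ^ 2) {r : ℕ}
    (s : Finset P) (hsr : s.card ≤ r) (hs : Ideal.span (s : Set P) = RingHom.ker π) :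
    ringKrullDim R ≤ (Module.finrank (IsLocalRing.ResidueField R) (IsLocalRing.CotangentSpace R) : WithBot ℕ∞) ∧
      (Module.finrank (IsLocalRing.ResidueField R) (IsLocalRing.CotangentSpace R) : WithBot ℕ∞) ≤
          ringKrullDim R + (r : WithBot ℕ∞) ∧
      (r = 0 → IsRegularLocalRing R) ∧
      (ringKrullDim R + (r : WithBot ℕ∞) =
          (Module.finrank (IsLocalRing.ResidueField R) (IsLocalRing.CotangentSpace R) : WithBot ℕ∞) →
        ∃ (P : Type u) (_ : CommRing P) (_ : IsRegularLocalRing P) (π : P →+* R) (s : Finset P),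
          Function.Surjective π ∧ Ideal.span (s : Set P) = RingHom.ker π ∧
            ringKrullDim P = ringKrullDim R + (s.card : WithBot ℕ∞)) := by
  rw [← IsLocalRing.spanFinrank_maximalIdeal_eq_finrank_cotangentSpace, spanFinrank_eq_of_le_sq π hπ hJ2,
    IsRegularLocalRing.spanFinrank_maximalIdeal]
  have h1 : ringKrullDim R ≤ ringKrullDim P := ringKrullDim_le_of_surjective π hπ
  have h2 : ringKrullDim P ≤ ringKrullDim R + (s.card : WithBot ℕ∞) := by
    have hsm : (s : Set P) ⊆ Ring.jacobson P := by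
      rw [IsLocalRing.ringJacobson_eq_maximalIdeal]
      exact fun a ha => Ideal.pow_le_self two_ne_zero (hJ2 (hs.le (Ideal.subset_span ha)))
    have h := ringKrullDim_le_ringKrullDim_quotient_add_card s hsm
    rwa [ringKrullDim_eq_of_ringEquiv ((Ideal.quotEquivOfEq hs).trans
      (RingHom.quotientKerEquivOfSurjective hπ))] at h
  have h3 : (s.card : WithBot ℕ∞) ≤ (r : WithBot ℕ∞) := by exact_mod_cast hsr
  refine ⟨h1, h2.trans (add_le_add le_rfl h3), fun hr => ?_, fun he => ⟨P, _, ‹_›, π, s, hπ, hs, ?_⟩⟩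
  · have hinj : Function.Injective π := by
      rw [RingHom.injective_iff_ker_eq_bot, ← hs, Finset.card_eq_zero.1 (by omega : s.card = 0)]
      simp
    exact IsRegularLocalRing.of_ringEquiv (RingEquiv.ofBijective π ⟨hinj, hπ⟩)
  · exact le_antisymm h2 ((add_le_add le_rfl h3).trans he.le)

end Groth.Agent.ArtFunLib
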