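import Groth.Agent.Lib.ArtFun.Families
import Groth.Prelude.Def_CAlgX
import Groth.Agent.Lib.Compl.Noetherian
import Mathlib.RingTheory.AdicCompletion.LocalRing
import Mathlib.RingTheory.Polynomial.Basic

/-!
Completed polynomial rings: smooth coefficient rings.
-/

set_option autoImplicit false

universe u v w

open CategoryTheory

namespace Groth.Agent.ArtFunLib

open ArtFun ArtFun.Art

variable {Λ k : Type u} [CommRing Λ] [Field k] [Algebra Λ k] [IsNoetherianRing Λ]

theorem exists_polyRing' {σ : Type} [Finite σ] (c : σ → k)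
    (hc : Function.Surjective (MvPolynomial.aeval (R := Λ) c)) :
    ∃ (P : CRing Λ k) (x : σ → P.carrier), (∀ i, P.res (x i) = c i) ∧
      (∀ (A : Art Λ k) (a : σ → A), (∀ i, A.res (a i) = c i) →
        ∃! φ : HomSet P.carrier P.res A, ∀ i, φ.1 (x i) = a i) ∧
      CAlgX.IsAdicFormallySmooth Λ P.carrier (IsLocalRing.maximalIdeal P.carrier) := by
  let M : Ideal (MvPolynomial σ Λ) := RingHom.ker (MvPolynomial.aeval (R := Λ) c)
  have hM : M.IsMaximal := RingHom.ker_isMaximal_of_surjective _ hc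
  have hfg : M.FG := Ideal.fg_of_isNoetherianRing M
  let C := AdicCompletion M (MvPolynomial σ Λ)
  let ι : MvPolynomial σ Λ →+* C := algebraMap (MvPolynomial σ Λ) C
  have hιc : ∀ l : Λ, ι (algebraMap Λ (MvPolynomial σ Λ) l) = algebraMap Λ C l := fun l => rfl
  let I : Ideal C := M.map ι
  have hI : I.IsMaximal := AdicCompletion.isMaximal_map_of_le _ _ le_rfl hfg
  have hcomp : IsAdicComplete I C := AdicCompletion.isAdicComplete_self _ hfg
  have : IsLocalRing C := isLocalRing_of_isAdicComplete_maximal I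
  have hmI : IsLocalRing.maximalIdeal C = I := (IsLocalRing.eq_maximalIdeal hI).symm
  have : IsNoetherianRing C := Groth.Agent.Compl.isNoetherianRing_adicCompletion M hfg
  -- the finite levels
  have hlift : ∀ (B : Type u) [CommRing B] [Algebra Λ B] (ψ : MvPolynomial σ Λ →ₐ[Λ] B) (N : ℕ),
      M ^ N ≤ RingHom.ker ψ → ∃ Ψ : C →ₐ[Λ] B, ∀ q, Ψ (ι q) = ψ q := by
    intro B _ _ ψ N hN
    refine ⟨(Ideal.Quotient.liftₐ (M ^ N) ψ fun _ h => hN h).comp
      ((AdicCompletion.evalₐ M N).restrictScalars Λ), fun q => ?_⟩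
    rw [AlgHom.comp_apply, AlgHom.restrictScalars_apply]
    erw [AdicCompletion.evalₐ_of]
    rfl
  have hdense : ∀ (N : ℕ) (z : C), ∃ q, z - ι q ∈ I ^ N := by
    intro N z
    obtain ⟨q, hq⟩ := Submodule.Quotient.mk_surjective _ (AdicCompletion.eval M (MvPolynomial σ Λ) N z)
    refine ⟨q, ?_⟩
    have h : z - AdicCompletion.of M _ q ∈ (M ^ N • ⊤ : Submodule (MvPolynomial σ Λ) C) := by
      rw [AdicCompletion.pow_smul_top_eq_ker_eval hfg, LinearMap.mem_ker, map_sub, ← hq]
      refine sub_eq_zero.2 ?_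
      rfl
    rw [Ideal.smul_top_eq_map, Submodule.restrictScalars_mem, Ideal.map_pow] at h
    exact h
  obtain ⟨res₀, hres₀⟩ := hlift k (MvPolynomial.aeval c) 1 (by rw [pow_one])
  have hsurj : Function.Surjective res₀ := fun y => by
    obtain ⟨q, hq⟩ := hc y
    exact ⟨ι q, (hres₀ q).trans hq⟩
  let P : CRing Λ k :=
    { carrier := C, res := res₀, res_surjective := hsurj, isAdicComplete := hmI ▸ hcomp }
  have hresx : ∀ i, P.res (ι (MvPolynomial.X i)) = c i := fun i =>
    (hres₀ _).trans (MvPolynomial.aeval_X c i)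
  have hagree : ∀ (B : Type u) [CommRing B] [Algebra Λ B] (f g : C →ₐ[Λ] B) (n : ℕ),
      (∀ z ∈ I ^ n, f z = 0) → (∀ z ∈ I ^ n, g z = 0) →
      (∀ i, f (ι (MvPolynomial.X i)) = g (ι (MvPolynomial.X i))) → f = g := by
    intro B _ _ f g n hf hg h
    refine AlgHom.ext fun z => ?_
    obtain ⟨q, hq⟩ := hdense n z
    have e : f.toRingHom.comp ι = g.toRingHom.comp ι :=
      MvPolynomial.ringHom_ext (fun l => by
        change f (ι (algebraMap Λ _ l)) = g (ι (algebraMap Λ _ l))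
        rw [hιc, AlgHom.commutes, AlgHom.commutes]) h
    have h1 := hf _ hq
    have h2 := hg _ hq
    rw [map_sub, sub_eq_zero] at h1 h2
    rw [h1, h2]
    exact RingHom.congr_fun e q
  have hfs : CAlgX.IsAdicFormallySmooth Λ C (IsLocalRing.maximalIdeal C) := by
    intro B _ _ J hJ ψ hψ
    obtain ⟨n, hn⟩ := hψ
    choose a ha using fun i => Ideal.Quotient.mk_surjective (ψ (ι (MvPolynomial.X i)))
    let χ₀ : MvPolynomial σ Λ →ₐ[Λ] B := MvPolynomial.aeval a
    have hcompat : ∀ q, Ideal.Quotient.mk J (χ₀ q) = ψ (ι q) := by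
      have e : ((Ideal.Quotient.mk J).comp χ₀.toRingHom) = ψ.toRingHom.comp ι :=
        MvPolynomial.ringHom_ext (fun l => by
          change Ideal.Quotient.mk J (χ₀ (algebraMap Λ _ l)) = ψ (ι (algebraMap Λ _ l))
          rw [hιc, AlgHom.commutes, AlgHom.commutes]
          rfl) fun i => by
          change Ideal.Quotient.mk J (MvPolynomial.aeval a (MvPolynomial.X i)) = ψ (ι (MvPolynomial.X i))
          rw [MvPolynomial.aeval_X]
          exact ha i
      exact fun q => RingHom.congr_fun e q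
    have hMn : (M ^ n).map χ₀ ≤ J := Ideal.map_le_iff_le_comap.2 fun q hq => by
      refine Ideal.mem_comap.2 (Ideal.Quotient.eq_zero_iff_mem.1 ((hcompat q).trans (hn _ ?_)))
      rw [hmI, ← Ideal.map_pow]
      exact Ideal.mem_map_of_mem ι hq
    obtain ⟨χ, hχ⟩ := hlift B χ₀ (2 * n) fun q hq => by
      have h : χ₀ q ∈ (M ^ (2 * n)).map χ₀ := Ideal.mem_map_of_mem _ hq
      rw [mul_comm, pow_mul, Ideal.map_pow] at h
      exact (Ideal.mem_bot).1 (hJ.le (Ideal.pow_right_mono hMn 2 h))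
    have hkill : I ^ (2 * n) ≤ RingHom.ker χ := by
      rw [← Ideal.map_pow]
      refine Ideal.map_le_iff_le_comap.2 fun q hq => RingHom.mem_ker.2 ((hχ q).trans ?_)
      have h : χ₀ q ∈ (M ^ (2 * n)).map χ₀ := Ideal.mem_map_of_mem _ hq
      rw [mul_comm, pow_mul, Ideal.map_pow] at h
      exact (Ideal.mem_bot).1 (hJ.le (Ideal.pow_right_mono hMn 2 h))
    refine ⟨χ, hagree _ _ _ (2 * n) (fun z hz => ?_)
      (fun z hz => hn z (Ideal.pow_le_pow_right (by omega) (hmI.symm ▸ hz))) fun i => ?_⟩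
    · rw [AlgHom.comp_apply, show χ z = 0 from hkill hz, map_zero]
    · rw [AlgHom.comp_apply, hχ]
      exact hcompat _
  refine ⟨P, fun i => ι (MvPolynomial.X i), hresx, fun A a ha => ?_, hfs⟩
  let ψ : MvPolynomial σ Λ →ₐ[Λ] A := MvPolynomial.aeval a
  have hψ : A.res.comp ψ = MvPolynomial.aeval c := MvPolynomial.algHom_ext fun i => by simp [ψ, ha]
  obtain ⟨N, hN⟩ := isNilpotent_𝔪 A
  have hMN : M ^ N ≤ RingHom.ker ψ := by
    refine (Ideal.map_eq_bot_iff_le_ker ψ).1 (le_bot_iff.1 ?_)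
    rw [Ideal.map_pow]
    have hle : M.map ψ ≤ 𝔪 A := Ideal.map_le_iff_le_comap.2 fun q hq => by
      rw [Ideal.mem_comap, mem_maximalIdeal_iff]
      exact (AlgHom.congr_fun hψ q).trans hq
    exact (Ideal.pow_right_mono hle N).trans hN.le
  obtain ⟨Ψ, hΨ⟩ := hlift A ψ N hMN
  have hΨres : A.res.comp Ψ = P.res := by
    refine hagree k _ _ 1 (fun z hz => ?_) (fun z hz => ?_) fun i => ?_
    · rw [pow_one] at hz
      refine Submodule.span_induction (p := fun z _ => A.res.comp Ψ z = 0) ?_ (map_zero _)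
        (fun x y _ _ hx hy => by rw [map_add, hx, hy, add_zero])
        (fun r x _ hx => by rw [smul_eq_mul, map_mul, hx, mul_zero]) hz
      rintro _ ⟨q, hq, rfl⟩
      rw [AlgHom.comp_apply, hΨ]
      exact (AlgHom.congr_fun hψ q).trans hq
    · rw [pow_one, ← hmI] at hz
      exact (P.mem_maximalIdeal_iff z).1 hz
    · rw [AlgHom.comp_apply, hΨ, hresx]
      exact (AlgHom.congr_fun hψ _).trans (MvPolynomial.aeval_X c i)
  refine ⟨⟨Ψ, hΨres⟩, fun i => (hΨ _).trans (MvPolynomial.aeval_X a i), fun φ hφ => ?_⟩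
  have hkill : ∀ (χ : HomSet P.carrier P.res A), ∀ z ∈ I ^ N, χ.1 z = 0 := fun χ z hz => by
    have hle : I.map χ.1 ≤ 𝔪 A := Ideal.map_le_iff_le_comap.2 fun y hy => by
      rw [← hmI] at hy
      exact homSet_mem_max χ hy
    have h : χ.1 z ∈ (I ^ N).map χ.1 := Ideal.mem_map_of_mem _ hz
    rw [Ideal.map_pow] at h
    have h' := Ideal.pow_right_mono hle N h
    rwa [hN, Ideal.zero_eq_bot, Ideal.mem_bot] at h'
  exact Subtype.ext (hagree A _ _ N (hkill φ) (hkill ⟨Ψ, hΨres⟩) fun i =>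
    (hφ i).trans ((hΨ _).trans (MvPolynomial.aeval_X a i)).symm)

theorem exists_polyRing {σ : Type} [Finite σ] (c : σ → k)
    (hc : Function.Surjective (MvPolynomial.aeval (R := Λ) c)) :
    ∃ (P : CRing Λ k) (x : σ → P.carrier), (∀ i, P.res (x i) = c i) ∧
      ∀ (A : Art Λ k) (a : σ → A), (∀ i, A.res (a i) = c i) →
        ∃! φ : HomSet P.carrier P.res A, ∀ i, φ.1 (x i) = a i := by
  obtain ⟨P, x, h1, h2, -⟩ := exists_polyRing' c hc
  exact ⟨P, x, h1, h2⟩

omit [IsNoetherianRing Λ] in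
theorem isSmoothFunctor_of_polyRing {σ : Type} {c : σ → k} {P : CRing Λ k} {x : σ → P.carrier}
    (hx : ∀ i, P.res (x i) = c i)
    (h : ∀ (A : Art Λ k) (a : σ → A), (∀ i, A.res (a i) = c i) →
      ∃! φ : HomSet P.carrier P.res A, ∀ i, φ.1 (x i) = a i) :
    IsSmoothFunctor (hR P.carrier P.res) := by
  intro B A μ hμ (φ : HomSet P.carrier P.res A)
  choose b hb using fun i => hμ (φ.1 (x i))
  have hbc : ∀ i, B.res (b i) = c i := fun i => by rw [← res_app μ, hb, homSet_res, hx]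
  obtain ⟨ψ, hψ, -⟩ := h B b hbc
  obtain ⟨χ, -, huniq⟩ := h A (fun i => φ.1 (x i)) fun i => (homSet_res φ _).trans (hx i)
  exact ⟨ψ, (huniq (HomSet.map μ ψ) fun i => (congrArg μ (hψ i)).trans (hb i)).trans
    (huniq φ fun i => rfl).symm⟩

omit [IsNoetherianRing Λ] in
/-- Finitely many generators of the residue field. -/
theorem exists_generators [Module.Finite Λ k] :
    ∃ (n : ℕ) (c : Fin n → k), Function.Surjective (MvPolynomial.aeval (R := Λ) c) := by
  obtain ⟨n, s, hs⟩ := Module.Finite.exists_fin (R := Λ) (M := k)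
  refine ⟨n, s, fun y => ?_⟩
  obtain ⟨a, rfl⟩ := (Submodule.mem_span_range_iff_exists_fun Λ).1 (hs ▸ Submodule.mem_top (x := y))
  exact ⟨∑ i, MvPolynomial.C (a i) * MvPolynomial.X i, by simp [Algebra.smul_def]⟩

end Groth.Agent.ArtFunLib
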