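import Groth.Agent.Lib.ArtFun.Action
import Mathlib.CategoryTheory.Limits.Types.Pullbacks
import Mathlib.CategoryTheory.Limits.FunctorCategory.Basic
import Mathlib.CategoryTheory.Limits.Shapes.Pullback.IsPullback.Basic

/-!
Fibre products of functors of Artin rings.
-/

set_option autoImplicit false

universe u v w

open CategoryTheory CategoryTheory.Limits

namespace Groth.Agent.ArtFunLib

open ArtFun ArtFun.Art

variable {Λ k : Type u} [CommRing Λ] [Field k] [Algebra Λ k] {F G H : Art Λ k ⥤ Type v} (f : H ⟶ F) (g : G ⟶ F)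

theorem pullback_point (A : Art Λ k) :
    Function.Injective (fun z : (pullback f g).obj A =>
      ((pullback.fst f g).app A z, (pullback.snd f g).app A z)) ∧
    ∀ (x : H.obj A) (y : G.obj A), f.app A x = g.app A y →
      ∃ z : (pullback f g).obj A, (pullback.fst f g).app A z = x ∧ (pullback.snd f g).app A z = y := by
  have hp : IsPullback ((pullback.fst f g).app A) ((pullback.snd f g).app A) (f.app A) (g.app A) :=
    ((evaluation _ _).obj A).map_isPullback (IsPullback.of_hasPullback f g)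
  refine ⟨fun z z' e => ?_, fun x y e => ?_⟩
  · exact Types.ext_of_isPullback hp (congrArg Prod.fst e) (congrArg Prod.snd e)
  · exact Types.exists_of_isPullback hp x y e

theorem pullback_ext {A : Art Λ k} {z z' : (pullback f g).obj A}
    (h1 : (pullback.fst f g).app A z = (pullback.fst f g).app A z')
    (h2 : (pullback.snd f g).app A z = (pullback.snd f g).app A z') : z = z' :=
  (pullback_point f g A).1 (Prod.ext h1 h2)

theorem pullback_cond (A : Art Λ k) (z : (pullback f g).obj A) :
    f.app A ((pullback.fst f g).app A z) = g.app A ((pullback.snd f g).app A z) :=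
  congrArg (fun t : pullback f g ⟶ F => t.app A z) pullback.condition

theorem rs_pullback (hF : RS F) (hG : RS G) (hH : RS H) : RS (pullback f g) := by
  intro B A A' A'' p' p'' f' f'' h hf
  refine ⟨(cmp_injective_iff _ h).2 fun z z' e1 e2 => pullback_ext f g ?_ ?_,
    (cmp_surjective_iff _ h).2 fun a b e => ?_⟩
  · refine (cmp_injective_iff H h).1 (hH _ _ _ _ h hf).1 _ _ ?_ ?_
    · rw [← NatTrans.naturality_apply, ← NatTrans.naturality_apply, e1]
    · rw [← NatTrans.naturality_apply, ← NatTrans.naturality_apply, e2]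
  · refine (cmp_injective_iff G h).1 (hG _ _ _ _ h hf).1 _ _ ?_ ?_
    · rw [← NatTrans.naturality_apply, ← NatTrans.naturality_apply, e1]
    · rw [← NatTrans.naturality_apply, ← NatTrans.naturality_apply, e2]
  · obtain ⟨x, hx1, hx2⟩ := (cmp_surjective_iff H h).1 (hH _ _ _ _ h hf).2
      ((pullback.fst f g).app A' a) ((pullback.fst f g).app A'' b)
      (by rw [← NatTrans.naturality_apply, ← NatTrans.naturality_apply, e])
    obtain ⟨y, hy1, hy2⟩ := (cmp_surjective_iff G h).1 (hG _ _ _ _ h hf).2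
      ((pullback.snd f g).app A' a) ((pullback.snd f g).app A'' b)
      (by rw [← NatTrans.naturality_apply, ← NatTrans.naturality_apply, e])
    have exy : f.app B x = g.app B y := (cmp_injective_iff F h).1 (hF _ _ _ _ h hf).1 _ _
      (by rw [← NatTrans.naturality_apply, ← NatTrans.naturality_apply, hx1, hy1, pullback_cond])
      (by rw [← NatTrans.naturality_apply, ← NatTrans.naturality_apply, hx2, hy2, pullback_cond])
    obtain ⟨z, hz1, hz2⟩ := (pullback_point f g B).2 x y exy
    refine ⟨z, pullback_ext f g ?_ ?_, pullback_ext f g ?_ ?_⟩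
    · rw [NatTrans.naturality_apply, hz1, hx1]
    · rw [NatTrans.naturality_apply, hz2, hy1]
    · rw [NatTrans.naturality_apply, hz1, hx2]
    · rw [NatTrans.naturality_apply, hz2, hy2]

theorem lifts_pullback_snd (hf : ∀ ⦃B A : Art Λ k⦄ (μ : B ⟶ A), Function.Surjective μ →
      Lifts (fun A z => f.app A z) μ) ⦃B A : Art Λ k⦄ (μ : B ⟶ A) (hμ : Function.Surjective μ) :
    Lifts (fun A z => (pullback.snd f g).app A z) μ := fun x y e => by
  obtain ⟨z, hz1, hz2⟩ := hf μ hμ ((pullback.fst f g).app A x) (g.app B y)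
    (by rw [← NatTrans.naturality_apply, e]; exact (pullback_cond f g A x).symm)
  obtain ⟨w, hw1, hw2⟩ := (pullback_point f g B).2 z y hz2
  exact ⟨w, pullback_ext f g
    (by rw [NatTrans.naturality_apply, hw1, hz1]) (by rw [NatTrans.naturality_apply, hw2, e]), hw2⟩

theorem lifts_pullback_map {H₁ H₂ : Art Λ k ⥤ Type v} (p₁ : H₁ ⟶ G) (p₂ : H₂ ⟶ G) (q : G ⟶ F)
    (hG0 : H0 G) (hG1 : Hbar G) (hG2 : Heps G) (hF4 : HSq F)
    (hq : Function.Injective (q.app (dual Λ k))) :
    IsSmooth (pullback.map p₁ p₂ (p₁ ≫ q) (p₂ ≫ q) (𝟙 H₁) (𝟙 H₂) q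
      (Category.id_comp _).symm (Category.id_comp _).symm) := by
  have hinj := injective_of_tangent (fun A z => q.app A z) (natural_app q) hG0 hG1 hG2 hF4 hq
  refine (isSmooth_iff_lifts _).2 fun B A μ hμ x y e => ?_
  have ec : q.app B (p₁.app B ((pullback.fst (p₁ ≫ q) (p₂ ≫ q)).app B y)) =
      q.app B (p₂.app B ((pullback.snd (p₁ ≫ q) (p₂ ≫ q)).app B y)) :=
    pullback_cond _ _ B y
  obtain ⟨z, hz1, hz2⟩ := (pullback_point p₁ p₂ B).2 _ _ (hinj B ec)
  have m1 : ∀ (A : Art Λ k) (z : (pullback p₁ p₂).obj A),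
      (pullback.fst (p₁ ≫ q) (p₂ ≫ q)).app A ((pullback.map p₁ p₂ (p₁ ≫ q) (p₂ ≫ q) (𝟙 H₁) (𝟙 H₂) q
        (Category.id_comp _).symm (Category.id_comp _).symm).app A z) = (pullback.fst p₁ p₂).app A z :=
    fun A z => congrArg (fun t : pullback p₁ p₂ ⟶ H₁ => t.app A z) ((pullback.lift_fst _ _ _).trans (Category.comp_id _))
  have m2 : ∀ (A : Art Λ k) (z : (pullback p₁ p₂).obj A),
      (pullback.snd (p₁ ≫ q) (p₂ ≫ q)).app A ((pullback.map p₁ p₂ (p₁ ≫ q) (p₂ ≫ q) (𝟙 H₁) (𝟙 H₂) q
        (Category.id_comp _).symm (Category.id_comp _).symm).app A z) = (pullback.snd p₁ p₂).app A z :=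
    fun A z => congrArg (fun t : pullback p₁ p₂ ⟶ H₂ => t.app A z) ((pullback.lift_snd _ _ _).trans (Category.comp_id _))
  refine ⟨z, pullback_ext p₁ p₂ ?_ ?_,
    (pullback_point _ _ B).1 (Prod.ext ((m1 B z).trans hz1) ((m2 B z).trans hz2))⟩
  · rw [NatTrans.naturality_apply, hz1, ← m1, ← NatTrans.naturality_apply, e]
  · rw [NatTrans.naturality_apply, hz2, ← m2, ← NatTrans.naturality_apply, e]

end Groth.Agent.ArtFunLib
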