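import Groth.Agent.Lib.ArtFun.Hull
import Groth.Agent.Lib.ArtFun.Coef

/-!
Pushouts of coefficient rings, by Schlessinger's theorem.
-/

set_option autoImplicit false

universe u v w

open CategoryTheory

namespace Groth.Agent.ArtFunLib

open ArtFun ArtFun.Art

variable {Λ k : Type u} [CommRing Λ] [Field k] [Algebra Λ k]
variable {R : Type u} [CommRing R] [Algebra Λ R] {S₁ S₂ : CRing Λ k}
  (f₁ : R →ₐ[Λ] S₁.carrier) (f₂ : R →ₐ[Λ] S₂.carrier)

/-- Compatible pairs of points. -/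
def pairFunctor : Art Λ k ⥤ Type u where
  obj A := {p : HomSet S₁.carrier S₁.res A × HomSet S₂.carrier S₂.res A // p.1.1.comp f₁ = p.2.1.comp f₂}
  map g := TypeCat.ofHom fun p => ⟨(HomSet.map g p.1.1, HomSet.map g p.1.2), by
    change (g.toAlgHom.comp p.1.1.1).comp f₁ = (g.toAlgHom.comp p.1.2.1).comp f₂
    rw [AlgHom.comp_assoc, p.2, ← AlgHom.comp_assoc]⟩
  map_id A := rfl
  map_comp f g := rfl

theorem pair_ext {A : Art Λ k} {x y : (pairFunctor f₁ f₂).obj A} (h1 : x.1.1 = y.1.1) (h2 : x.1.2 = y.1.2) :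
    x = y :=
  Subtype.ext (Prod.ext h1 h2)

theorem rs_pairFunctor : RS (pairFunctor f₁ f₂) := by
  intro B A A' A'' p' p'' f' f'' h _
  refine ⟨(cmp_injective_iff _ h).2 fun x y e1 e2 => ?_, (cmp_surjective_iff _ h).2 fun a b e => ?_⟩
  · exact pair_ext f₁ f₂
      ((cmp_injective_iff _ h).1 (isLeftExact_hR S₁.res _ _ _ _ h).1 _ _
        (congrArg (fun p => p.1.1) e1) (congrArg (fun p => p.1.1) e2))
      ((cmp_injective_iff _ h).1 (isLeftExact_hR S₂.res _ _ _ _ h).1 _ _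
        (congrArg (fun p => p.1.2) e1) (congrArg (fun p => p.1.2) e2))
  · obtain ⟨z₁, ha1, hb1⟩ := (cmp_surjective_iff _ h).1 (isLeftExact_hR S₁.res _ _ _ _ h).2 a.1.1 b.1.1
      (congrArg (fun p => p.1.1) e)
    obtain ⟨z₂, ha2, hb2⟩ := (cmp_surjective_iff _ h).1 (isLeftExact_hR S₂.res _ _ _ _ h).2 a.1.2 b.1.2
      (congrArg (fun p => p.1.2) e)
    refine ⟨⟨(z₁, z₂), AlgHom.ext fun r => h.inj _ _ ?_ ?_⟩, pair_ext f₁ f₂ ha1 ha2, pair_ext f₁ f₂ hb1 hb2⟩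
    · exact (congrArg (fun χ : HomSet S₁.carrier S₁.res A' => χ.1 (f₁ r)) ha1).trans
        ((AlgHom.congr_fun a.2 r).trans
          (congrArg (fun χ : HomSet S₂.carrier S₂.res A' => χ.1 (f₂ r)) ha2).symm)
    · exact (congrArg (fun χ : HomSet S₁.carrier S₁.res A'' => χ.1 (f₁ r)) hb1).trans
        ((AlgHom.congr_fun b.2 r).trans
          (congrArg (fun χ : HomSet S₂.carrier S₂.res A'' => χ.1 (f₂ r)) hb2).symm)

theorem h0_pairFunctor (hf : S₁.res.comp f₁ = S₂.res.comp f₂) : H0 (pairFunctor f₁ f₂) :=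
  ⟨⟨⟨(⟨S₁.res, AlgHom.id_comp _⟩, ⟨S₂.res, AlgHom.id_comp _⟩), hf⟩⟩,
    ⟨fun x y => pair_ext f₁ f₂ (subsingleton_base (h0_hR S₁.res) x.1.1 y.1.1)
      (subsingleton_base (h0_hR S₂.res) x.1.2 y.1.2)⟩⟩

theorem hfin_pairFunctor [Module.Finite Λ k] (hf : S₁.res.comp f₁ = S₂.res.comp f₂)
    [TangentStr (pairFunctor f₁ f₂)] : Hfin (pairFunctor f₁ f₂) := by
  obtain ⟨T₁⟩ := nonempty_tangentStr (F := hR S₁.carrier S₁.res) (h0_hR S₁.res) (rs_hR S₁.res).heps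
  obtain ⟨T₂⟩ := nonempty_tangentStr (F := hR S₂.carrier S₂.res) (h0_hR S₂.res) (rs_hR S₂.res).heps
  have : Module.Finite k (TangentSpace (hR S₁.carrier S₁.res)) := hfin_hR S₁
  have : Module.Finite k (TangentSpace (hR S₂.carrier S₂.res)) := hfin_hR S₂
  have h2 := (rs_pairFunctor f₁ f₂).heps
  let L := (dLin (F := pairFunctor f₁ f₂) (G := hR S₁.carrier S₁.res) (fun A p => p.1.1) (fun _ _ => rfl)
      (h0_pairFunctor f₁ f₂ hf) h2).prod
    (dLin (F := pairFunctor f₁ f₂) (G := hR S₂.carrier S₂.res) (fun A p => p.1.2) (fun _ _ => rfl)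
      (h0_pairFunctor f₁ f₂ hf) h2)
  exact Module.Finite.of_injective L fun x y h =>
    pair_ext f₁ f₂ (congrArg Prod.fst h) (congrArg Prod.snd h)

theorem exists_pushout [IsNoetherianRing Λ] [Module.Finite Λ k] (hf : S₁.res.comp f₁ = S₂.res.comp f₂) :
    ∃ (P : CRing Λ k) (i₁ : S₁.carrier →ₐ[Λ] P.carrier) (i₂ : S₂.carrier →ₐ[Λ] P.carrier),
      P.res.comp i₁ = S₁.res ∧ P.res.comp i₂ = S₂.res ∧ i₁.comp f₁ = i₂.comp f₂ ∧
      ∀ (T : CRing Λ k) (g₁ : S₁.carrier →ₐ[Λ] T.carrier) (g₂ : S₂.carrier →ₐ[Λ] T.carrier),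
        T.res.comp g₁ = S₁.res → T.res.comp g₂ = S₂.res → g₁.comp f₁ = g₂.comp f₂ →
          ∃! h : P.carrier →ₐ[Λ] T.carrier, T.res.comp h = P.res ∧ h.comp i₁ = g₁ ∧ h.comp i₂ = g₂ := by
  have h0 := h0_pairFunctor f₁ f₂ hf
  have hrs := rs_pairFunctor f₁ f₂
  obtain ⟨T⟩ := nonempty_tangentStr h0 hrs.heps
  have hc : ∀ (x₀ : (pairFunctor f₁ f₂).obj (base Λ k)) (σ : base Λ k ⟶ dual Λ k),
      (pairFunctor f₁ f₂).map σ x₀ = (pairFunctor f₁ f₂).map baseToDual x₀ → σ = baseToDual := fun x₀ σ h =>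
    hom_ext' fun (a : k) => by
      obtain ⟨r, hr⟩ := S₁.res_surjective a
      have e : x₀.1.1.1 r = a := (AlgHom.congr_fun x₀.1.1.2 r).trans hr
      rw [← e]
      exact congrArg (fun p => p.1.1.1 r) h
  obtain ⟨V⟩ := hasVersal_of _ h0 hrs.s1 hrs.heps (hfin_pairFunctor f₁ f₂ hf)
  obtain ⟨⟨P, ξ, hξm⟩⟩ := hasHull_of_versal h0 hrs.heps hc V
  have hξ := isUniversal_of_miniversal hξm h0 hrs.hsq
  obtain ⟨i₁, hi₁, hn₁⟩ := exists_of_compat (fun n => (ξ.app _ (P.truncHom n)).1.1) fun n => by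
    have h := congrArg (fun p => p.1.1) (ξ.toFormalElt.compat n)
    exact h
  obtain ⟨i₂, hi₂, hn₂⟩ := exists_of_compat (fun n => (ξ.app _ (P.truncHom n)).1.2) fun n => by
    have h := congrArg (fun p => p.1.2) (ξ.toFormalElt.compat n)
    exact h
  have hcomm : i₁.comp f₁ = i₂.comp f₂ := truncPoint_ext fun n => AlgHom.ext fun r =>
    (congrArg (fun χ : HomSet S₁.carrier S₁.res (P.trunc n) => χ.1 (f₁ r)) (hn₁ n)).trans
      ((AlgHom.congr_fun (ξ.app _ (P.truncHom n)).2 r).trans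
        (congrArg (fun χ : HomSet S₂.carrier S₂.res (P.trunc n) => χ.1 (f₂ r)) (hn₂ n)).symm)
  let ζ : Family P.carrier P.res (pairFunctor f₁ f₂) :=
    { app := fun A φ => ⟨(⟨φ.1.comp i₁, by rw [← AlgHom.comp_assoc, φ.2, hi₁]⟩,
        ⟨φ.1.comp i₂, by rw [← AlgHom.comp_assoc, φ.2, hi₂]⟩),
          show (φ.1.comp i₁).comp f₁ = (φ.1.comp i₂).comp f₂ by
            rw [AlgHom.comp_assoc, hcomm, AlgHom.comp_assoc]⟩
      natural := fun g φ => rfl }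
  obtain rfl : ξ = ζ := family_ext (FormalElt.ext' fun n => pair_ext f₁ f₂ (hn₁ n).symm (hn₂ n).symm)
  refine ⟨P, i₁, i₂, hi₁, hi₂, hcomm, fun T g₁ g₂ hg₁ hg₂ hg => ?_⟩
  let q : ∀ n, (pairFunctor f₁ f₂).obj (T.trunc n) := fun n =>
    ⟨(truncPoint g₁ hg₁ n, truncPoint g₂ hg₂ n),
      show ((T.truncHom n).1.comp g₁).comp f₁ = ((T.truncHom n).1.comp g₂).comp f₂ by
        rw [AlgHom.comp_assoc, hg, AlgHom.comp_assoc]⟩
  choose φ hφ using fun n => (hξ _).2 (q n)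
  obtain ⟨h, hh, hhn⟩ := exists_of_compat φ fun n => (hξ _).1 (by
    rw [Family.natural]
    change (pairFunctor f₁ f₂).map _ (_ : (pairFunctor f₁ f₂).obj _) = _
    rw [hφ, hφ]
    rfl)
  have key : ∀ (h' : P.carrier →ₐ[Λ] T.carrier) (hh' : T.res.comp h' = P.res),
      (h'.comp i₁ = g₁ ∧ h'.comp i₂ = g₂) ↔ ∀ n, truncPoint h' hh' n = φ n := by
    intro h' hh'
    constructor
    · rintro ⟨e1, e2⟩ n
      refine (hξ _).1 ((pair_ext f₁ f₂ (homSet_ext fun s => ?_) (homSet_ext fun s => ?_)).trans (hφ n).symm)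
      · exact congrArg (T.truncHom n).1 (AlgHom.congr_fun e1 s)
      · exact congrArg (T.truncHom n).1 (AlgHom.congr_fun e2 s)
    · intro e
      refine ⟨truncPoint_ext fun n => AlgHom.ext fun s => ?_, truncPoint_ext fun n => AlgHom.ext fun s => ?_⟩
      · exact (congrArg (fun χ : HomSet P.carrier P.res (T.trunc n) => χ.1 (i₁ s)) (e n)).trans
          (congrArg (fun p => p.1.1.1 s) (hφ n))
      · exact (congrArg (fun χ : HomSet P.carrier P.res (T.trunc n) => χ.1 (i₂ s)) (e n)).trans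
          (congrArg (fun p => p.1.2.1 s) (hφ n))
  refine ⟨h, ⟨hh, (key h hh).2 hhn⟩, ?_⟩
  rintro h' ⟨hh', e'⟩
  refine truncPoint_ext fun n => AlgHom.ext fun s => ?_
  exact congrArg (fun χ : HomSet P.carrier P.res (T.trunc n) => χ.1 s)
    (((key h' hh').1 e' n).trans (hhn n).symm)

end Groth.Agent.ArtFunLib
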