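import Groth.Agent.Lib.ArtFun.Coef

/-!
Smooth coefficient rings.
-/

set_option autoImplicit false

universe u v w

open CategoryTheory

namespace Groth.Agent.ArtFunLib

open ArtFun ArtFun.Art

variable {Λ k : Type u} [CommRing Λ] [Field k] [Algebra Λ k]

/-- The terminal functor. -/
def pointFunctor (Λ k : Type u) [CommRing Λ] [Field k] [Algebra Λ k] : Art Λ k ⥤ Type u :=
  (Functor.const _).obj PUnit

theorem rs_pointFunctor : RS (pointFunctor Λ k) := by
  intro B A A' A'' p' p'' f' f'' h _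
  refine ⟨fun x y _ => ?_, fun x => ⟨PUnit.unit, FibProd.ext ?_ ?_⟩⟩ <;> rfl

/-- The family into the terminal functor. -/
def pointFamily (R : Type u) [CommRing R] [Algebra Λ R] (resR : R →ₐ[Λ] k) :
    Family R resR (pointFunctor Λ k) where
  app _ _ := PUnit.unit
  natural _ _ := rfl

theorem isVersal_pointFamily {R : Type u} [CommRing R] [Algebra Λ R] {resR : R →ₐ[Λ] k}
    (h : IsSmoothFunctor (hR R resR)) : IsVersal (pointFamily R resR) := fun B A μ hμ φ y _ => by
  obtain ⟨ψ, hψ⟩ := h μ hμ φ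
  exact ⟨ψ, hψ, rfl⟩

/-- Maps out of a smooth ring lift along surjections. -/
theorem exists_lift_of_smooth {R : Type u} [CommRing R] [Algebra Λ R] {resR : R →ₐ[Λ] k}
    (h : IsSmoothFunctor (hR R resR)) {A' A : CRing Λ k}
    (g : A'.carrier →ₐ[Λ] A.carrier) (hg : A.res.comp g = A'.res) (hgs : Function.Surjective g)
    (φ : R →ₐ[Λ] A.carrier) (hφ : A.res.comp φ = resR) :
    ∃ (ψ : R →ₐ[Λ] A'.carrier), A'.res.comp ψ = resR ∧ g.comp ψ = φ := by
  obtain ⟨ψ, hψ, h1, -⟩ := exists_lift_along (F := pointFunctor Λ k) rs_pointFunctor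
    (isVersal_pointFamily h) g hg hgs ⟨fun _ => PUnit.unit, fun _ => rfl⟩ φ hφ (fun _ => rfl)
  exact ⟨ψ, hψ, h1⟩

theorem isAdicFormallySmooth_retract {P R : CRing Λ k} (π : P.carrier →ₐ[Λ] R.carrier)
    (hπ : R.res.comp π = P.res) (s : R.carrier →ₐ[Λ] P.carrier) (hs : P.res.comp s = R.res)
    (hπs : π.comp s = AlgHom.id Λ R.carrier)
    (h : CAlgX.IsAdicFormallySmooth Λ P.carrier (IsLocalRing.maximalIdeal P.carrier)) :
    CAlgX.IsAdicFormallySmooth Λ R.carrier (IsLocalRing.maximalIdeal R.carrier) := by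
  intro B _ _ J hJ ψ hψ
  obtain ⟨n, hn⟩ := hψ
  obtain ⟨χ, hχ⟩ := h B J hJ (ψ.comp π) ⟨n, fun z hz => hn _ (by
    have h := Ideal.mem_map_of_mem π hz
    rw [Ideal.map_pow] at h
    exact Ideal.pow_right_mono (Ideal.map_le_iff_le_comap.2 (CRing.maximalIdeal_le_comap π hπ)) n h)⟩
  exact ⟨χ.comp s, by rw [← AlgHom.comp_assoc, hχ, AlgHom.comp_assoc, hπs, AlgHom.comp_id]⟩

theorem isSmoothFunctor_of_isAdicFormallySmooth {R : CRing Λ k}
    (h : CAlgX.IsAdicFormallySmooth Λ R.carrier (IsLocalRing.maximalIdeal R.carrier)) :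
    IsSmoothFunctor (hR R.carrier R.res) := by
  intro B A μ hμ
  refine surjInduction (P := fun A B μ => Function.Surjective ((hR R.carrier R.res).map μ))
    (fun A B e he => (map_bijective (hR R.carrier R.res) e).2) (fun A B p hp φ => ?_)
    (fun A B C p q _ _ h1 h2 x => ?_) μ hμ
  · let J := RingHom.ker p.toAlgHom
    have hJ : J ^ 2 = ⊥ := by
      rw [pow_two, ← le_bot_iff]
      exact (Ideal.mul_mono_left (ker_le p)).trans hp.2.2.2.le
    let e := Ideal.quotientKerAlgEquivOfSurjective (f := p.toAlgHom) hp.1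
    let φ' : HomSet R.carrier R.res A := φ
    obtain ⟨χ, hχ⟩ := h B J hJ (e.symm.toAlgHom.comp φ'.1) (by
      obtain ⟨n, hn⟩ := exists_mpow_le_ker φ'
      exact ⟨n + 1, fun x hx => by
        rw [AlgHom.comp_apply, show φ'.1 x = 0 from hn hx, map_zero]⟩)
    have hp' : ∀ x, p (χ x) = φ'.1 x := fun x => by
      have e1 := congrArg e (AlgHom.congr_fun hχ x)
      exact e1.trans (e.apply_symm_apply _)
    exact ⟨⟨χ, AlgHom.ext fun x => ((res_app p _).symm.trans (congrArg A.res (hp' x))).trans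
      (homSet_res φ' x)⟩, homSet_ext hp'⟩
  · obtain ⟨y, rfl⟩ := h2 x
    obtain ⟨z, rfl⟩ := h1 y
    exact ⟨z, map_comp' _ p q z⟩

variable [IsNoetherianRing Λ] [Module.Finite Λ k]

/-- Every coefficient ring is a quotient of a formally smooth one. -/
theorem exists_polyCover (R : CRing Λ k) :
    ∃ (P : CRing Λ k) (π : P.carrier →ₐ[Λ] R.carrier), R.res.comp π = P.res ∧ Function.Surjective π ∧
      IsSmoothFunctor (hR P.carrier P.res) ∧
      CAlgX.IsAdicFormallySmooth Λ P.carrier (IsLocalRing.maximalIdeal P.carrier) := by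
  obtain ⟨m, c, hc⟩ := exists_generators (Λ := Λ) (k := k)
  obtain ⟨l, w, hw⟩ := Submodule.fg_iff_exists_fin_generating_family.1
    (IsNoetherian.noetherian (IsLocalRing.maximalIdeal R.carrier))
  have hwm : ∀ j, w j ∈ IsLocalRing.maximalIdeal R.carrier := fun j =>
    hw ▸ Submodule.subset_span (Set.mem_range_self j)
  choose r hr using fun i => R.res_surjective (c i)
  let c' : Fin m ⊕ Fin l → k := Sum.elim c 0
  have hc' : Function.Surjective (MvPolynomial.aeval (R := Λ) c') := fun y => by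
    obtain ⟨f, rfl⟩ := hc y
    refine ⟨MvPolynomial.rename Sum.inl f, ?_⟩
    rw [MvPolynomial.aeval_rename]
    rfl
  obtain ⟨P, x, hx, huniv, hfs⟩ := exists_polyRing' c' hc'
  let b : Fin m ⊕ Fin l → R.carrier := Sum.elim r w
  have hb : ∀ i, R.res (b i) = c' i := by
    rintro (i | j)
    · exact hr i
    · exact (R.mem_maximalIdeal_iff _).1 (hwm j)
  choose φ hφ hφu using fun n => huniv (R.trunc n) (fun i => (R.truncHom n).1 (b i))
    fun i => (homSet_res (R.truncHom n) _).trans (hb i)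
  obtain ⟨π, hπ, hπn⟩ := exists_of_compat φ fun n => hφu n _ fun i => by
    change R.truncMap n ((φ (n + 1)).1 (x i)) = _
    rw [hφ (n + 1) i]
    rfl
  have hxb : ∀ i, π (x i) = b i := fun i => sub_eq_zero.1
    (IsHausdorff.haus' (I := IsLocalRing.maximalIdeal R.carrier) _ fun n => by
      rw [SModEq.zero, smul_eq_mul, Ideal.mul_top]
      refine Ideal.pow_le_pow_right (Nat.le_succ n) (Ideal.Quotient.eq.1 ?_)
      exact (congrArg (fun χ : HomSet P.carrier P.res (R.trunc n) => χ.1 (x i)) (hπn n)).trans (hφ n i))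
  refine ⟨P, π, hπ, ?_, isSmoothFunctor_of_polyRing hx huniv, hfs⟩
  refine surjective_of_cotangent (IsLocalRing.maximalIdeal P.carrier) (IsLocalRing.maximalIdeal R.carrier)
    (π : P.carrier →+* R.carrier) (Ideal.map_le_iff_le_comap.2 (CRing.maximalIdeal_le_comap π hπ))
    (fun s => ?_) (le_sup_of_le_left ?_)
  · obtain ⟨p, hp⟩ := P.res_surjective (R.res s)
    refine ⟨p, (R.mem_maximalIdeal_iff _).2 ?_⟩
    rw [map_sub, sub_eq_zero, ← hp]
    exact (CRing.res_comp_apply π hπ p).symm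
  · conv_lhs => rw [← hw]
    refine Submodule.span_le.2 (Set.range_subset_iff.2 fun j => ?_)
    have hxm : x (Sum.inr j) ∈ IsLocalRing.maximalIdeal P.carrier :=
      (P.mem_maximalIdeal_iff _).2 (hx _)
    have h := Ideal.mem_map_of_mem (π : P.carrier →+* R.carrier) hxm
    rwa [show (π : P.carrier →+* R.carrier) (x (Sum.inr j)) = w j from hxb _] at h

theorem isSmoothFunctor_hR_iff (R : CRing Λ k) :
    IsSmoothFunctor (hR R.carrier R.res) ↔
      CAlgX.IsAdicFormallySmooth Λ R.carrier (IsLocalRing.maximalIdeal R.carrier) := by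
  refine ⟨fun h => ?_, isSmoothFunctor_of_isAdicFormallySmooth⟩
  obtain ⟨P, π, hπ, hπs, -, hfs⟩ := exists_polyCover R
  obtain ⟨s, hs, hπs'⟩ := exists_lift_of_smooth h π hπ hπs (AlgHom.id Λ _) (AlgHom.comp_id _)
  exact isAdicFormallySmooth_retract π hπ s hs hπs' hfs

end Groth.Agent.ArtFunLib
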