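import Groth.Agent.Lib.ArtFun.Cmp
import Mathlib.LinearAlgebra.Dual.Lemmas

/-!
Split square-zero objects and the tangent space.
-/

set_option autoImplicit false

universe u v w

open CategoryTheory

namespace Groth.Agent.ArtFunLib

open ArtFun ArtFun.Art

variable (Λ k : Type u) [CommRing Λ] [Field k] [Algebra Λ k]

/-- `k ⊕ kⁿ`. -/
noncomputable def tn (n : ℕ) : Art Λ k :=
  { carrier := TrivSqZeroExt k (Fin n → k)
    isLocalRing := isLocalRing_tsze k (Fin n → k)
    isArtinianRing := isArtinianRing_tsze k (Fin n → k)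
    res := TrivSqZeroExt.fstHom Λ k (Fin n → k)
    res_surjective := fun a => ⟨TrivSqZeroExt.inl a, rfl⟩ }

variable {Λ k}

/-- Functoriality of `k ⊕ kⁿ`. -/
noncomputable def tnMap {n m : ℕ} (L : (Fin n → k) →ₗ[k] (Fin m → k)) : tn Λ k n ⟶ tn Λ k m :=
  ⟨tszeMap L, AlgHom.ext fun _ => rfl⟩

/-- A functional gives a map to the dual numbers. -/
noncomputable def tnDual {n : ℕ} (L : (Fin n → k) →ₗ[k] k) : tn Λ k n ⟶ dual Λ k :=
  ⟨tszeMap L, AlgHom.ext fun _ => rfl⟩

/-- A pair of functionals gives a map to `k[ε₁, ε₂]`. -/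
noncomputable def tnDual2 {n : ℕ} (L₁ L₂ : (Fin n → k) →ₗ[k] k) : tn Λ k n ⟶ dual2 Λ k :=
  ⟨tszeMap (L₁.prod L₂), AlgHom.ext fun _ => rfl⟩

theorem tnDual2_pr₁ {n : ℕ} (L₁ L₂ : (Fin n → k) →ₗ[k] k) :
    (tnDual2 L₁ L₂ : tn Λ k n ⟶ _) ≫ pr₁ = tnDual L₁ :=
  hom_ext' fun _ => rfl

theorem tnDual2_pr₂ {n : ℕ} (L₁ L₂ : (Fin n → k) →ₗ[k] k) :
    (tnDual2 L₁ L₂ : tn Λ k n ⟶ _) ≫ pr₂ = tnDual L₂ :=
  hom_ext' fun _ => rfl

theorem tnDual2_plus {n : ℕ} (L₁ L₂ : (Fin n → k) →ₗ[k] k) :
    (tnDual2 L₁ L₂ : tn Λ k n ⟶ _) ≫ plus = tnDual (L₁ + L₂) :=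
  hom_ext' fun _ => rfl

theorem tnDual_scale {n : ℕ} (L : (Fin n → k) →ₗ[k] k) (c : k) :
    (tnDual L : tn Λ k n ⟶ _) ≫ scale c = tnDual (c • L) :=
  hom_ext' fun _ => rfl

theorem tnMap_tnDual {n m : ℕ} (L : (Fin n → k) →ₗ[k] (Fin m → k)) (M : (Fin m → k) →ₗ[k] k) :
    (tnMap L : tn Λ k n ⟶ _) ≫ tnDual M = tnDual (M ∘ₗ L) :=
  hom_ext' fun _ => rfl

/-- The last coordinate and the others. -/
theorem isFibreProd_tn (n : ℕ) :
    IsFibreProd (tnMap (LinearMap.funLeft k k Fin.castSucc) : tn Λ k (n + 1) ⟶ tn Λ k n)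
      (tnDual (LinearMap.proj (Fin.last n))) (toBase _) (toBase _) where
  w := (eq_toBase _).trans (eq_toBase _).symm
  inj b₁ b₂ e1 e2 := by
    have f1 : b₁.fst = b₂.fst := by have e := congrArg TrivSqZeroExt.fst e1; exact e
    refine TrivSqZeroExt.ext f1 (funext fun i => ?_)
    induction i using Fin.lastCases with
    | last => have e := congrArg TrivSqZeroExt.snd e2; exact e
    | cast i => have e := congrFun (congrArg TrivSqZeroExt.snd e1) i; exact e
  surj a a' h := by
    have h' : a.fst = a'.fst := h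
    refine ⟨(a.fst, Fin.snoc a.snd a'.snd), TrivSqZeroExt.ext rfl (funext fun i => ?_),
      TrivSqZeroExt.ext h' ?_⟩
    · exact Fin.snoc_castSucc (α := fun _ => k) a'.snd a.snd i
    · exact Fin.snoc_last (α := fun _ => k) a'.snd a.snd

theorem bijective_toBase_tn_zero : Function.Bijective (toBase (tn Λ k 0)) :=
  ⟨fun a b h => TrivSqZeroExt.ext h (Subsingleton.elim _ _), surjective_toBase _⟩

section Points

variable {F : Art Λ k ⥤ Type v}

/-- `F(k ⊕ kⁿ)` is the `n`-fold power of the tangent space. -/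
theorem tnProj_bijective (h0 : H0 F) (h2 : Heps F) : ∀ n : ℕ,
    Function.Bijective (fun (z : F.obj (tn Λ k n)) (i : Fin n) =>
      F.map (tnDual (LinearMap.proj i)) z)
  | 0 => by
    have := isIso_of_bijective (toBase (tn Λ k 0)) bijective_toBase_tn_zero
    have hb := map_bijective F (toBase (tn Λ k 0))
    exact ⟨fun a b _ => hb.1 (subsingleton_base h0 _ _), fun f => by
      obtain ⟨x⟩ := h0.1
      obtain ⟨z, -⟩ := hb.2 x
      exact ⟨z, funext fun i => i.elim0⟩⟩
  | n + 1 => by
    have ih := tnProj_bijective h0 h2 n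
    have hc := h2 _ _ (isFibreProd_tn (Λ := Λ) (k := k) n)
    have e : ∀ (z : F.obj (tn Λ k (n + 1))) (i : Fin n), F.map (tnDual (LinearMap.proj i.castSucc)) z =
        F.map (tnDual (LinearMap.proj i)) (F.map (tnMap (LinearMap.funLeft k k Fin.castSucc)) z) :=
      fun z i => by rw [← map_comp', tnMap_tnDual]; rfl
    refine ⟨fun z z' h => (cmp_injective_iff F _).1 hc.1 z z' (ih.1 (funext fun i => ?_))
      (congrFun h (Fin.last n)), fun f => ?_⟩
    · exact (e z i).symm.trans ((congrFun h i.castSucc).trans (e z' i))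
    · obtain ⟨z₁, hz₁⟩ := ih.2 fun i => f i.castSucc
      obtain ⟨z, hz, hz'⟩ := (cmp_surjective_iff F _).1 hc.2 z₁ (f (Fin.last n))
        (subsingleton_base h0 _ _)
      refine ⟨z, funext fun i => ?_⟩
      induction i using Fin.lastCases with
      | last => exact hz'
      | cast i => exact (e z i).trans (by rw [hz]; exact congrFun hz₁ i)

/-- The zero tangent vector. -/
theorem map_scale_zero (h0 : H0 F) (x : F.obj (dual Λ k)) (p : F.obj (base Λ k)) :
    F.map (scale 0) x = F.map baseToDual p := by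
  rw [← subsingleton_base h0 (F.map (toBase _) x) p, ← map_comp']
  refine map_congr F (hom_ext' fun (a : DualNumber k) => ?_) x
  exact TrivSqZeroExt.ext (R := k) (M := k) rfl (zero_smul k a.snd)

/-- Tangent spaces carry their vector space structure. -/
theorem nonempty_tangentStr (h0 : H0 F) (h2 : Heps F) : Nonempty (TangentStr F) := by
  have hb : Function.Bijective (cmp F (isFibreProd_dual2 (Λ := Λ) (k := k))) := h2 _ _ _
  have hpair : ∀ x y : F.obj (dual Λ k), ∃ z, F.map pr₁ z = x ∧ F.map pr₂ z = y := fun x y =>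
    (cmp_surjective_iff F _).1 hb.2 x y (subsingleton_base h0 _ _)
  choose pair hp₁ hp₂ using hpair
  have huniq : ∀ z x y, F.map pr₁ z = x → F.map pr₂ z = y → z = pair x y := fun z x y h1 h2' =>
    (cmp_injective_iff F _).1 hb.1 _ _ (h1.trans (hp₁ x y).symm) (h2'.trans (hp₂ x y).symm)
  let add : F.obj (dual Λ k) → F.obj (dual Λ k) → F.obj (dual Λ k) := fun x y => F.map plus (pair x y)
  have hadd : ∀ {n : ℕ} (z : F.obj (tn Λ k n)) (L M : (Fin n → k) →ₗ[k] k),
      F.map (tnDual (L + M)) z = add (F.map (tnDual L) z) (F.map (tnDual M) z) := fun z L M => by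
    have h := huniq (F.map (tnDual2 L M) z) _ _
      (by rw [← map_comp', tnDual2_pr₁]) (by rw [← map_comp', tnDual2_pr₂])
    change _ = F.map plus _
    rw [← h, ← map_comp', tnDual2_plus]
  have hsc : ∀ {n : ℕ} (z : F.obj (tn Λ k n)) (L : (Fin n → k) →ₗ[k] k) (c : k),
      F.map (tnDual (c • L)) z = F.map (scale c) (F.map (tnDual L) z) := fun z L c => by
    rw [← map_comp', tnDual_scale]
  obtain ⟨p⟩ := h0.1
  let zero : F.obj (dual Λ k) := F.map baseToDual p
  have hzero : ∀ {n : ℕ} (z : F.obj (tn Λ k n)), F.map (tnDual 0) z = zero := fun {n} z => by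
    rw [← zero_smul k (0 : (Fin n → k) →ₗ[k] k), hsc, map_scale_zero h0 _ p]
  have hsurj : ∀ {n : ℕ} (f : Fin n → F.obj (dual Λ k)),
      ∃ z : F.obj (tn Λ k n), ∀ i, F.map (tnDual (LinearMap.proj i)) z = f i := fun f => by
    obtain ⟨z, hz⟩ := (tnProj_bijective h0 h2 _).2 f
    exact ⟨z, congrFun hz⟩
  refine ⟨letI I : AddCommGroup (F.obj (dual Λ k)) :=
              { add := add
                zero := zero
                neg := fun x => F.map (scale (-1)) x
                nsmul := @nsmulRec _ ⟨zero⟩ ⟨add⟩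
                zsmul := @zsmulRec _ ⟨zero⟩ ⟨add⟩ ⟨fun x => F.map (scale (-1)) x⟩ (@nsmulRec _ ⟨zero⟩ ⟨add⟩)
                add_assoc := fun x y w => ?_
                zero_add := fun x => ?_
                add_zero := fun x => ?_
                neg_add_cancel := fun x => ?_
                add_comm := fun x y => ?_ }
          { addCommGroup := I
            module :=
              { smul := fun c x => F.map (scale c) x
                one_smul := fun x => ?_
                mul_smul := fun c d x => ?_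
                smul_zero := fun c => ?_
                smul_add := fun c x y => ?_
                add_smul := fun c d x => ?_
                zero_smul := fun x => map_scale_zero h0 x p }
            smul_eq := fun c x => rfl
            add_eq := fun z => congrArg (F.map plus) (huniq z _ _ rfl rfl).symm }⟩
  · obtain ⟨z, hz⟩ := hsurj ![x, y, w]
    change add (add x y) w = add x (add y w)
    rw [← show F.map _ z = x from hz 0, ← show F.map _ z = y from hz 1,
      ← show F.map _ z = w from hz 2, ← hadd, ← hadd, ← hadd, ← hadd, add_assoc]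
  · obtain ⟨z, hz⟩ := hsurj ![x]
    change add zero x = x
    rw [← show F.map _ z = x from hz 0, ← hzero z, ← hadd, zero_add]
  · obtain ⟨z, hz⟩ := hsurj ![x]
    change add x zero = x
    rw [← show F.map _ z = x from hz 0, ← hzero z, ← hadd, add_zero]
  · obtain ⟨z, hz⟩ := hsurj ![x]
    change add (F.map (scale (-1)) x) x = zero
    rw [← show F.map _ z = x from hz 0, ← hsc, ← hadd]
    refine (map_congr F (congrArg tnDual ?_) z).trans (hzero z)
    refine LinearMap.ext fun v => ?_
    change (-1 : k) * v 0 + v 0 = 0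
    ring
  · obtain ⟨z, hz⟩ := hsurj ![x, y]
    change add x y = add y x
    rw [← show F.map _ z = x from hz 0, ← show F.map _ z = y from hz 1, ← hadd, ← hadd, add_comm]
  · obtain ⟨z, hz⟩ := hsurj ![x]
    change F.map (scale (c * d)) x = F.map (scale c) (F.map (scale d) x)
    rw [← show F.map _ z = x from hz 0, ← hsc, ← hsc, ← hsc, mul_smul]
  · obtain ⟨z, hz⟩ := hsurj ![x]
    change F.map (scale 1) x = x
    rw [← show F.map _ z = x from hz 0, ← hsc, one_smul]
  · obtain ⟨z, hz⟩ := hsurj ![zero]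
    change F.map (scale c) zero = zero
    rw [← hzero z, ← hsc, smul_zero, hzero]
  · obtain ⟨z, hz⟩ := hsurj ![x, y]
    change F.map (scale c) (add x y) = add (F.map (scale c) x) (F.map (scale c) y)
    rw [← show F.map _ z = x from hz 0, ← show F.map _ z = y from hz 1, ← hadd, ← hsc, ← hsc, ← hsc,
      ← hadd, smul_add]
  · obtain ⟨z, hz⟩ := hsurj ![x]
    change F.map (scale (c + d)) x = add (F.map (scale c) x) (F.map (scale d) x)
    rw [← show F.map _ z = x from hz 0, ← hsc, ← hsc, ← hsc, ← hadd, add_smul]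

variable [TangentStr F]

theorem smul_def (c : k) (x : TangentSpace F) : c • x = TangentSpace.mk (F.map (scale c) x) :=
  TangentStr.smul_eq c x

theorem add_def (z : F.obj (dual2 Λ k)) :
    TangentSpace.mk (F.map pr₁ z) + TangentSpace.mk (F.map pr₂ z) =
      TangentSpace.mk (F.map plus z) :=
  TangentStr.add_eq z

/-- Pushing an element of `F(k ⊕ kⁿ)` along functionals is linear. -/
noncomputable def evT {n : ℕ} (z : F.obj (tn Λ k n)) : ((Fin n → k) →ₗ[k] k) →ₗ[k] TangentSpace F where
  toFun L := TangentSpace.mk (F.map (tnDual L) z)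
  map_add' L M := by
    have h := add_def (F.map (tnDual2 L M) z)
    rw [← map_comp', ← map_comp', ← map_comp', tnDual2_pr₁, tnDual2_pr₂, tnDual2_plus] at h
    exact h.symm
  map_smul' c L := by
    rw [RingHom.id_apply, smul_def]
    change F.map _ z = F.map _ (F.map _ z)
    rw [← map_comp', tnDual_scale]

theorem evT_eq_sum {n : ℕ} (z : F.obj (tn Λ k n)) (L : (Fin n → k) →ₗ[k] k) :
    evT z L = ∑ i, L (Pi.single i 1) • evT z (LinearMap.proj i) := by
  conv_lhs => rw [show L = ∑ i, L (Pi.single i 1) • LinearMap.proj i from by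
    refine (Pi.basisFun k (Fin n)).ext fun j => ?_
    simp [Pi.single_apply]]
  rw [map_sum]
  exact Finset.sum_congr rfl fun i _ => map_smul _ _ _

/-- The differential of a natural family is linear. -/
noncomputable def dLin {G : Art Λ k ⥤ Type w} [TangentStr G] (η : ∀ A, F.obj A → G.obj A)
    (hη : Natural η) (h0 : H0 F) (h2 : Heps F) : TangentSpace F →ₗ[k] TangentSpace G where
  toFun x := TangentSpace.mk (η (dual Λ k) x)
  map_add' x y := by
    obtain ⟨z, h1, h2'⟩ := (cmp_surjective_iff F _).1 (h2 _ _ (isFibreProd_dual2)).2 x.val y.val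
      (subsingleton_base h0 _ _)
    have e := add_def (η _ z)
    rw [← hη, ← hη, ← hη, h1, h2'] at e
    rw [← show TangentSpace.mk (F.map plus z) = x + y from by rw [← add_def, h1, h2']; rfl]
    exact e.symm
  map_smul' c x := by
    rw [RingHom.id_apply, smul_def, smul_def]
    exact hη (scale c) x.val

end Points

/-- `F(A ×ₖ E) = F(A) ×_{F(k)} F(E)` for split square-zero objects `E`. -/
theorem bijective_cmp_sqZero {F : Art Λ k ⥤ Type v} (hF : Heps F) {E : Art Λ k} (σ : base Λ k ⟶ E)
    (hE : IsLocalRing.maximalIdeal E ^ 2 = ⊥) ⦃B A : Art Λ k⦄ (p' : B ⟶ A) (p'' : B ⟶ E)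
    (h : IsFibreProd p' p'' (toBase A) (toBase E)) : Function.Bijective (cmp F h) := by
  suffices H : ∀ (K : Ideal E) (E₁ : Art Λ k) (q : E ⟶ E₁), Function.Surjective q →
      RingHom.ker q.toAlgHom = K → ∀ ⦃B A : Art Λ k⦄ (p' : B ⟶ A) (p'' : B ⟶ E₁)
        (h : IsFibreProd p' p'' (toBase A) (toBase E₁)), Function.Bijective (cmp F h) from
    H _ E (𝟙 E) Function.surjective_id rfl p' p'' h
  intro K
  induction K using WellFoundedGT.induction with
  | _ K ih =>
    intro E₁ q hq hK B A p' p'' h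
    by_cases hinj : Function.Injective (toBase E₁)
    · exact cmp_of_isIso_injective h (isIso_of_bijective _ ⟨hinj, surjective_toBase _⟩)
    -- a nonzero element killed by the maximal ideal
    obtain ⟨t, htm, ht0⟩ : ∃ t ∈ 𝔪 E₁, t ≠ 0 := by
      by_contra hne
      push Not at hne
      exact hinj ((RingHom.injective_iff_ker_eq_bot (toBase E₁).toAlgHom).2
        (le_bot_iff.1 fun a ha => (Ideal.mem_bot).2 (hne a (ker_le _ ha))))
    have hsq : ∀ a ∈ 𝔪 E₁, ∀ b ∈ 𝔪 E₁, a * b = 0 := fun a ha b hb => by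
      obtain ⟨a', rfl⟩ := hq a
      obtain ⟨b', rfl⟩ := hq b
      rw [← map_mul, show a' * b' = 0 from (Ideal.mem_bot).1 (hE.le (by
        rw [pow_two]; exact Ideal.mul_mem_mul (mem_of_map_mem q ha) (mem_of_map_mem q hb))), map_zero]
    let s : k →+* E₁ := (σ ≫ q).toAlgHom.toRingHom
    have hs : ∀ c, E₁.res (s c) = c := fun c => res_app (σ ≫ q) c
    letI := s.toAlgebra
    have hresl : ∀ (c : k) (a : E₁), E₁.res (c • a) = c * E₁.res a := fun c a => by
      rw [Algebra.smul_def, map_mul]; exact congrArg (· * _) (hs c)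
    let r : E₁ →ₗ[k] k := { toFun := E₁.res, map_add' := map_add _, map_smul' := hresl }
    obtain ⟨χ, hχ⟩ : ∃ χ : E₁ →ₗ[k] k, χ t = 1 := by
      obtain ⟨χ, hχ⟩ := Module.Projective.exists_dual_ne_zero k ht0
      exact ⟨(χ t)⁻¹ • χ, inv_mul_cancel₀ hχ⟩
    let π : E₁ →ₗ[k] E₁ := LinearMap.id - r.smulRight (1 : E₁)
    have hπ : ∀ a, π a = a - s (E₁.res a) := fun a => by
      change a - E₁.res a • (1 : E₁) = _
      rw [Algebra.smul_def, mul_one]; rfl
    have hπm : ∀ a, π a ∈ 𝔪 E₁ := fun a => by rw [hπ, mem_maximalIdeal_iff, map_sub, hs, sub_self]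
    let φ : E₁ →ₗ[k] k := χ ∘ₗ π
    have hφt : φ t = 1 := by
      change χ (π t) = 1
      rw [hπ, (E₁.mem_maximalIdeal_iff t).1 htm, map_zero, sub_zero, hχ]
    have hπmul : ∀ a b, π (a * b) = E₁.res a • π b + E₁.res b • π a := fun a b => by
      have h := hsq _ (hπm a) _ (hπm b)
      simp only [hπ] at h ⊢
      rw [Algebra.smul_def, Algebra.smul_def, map_mul, map_mul]
      change a * b - s (E₁.res a) * s (E₁.res b) = s (E₁.res a) * _ + s (E₁.res b) * _
      linear_combination h
    have hcomm : ∀ c : Λ, π (algebraMap Λ E₁ c) = 0 := fun c => by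
      have e : s (algebraMap Λ k c) = algebraMap Λ E₁ c := (σ ≫ q).toAlgHom.commutes c
      rw [hπ, AlgHom.commutes, e, sub_self]
    let g₀ : E₁ →ₐ[Λ] DualNumber k :=
      { toFun := fun a => (TrivSqZeroExt.inl (E₁.res a) + TrivSqZeroExt.inr (φ a) : DualNumber k)
        map_one' := TrivSqZeroExt.ext (by simp) (by
          change (0 : k) + χ (π 1) = 0
          rw [hπ, map_one, map_one, sub_self, map_zero, add_zero])
        map_mul' := fun a b => TrivSqZeroExt.ext (by simp) (by
          simp only [TrivSqZeroExt.snd_add, TrivSqZeroExt.snd_inl, TrivSqZeroExt.snd_inr,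
            TrivSqZeroExt.snd_mul, TrivSqZeroExt.fst_add, TrivSqZeroExt.fst_inl, TrivSqZeroExt.fst_inr,
            zero_add, add_zero, op_smul_eq_smul, smul_eq_mul]
          change χ (π (a * b)) = E₁.res a * χ (π b) + E₁.res b * χ (π a)
          rw [hπmul, map_add, map_smul, map_smul, smul_eq_mul, smul_eq_mul])
        map_zero' := TrivSqZeroExt.ext (by simp) (by simp)
        map_add' := fun a b => TrivSqZeroExt.ext (by simp) (by simp)
        commutes' := fun c => TrivSqZeroExt.ext (by simp [TrivSqZeroExt.algebraMap_eq_inl']) (by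
          simp only [TrivSqZeroExt.algebraMap_eq_inl', TrivSqZeroExt.snd_add, TrivSqZeroExt.snd_inl,
            TrivSqZeroExt.snd_inr, zero_add]
          change χ (π _) = 0
          rw [hcomm, map_zero]) }
    let g : E₁ ⟶ dual Λ k := Art.homMk g₀
      (AlgHom.ext fun a => by
        change E₁.res a + 0 = E₁.res a
        exact add_zero _)
    have hgf : ∀ a, (g a).fst = E₁.res a := fun a => add_zero _
    have hgs : ∀ a, (g a).snd = φ a := fun a => zero_add _
    have hspan : Ideal.span {t} ≤ 𝔪 E₁ := (Ideal.span_singleton_le_iff_mem _).2 htm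
    let q₁ : E₁ ⟶ quot E₁ (Ideal.span {t}) hspan := quotMk E₁ _ hspan
    have hline : ∀ a ∈ Ideal.span {t}, a = φ a • t := fun a ha => by
      obtain ⟨c, rfl⟩ := Ideal.mem_span_singleton'.1 ha
      have e : c * t = E₁.res c • t := by
        rw [Algebra.smul_def]
        refine sub_eq_zero.1 ((sub_mul _ _ _).symm.trans (hsq _ ?_ _ htm))
        rw [mem_maximalIdeal_iff, map_sub]
        exact sub_eq_zero.2 (hs _).symm
      rw [e, map_smul, hφt, smul_eq_mul, mul_one]
    have hfp : IsFibreProd q₁ g (toBase _) (toBase (dual Λ k)) :=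
      { w := (eq_toBase _).trans (eq_toBase _).symm
        inj := fun a b e1 e2 => by
          have hm : a - b ∈ Ideal.span {t} := Ideal.Quotient.eq.1 e1
          have : φ (a - b) = 0 := by
            rw [map_sub, ← hgs, ← hgs, e2, sub_self]
          exact sub_eq_zero.1 ((hline _ hm).trans (by rw [this, zero_smul]))
        surj := fun x ε e => by
          obtain ⟨a, rfl⟩ := quotMk_surjective E₁ _ hspan x
          have e' : E₁.res a = ε.fst := e
          refine ⟨a + (ε.snd - φ a) • t, ?_, TrivSqZeroExt.ext ?_ ?_⟩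
          · refine Ideal.Quotient.eq.2 ?_
            rw [add_sub_cancel_left, Algebra.smul_def]
            exact Ideal.mul_mem_left _ _ (Ideal.mem_span_singleton_self t)
          · rw [hgf, map_add, hresl, (E₁.mem_maximalIdeal_iff t).1 htm, mul_zero, add_zero, e']
          · rw [hgs, map_add, map_smul, hφt, smul_eq_mul, mul_one, add_sub_cancel] }
    have hlt : K < RingHom.ker (q ≫ q₁).toAlgHom := by
      obtain ⟨t', rfl⟩ := hq t
      refine lt_of_le_of_ne (fun a ha => ?_) fun e => ht0 (RingHom.mem_ker.1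
        (show t' ∈ RingHom.ker q.toAlgHom from ?_))
      · rw [← hK] at ha
        refine RingHom.mem_ker.2 (show q₁ (q a) = 0 from ?_)
        rw [(RingHom.mem_ker.1 ha : q a = 0), map_zero]
      · rw [hK, e]
        exact Ideal.Quotient.eq_zero_iff_mem.2 (Ideal.mem_span_singleton_self (q t'))
    have ih' := ih _ hlt _ (q ≫ q₁) (surjective_comp hq (quotMk_surjective _ _ hspan)) rfl
    obtain ⟨C, c', c'', hC⟩ := exists_isFibreProd (toBase A) (toBase (quot E₁ (Ideal.span {t}) hspan))
      (surjective_toBase _)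
    have hw : p' ≫ toBase A = (p'' ≫ q₁) ≫ toBase _ := (eq_toBase _).trans (eq_toBase _).symm
    let l : B ⟶ C := fibLift hC p' (p'' ≫ q₁) hw
    have hl : IsFibreProd l (p'' ≫ g) (toBase C) (toBase (dual Λ k)) :=
      { w := (eq_toBase _).trans (eq_toBase _).symm
        inj := fun b b' e1 e2 => h.inj b b' (by
            have := congrArg c' e1
            rwa [← Art.comp_apply, ← Art.comp_apply, fibLift_fst] at this)
          (hfp.inj _ _ (by
            have := congrArg c'' e1
            rwa [← Art.comp_apply, ← Art.comp_apply, fibLift_snd] at this) e2)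
        surj := fun c ε e => by
          obtain ⟨e₁, he1, he2⟩ := hfp.surj (c'' c) ε (by
            change (quot E₁ (Ideal.span {t}) hspan).res (c'' c) = _
            rw [res_app]; exact e)
          have e₁res : A.res (c' c) = E₁.res e₁ := by
            rw [res_app, ← res_app q₁, he1, res_app]
          obtain ⟨b, hb1, hb2⟩ := h.surj (c' c) e₁ e₁res
          refine ⟨b, hC.inj _ _ ?_ ?_, by rw [Art.comp_apply, hb2, he2]⟩
          · rw [← Art.comp_apply, fibLift_fst, hb1]
          · rw [← Art.comp_apply, fibLift_snd, Art.comp_apply, hb2, he1] }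
    refine ⟨(cmp_injective_iff F h).2 fun z z' e1 e2 => ?_, (cmp_surjective_iff F h).2 fun x y e => ?_⟩
    · refine (cmp_injective_iff F _).1 (hF _ _ hl).1 z z'
        ((cmp_injective_iff F _).1 (ih' _ _ hC).1 _ _ ?_ ?_) ?_
      · rw [← map_comp', ← map_comp', fibLift_fst, e1]
      · rw [← map_comp', ← map_comp', fibLift_snd, map_comp', map_comp', e2]
      · rw [map_comp', map_comp', e2]
    · obtain ⟨c, hc1, hc2⟩ := (cmp_surjective_iff F _).1 (ih' _ _ hC).2 x (F.map q₁ y)
        (by rw [e, ← map_comp', eq_toBase (q₁ ≫ toBase _)])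
      obtain ⟨z, hz1, hz2⟩ := (cmp_surjective_iff F _).1 (hF _ _ hl).2 c (F.map g y) (by
        rw [← eq_toBase (c'' ≫ toBase _), map_comp', hc2, ← map_comp', ← map_comp',
          eq_toBase (q₁ ≫ toBase _), eq_toBase (g ≫ toBase _)])
      refine ⟨z, by rw [← hc1, ← hz1, ← map_comp', fibLift_fst],
        (cmp_injective_iff F _).1 (hF _ _ hfp).1 _ _ ?_ ?_⟩
      · rw [← hc2, ← hz1, ← map_comp', ← map_comp', fibLift_snd]
      · rw [← hz2, map_comp']

end Groth.Agent.ArtFunLib
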