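import Groth.Agent.Lib.ArtFun.PolyRing
import Groth.Agent.Lib.Compl.Complete

/-!
Schlessinger's construction of versal families.
-/

set_option autoImplicit false

universe u v w

open CategoryTheory

namespace Groth.Agent.ArtFunLib

open ArtFun ArtFun.Art

variable {Λ k : Type u} [CommRing Λ] [Field k] [Algebra Λ k]

section LeastIdeal

variable {F : Art Λ k ⥤ Type v}

theorem exists_complement {B A : Art Λ k} {p : B ⟶ A} (hp : IsSemismallExt p) {J J' : Ideal B}
    (hJ : J ≤ RingHom.ker p.toAlgHom) (hJ' : J' ≤ RingHom.ker p.toAlgHom) :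
    ∃ L, J' ≤ L ∧ L ≤ RingHom.ker p.toAlgHom ∧ L ⊓ J ≤ J' ∧ RingHom.ker p.toAlgHom ≤ J ⊔ L := by
  obtain ⟨L, ⟨hL1, hL2, hL3⟩, hmax⟩ := set_has_maximal_iff_noetherian.2 (inferInstance : IsNoetherian B B)
    {L : Ideal B | J' ≤ L ∧ L ≤ RingHom.ker p.toAlgHom ∧ L ⊓ J ≤ J'} ⟨J', le_rfl, hJ', inf_le_left⟩
  refine ⟨L, hL1, hL2, hL3, fun x hx => ?_⟩
  by_contra hne
  refine hmax (L ⊔ Ideal.span {x}) ⟨hL1.trans le_sup_left,
    sup_le hL2 ((Ideal.span_singleton_le_iff_mem _).2 hx), ?_⟩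
    (lt_of_le_of_ne le_sup_left fun h => hne (Ideal.mem_sup_right (h ▸ Ideal.mem_sup_right (Ideal.mem_span_singleton_self x))))
  rintro j ⟨hj, hjJ⟩
  obtain ⟨w, hw, ax, hax, rfl⟩ := Submodule.mem_sup.1 hj
  obtain ⟨a, rfl⟩ := Ideal.mem_span_singleton'.1 hax
  by_cases ha : B.res a = 0
  · have h0 : a * x = 0 := (mul_eq_of_res_eq hp (a := a) (b := 0) (by rw [ha, map_zero])
      (RingHom.mem_ker.1 hx)).trans (zero_mul x)
    rw [h0, add_zero] at hjJ ⊢
    exact hL3 ⟨hw, hjJ⟩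
  · obtain ⟨u, rfl⟩ := res_ne_zero_isUnit B ha
    refine absurd ?_ hne
    have hu : (u : B) * x ∈ J ⊔ L := by
      rw [show (u : B) * x = (w + u * x) - w by ring]
      exact sub_mem (Ideal.mem_sup_left hjJ) (Ideal.mem_sup_right hw)
    have := Ideal.mul_mem_left (J ⊔ L) (↑u⁻¹ : B) hu
    rwa [← mul_assoc, Units.inv_mul, one_mul] at this

/-- `x` lifts to `B/J`. -/
def LiftsMod {B A : Art Λ k} (p : B ⟶ A) (x : F.obj A) (J : Ideal B) : Prop :=
  ∃ (hJ : J ≤ RingHom.ker p.toAlgHom) (hJ' : J ≤ IsLocalRing.maximalIdeal B),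
    ∃ y : F.obj (quot B J hJ'), F.map (quotFactor hJ' p hJ) y = x

theorem LiftsMod.mono {B A : Art Λ k} {p : B ⟶ A} {x : F.obj A} {J J' : Ideal B}
    (h : LiftsMod p x J) (hle : J ≤ J') (hJ' : J' ≤ RingHom.ker p.toAlgHom) : LiftsMod p x J' := by
  obtain ⟨hJ, hJm, y, hy⟩ := h
  refine ⟨hJ', hJ'.trans (ker_le p),
    F.map (quotFactor hJm (quotMk B J' (hJ'.trans (ker_le p))) (by rwa [ker_quotMk])) y, ?_⟩
  rw [← map_comp', ← hy]
  refine map_congr F ?_ _
  exact epi_of_surjective _ (quotMk_surjective B J hJm) (hom_ext' fun _ => rfl)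

theorem LiftsMod.inf (h1 : S1 F) {B A : Art Λ k} {p : B ⟶ A} (hp : IsSemismallExt p) {x : F.obj A}
    {J J' : Ideal B} (hJ : LiftsMod p x J) (hJ' : LiftsMod p x J') : LiftsMod p x (J ⊓ J') := by
  obtain ⟨L, hL1, hL2, hL3, hL4⟩ := exists_complement hp hJ.1 hJ'.1
  obtain ⟨hJker, hJm, y, hy⟩ := hJ
  obtain ⟨_, hLm, y', hy'⟩ := hJ'.mono hL1 hL2
  let K := J ⊓ J'
  have hKm : K ≤ IsLocalRing.maximalIdeal B := inf_le_left.trans hJm
  let a : quot B K hKm ⟶ quot B J hJm :=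
    quotFactor hKm (quotMk B J hJm) (by rw [ker_quotMk]; exact inf_le_left)
  let b : quot B K hKm ⟶ quot B L hLm :=
    quotFactor hKm (quotMk B L hLm) (by rw [ker_quotMk]; exact inf_le_right.trans hL1)
  have hfp : IsFibreProd a b (quotFactor hJm p hJker) (quotFactor hLm p hL2) :=
    { w := epi_of_surjective _ (quotMk_surjective B K hKm) (hom_ext' fun _ => rfl)
      inj := fun z z' e1 e2 => by
        obtain ⟨c, rfl⟩ := quotMk_surjective B K hKm z
        obtain ⟨c', rfl⟩ := quotMk_surjective B K hKm z'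
        exact Ideal.Quotient.eq.2 ⟨Ideal.Quotient.eq.1 e1, hL3 ⟨Ideal.Quotient.eq.1 e2, Ideal.Quotient.eq.1 e1⟩⟩
      surj := fun z z' e => by
        obtain ⟨c, rfl⟩ := quotMk_surjective B J hJm z
        obtain ⟨c', rfl⟩ := quotMk_surjective B L hLm z'
        have hd : c - c' ∈ RingHom.ker p.toAlgHom := RingHom.mem_ker.2 (by
          change p (c - c') = 0
          rw [map_sub, sub_eq_zero]
          exact e)
        obtain ⟨j, hj, l, hl, hjl⟩ := Submodule.mem_sup.1 (hL4 hd)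
        refine ⟨quotMk B K hKm (c - j), Ideal.Quotient.eq.2 ?_, Ideal.Quotient.eq.2 ?_⟩
        · rwa [sub_sub_cancel_left, neg_mem_iff]
        · rwa [show c - j - c' = l by linear_combination (-1 : B) * hjl] }
  obtain ⟨z, hz, -⟩ := (cmp_surjective_iff F hfp).1
    (h1 _ _ _ _ hfp (quotFactor_surjective _ _ _ hp.1)) y y' (hy.trans hy'.symm)
  refine ⟨inf_le_left.trans hJker, hKm, z, ?_⟩
  rw [← hy, ← hz, ← map_comp']
  refine map_congr F ?_ _
  exact epi_of_surjective _ (quotMk_surjective B K hKm) (hom_ext' fun _ => rfl)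

theorem liftsMod_ker {B A : Art Λ k} {p : B ⟶ A} (hp : Function.Surjective p) (x : F.obj A) :
    LiftsMod p x (RingHom.ker p.toAlgHom) :=
  ⟨le_rfl, ker_le p, (map_bijective F (quotKerIso p hp).hom).2 x⟩

theorem exists_least (h1 : S1 F) {B A : Art Λ k} {p : B ⟶ A} (hp : IsSemismallExt p) (x : F.obj A) :
    ∃ J₀, LiftsMod p x J₀ ∧ ∀ J, LiftsMod p x J → J₀ ≤ J := by
  obtain ⟨J₀, hJ₀, hmin⟩ := set_has_minimal_iff_artinian.2 (inferInstance : IsArtinian B B)
    {J : Ideal B | LiftsMod p x J} ⟨_, liftsMod_ker hp.1 x⟩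
  refine ⟨J₀, hJ₀, fun J hJ => ?_⟩
  rcases (inf_le_left : J₀ ⊓ J ≤ J₀).eq_or_lt with h | h
  · exact inf_eq_left.1 h
  · exact absurd h (hmin _ (hJ₀.inf h1 hp hJ))

end LeastIdeal

section CRingAux

variable (P : CRing Λ k)

theorem exists_point_of_ideal {K : Ideal P.carrier} {n : ℕ} (hn : CRing.mpow P n ≤ K)
    (hK : K ≤ IsLocalRing.maximalIdeal P.carrier) :
    ∃ (A : Art Λ k) (π : HomSet P.carrier P.res A), Function.Surjective π.1 ∧ RingHom.ker π.1 = K := by
  have hm : K.map (Ideal.Quotient.mk (CRing.mpow P n)) ≤ IsLocalRing.maximalIdeal (P.trunc n) :=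
    Ideal.map_le_iff_le_comap.2 fun a ha => homSet_mem_max (P.truncHom n) (hK ha)
  refine ⟨quot (P.trunc n) _ hm, HomSet.map (quotMk _ _ hm) (P.truncHom n),
    (quotMk_surjective _ _ hm).comp (truncHom_surjective P n), Ideal.ext fun a => ?_⟩
  refine Ideal.Quotient.eq_zero_iff_mem.trans ?_
  change a ∈ (K.map (Ideal.Quotient.mk (CRing.mpow P n))).comap (Ideal.Quotient.mk (CRing.mpow P n)) ↔ a ∈ K
  rw [Ideal.comap_map_of_surjective' _ Ideal.Quotient.mk_surjective, Ideal.mk_ker, sup_eq_left.2 hn]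

variable {P}

theorem ker_le_max {A : Art Λ k} (φ : HomSet P.carrier P.res A) :
    RingHom.ker φ.1 ≤ IsLocalRing.maximalIdeal P.carrier := fun a ha => by
  rw [CRing.mem_maximalIdeal_iff, ← homSet_res φ, (RingHom.mem_ker.1 ha : φ.1 a = 0), map_zero]

/-- A point killing the kernel of a surjective point gives a morphism. -/
theorem exists_desc {R : Type u} [CommRing R] [Algebra Λ R] {resR : R →ₐ[Λ] k} {B A : Art Λ k}
    (π : HomSet R resR B) (hπ : Function.Surjective π.1)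
    (φ : HomSet R resR A) (h : RingHom.ker π.1 ≤ RingHom.ker φ.1) : ∃ f : B ⟶ A, HomSet.map f π = φ := by
  let e := Ideal.quotientKerAlgEquivOfSurjective hπ
  let g : B →ₐ[Λ] A := (Ideal.Quotient.liftₐ (RingHom.ker π.1) φ.1 fun _ ha => h ha).comp e.symm.toAlgHom
  have hg : ∀ r, g (π.1 r) = φ.1 r := fun r => by
    have : e.symm (π.1 r) = Ideal.Quotient.mk _ r := e.symm_apply_eq.2 rfl
    change Ideal.Quotient.liftₐ _ φ.1 (fun _ ha => h ha) (e.symm (π.1 r)) = _
    rw [this]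
    rfl
  refine ⟨⟨g, AlgHom.ext fun b => ?_⟩, homSet_ext hg⟩
  obtain ⟨r, rfl⟩ := hπ b
  rw [AlgHom.comp_apply, hg, homSet_res, homSet_res]

/-- A quotient coefficient ring. -/
theorem exists_quotient [IsNoetherianRing Λ] (J : Ideal P.carrier) (hJ : J ≤ IsLocalRing.maximalIdeal P.carrier) :
    ∃ (R : CRing Λ k) (π : P.carrier →ₐ[Λ] R.carrier), R.res.comp π = P.res ∧
      Function.Surjective π ∧ RingHom.ker π = J := by
  have : Nontrivial (P.carrier ⧸ J) := Ideal.Quotient.nontrivial_iff.2 fun h =>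
    (IsLocalRing.maximalIdeal.isMaximal P.carrier).ne_top (top_le_iff.1 (h ▸ hJ))
  have : IsLocalRing (P.carrier ⧸ J) :=
    IsLocalRing.of_surjective' (Ideal.Quotient.mk J) Ideal.Quotient.mk_surjective
  have hc : IsAdicComplete (IsLocalRing.maximalIdeal (P.carrier ⧸ J)) (P.carrier ⧸ J) := by
    have h : IsAdicComplete (IsLocalRing.maximalIdeal P.carrier) (P.carrier ⧸ J) :=
      Groth.Agent.Compl.isAdicComplete_of_finite _ _
    have e : (IsLocalRing.maximalIdeal P.carrier).map (algebraMap P.carrier (P.carrier ⧸ J)) =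
        IsLocalRing.maximalIdeal (P.carrier ⧸ J) :=
      (IsLocalRing.map_maximalIdeal_of_surjective (Ideal.Quotient.mk J) Ideal.Quotient.mk_surjective)
    rw [← e]
    exact (IsAdicComplete.map_algebraMap_iff _ _).2 h
  exact ⟨{ carrier := P.carrier ⧸ J
           res := Ideal.Quotient.liftₐ J P.res fun a ha => (P.mem_maximalIdeal_iff a).1 (hJ ha)
           res_surjective := fun y => by
             obtain ⟨a, ha⟩ := P.res_surjective y
             exact ⟨Ideal.Quotient.mk J a, ha⟩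
           isAdicComplete := hc },
    Ideal.Quotient.mkₐ Λ J, Ideal.Quotient.liftₐ_comp J P.res _, Ideal.Quotient.mk_surjective,
    Ideal.ext fun _ => Ideal.Quotient.eq_zero_iff_mem⟩

/-- Chevalley's lemma in a complete ring. -/
theorem exists_le_iInf_sup (a : ℕ → Ideal P.carrier) (ha : Antitone a)
    (hopen : ∀ q, ∃ n, CRing.mpow P n ≤ a q) (n : ℕ) : ∃ q, a q ≤ (⨅ i, a i) ⊔ CRing.mpow P n := by
  have hst : ∀ j, ∃ q, ∀ q', q ≤ q' → a q ⊔ CRing.mpow P j = a q' ⊔ CRing.mpow P j := by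
    intro j
    let T : ℕ →o (Ideal (P.trunc j))ᵒᵈ :=
      ⟨fun q => OrderDual.toDual ((a q).map (Ideal.Quotient.mk (CRing.mpow P j))),
        fun q q' h => Ideal.map_mono (ha h)⟩
    obtain ⟨q, hq⟩ := IsArtinian.monotone_stabilizes T
    refine ⟨q, fun q' h => ?_⟩
    have h' := congrArg (fun I : Ideal (P.carrier ⧸ CRing.mpow P j) => I.comap (Ideal.Quotient.mk _))
      (OrderDual.toDual.injective (hq q' h))
    have hc : ∀ I : Ideal P.carrier, (I.map (Ideal.Quotient.mk (CRing.mpow P j))).comap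
        (Ideal.Quotient.mk (CRing.mpow P j)) = I ⊔ CRing.mpow P j := fun I => by
      rw [Ideal.comap_map_of_surjective' _ Ideal.Quotient.mk_surjective, Ideal.mk_ker]
    exact (hc _).symm.trans (h'.trans (hc _))
  choose Q hQ using hst
  refine ⟨Q n, fun x hx => ?_⟩
  let W : ℕ → Ideal P.carrier := fun j => a (Q (n + j)) ⊔ CRing.mpow P (n + j)
  have hW : ∀ j (z : P.carrier), z ∈ W j → ∃ z', z' ∈ W (j + 1) ∧ z' - z ∈ CRing.mpow P (n + j) := by
    intro j z hz
    change z ∈ _ ⊔ _ at hz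
    rw [hQ (n + j) (max (Q (n + j)) (Q (n + (j + 1)))) (le_max_left _ _)] at hz
    obtain ⟨u, hu, v, hv, rfl⟩ := Submodule.mem_sup.1 hz
    exact ⟨u, Ideal.mem_sup_left (ha (le_max_right _ _) hu), by simpa using neg_mem hv⟩
  choose! nx hnx1 hnx2 using hW
  let z : ℕ → P.carrier := fun j => Nat.rec x (fun i w => nx i w) j
  have hz : ∀ j, z j ∈ W j := fun j => by
    induction j with
    | zero => exact Ideal.mem_sup_left hx
    | succ j ih => exact hnx1 j _ ih
  have hcau : ∀ {i j}, i ≤ j → z j - z i ∈ CRing.mpow P (n + i) := by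
    intro i j hij
    induction hij with
    | refl => simp
    | @step j hij ih =>
      rw [show z (j + 1) - z i = (z (j + 1) - z j) + (z j - z i) by ring]
      have hle : CRing.mpow P (n + j) ≤ CRing.mpow P (n + i) :=
        Ideal.pow_le_pow_right (Nat.add_le_add_right (Nat.add_le_add_left hij n) 1)
      have h : z (j + 1) - z j ∈ CRing.mpow P (n + i) := hle (hnx2 j _ (hz j))
      exact add_mem h ih
  obtain ⟨L, hL⟩ := IsPrecomplete.prec' (I := IsLocalRing.maximalIdeal P.carrier) z fun {i j} h => by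
    rw [SModEq.sub_mem, smul_eq_mul, Ideal.mul_top, ← neg_sub]
    exact neg_mem (Ideal.pow_le_pow_right (by omega) (hcau h))
  have hL' : ∀ j, L - z j ∈ IsLocalRing.maximalIdeal P.carrier ^ j := fun j => by
    have h := hL j
    rw [SModEq.sub_mem, smul_eq_mul, Ideal.mul_top] at h
    rw [← neg_sub]
    exact neg_mem h
  have hLJ : L ∈ ⨅ i, a i := (Submodule.mem_iInf _).2 fun q => by
    obtain ⟨N, hN⟩ := hopen q
    obtain ⟨v, hv, w, hw, hvw⟩ : ∃ v ∈ a q, ∃ w ∈ CRing.mpow P N, v + w = z (N + 1) := by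
      refine Submodule.mem_sup.1 ?_
      have h := hz (N + 1)
      change z (N + 1) ∈ _ ⊔ _ at h
      rw [hQ (n + (N + 1)) (max (Q (n + (N + 1))) q) (le_max_left _ _)] at h
      exact sup_le_sup (ha (le_max_right _ _)) (Ideal.pow_le_pow_right (by omega)) h
    rw [show L = v + (w + (L - z (N + 1))) by linear_combination (-1 : P.carrier) * hvw]
    exact add_mem hv (hN (add_mem hw (hL' (N + 1))))
  have hLx : L - x ∈ CRing.mpow P n := by
    rw [show L - x = (L - z (n + 1)) + (z (n + 1) - z 0) by simp [z]]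
    exact add_mem (hL' _) (by simpa using hcau (Nat.zero_le (n + 1)))
  rw [show x = L + -(L - x) by ring]
  exact add_mem (Ideal.mem_sup_left hLJ) (Ideal.mem_sup_right (neg_mem hLx))

end CRingAux

/-- A stage of Schlessinger's construction. -/
structure Stage (F : Art Λ k ⥤ Type v) (P : CRing Λ k) : Type (max (u + 1) v) where
  /-- the Artinian quotient -/
  Q : Art Λ k
  /-- the projection -/
  π : HomSet P.carrier P.res Q
  surj : Function.Surjective π.1
  /-- the element -/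
  y : F.obj Q

theorem Stage.exists_next {F : Art Λ k ⥤ Type v} {P : CRing Λ k} (h1 : S1 F) (s : Stage F P) :
    ∃ (s' : Stage F P) (f : s'.Q ⟶ s.Q), HomSet.map f s'.π = s.π ∧ F.map f s'.y = s.y ∧
      ∀ (C : Art Λ k) (π' : HomSet P.carrier P.res C), Function.Surjective π'.1 →
        IsLocalRing.maximalIdeal P.carrier * RingHom.ker s.π.1 ≤ RingHom.ker π'.1 →
        ∀ (g : C ⟶ s.Q), HomSet.map g π' = s.π → (∃ z, F.map g z = s.y) →
          RingHom.ker s'.π.1 ≤ RingHom.ker π'.1 := by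
  obtain ⟨n, hn⟩ := exists_mpow_le_ker s.π
  have hK : CRing.mpow P (n + 1) ≤ IsLocalRing.maximalIdeal P.carrier * RingHom.ker s.π.1 := by
    rw [CRing.mpow, pow_succ']
    exact Ideal.mul_mono_right hn
  obtain ⟨B, πB, hπB, hkB⟩ := exists_point_of_ideal P hK (Ideal.mul_le_right.trans (ker_le_max s.π))
  obtain ⟨p, hp⟩ := exists_desc πB hπB s.π (by rw [hkB]; exact Ideal.mul_le_right)
  have hpa : ∀ a, p (πB.1 a) = s.π.1 a := fun a => congrArg (fun t => t.1 a) hp
  have hsemi : IsSemismallExt p := by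
    refine ⟨fun q => ?_, le_bot_iff.1 (Ideal.mul_le.2 fun b hb c hc => ?_)⟩
    · obtain ⟨a, rfl⟩ := s.surj q
      exact ⟨πB.1 a, hpa a⟩
    · obtain ⟨b, rfl⟩ := hπB b
      obtain ⟨c, rfl⟩ := hπB c
      have hb' : b ∈ IsLocalRing.maximalIdeal P.carrier := by
        rw [mem_maximalIdeal_iff, homSet_res] at hb
        exact (P.mem_maximalIdeal_iff b).2 hb
      have hc' : c ∈ RingHom.ker s.π.1 := RingHom.mem_ker.2 ((hpa c).symm.trans (RingHom.mem_ker.1 hc))
      rw [Ideal.mem_bot, ← map_mul]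
      have h : b * c ∈ RingHom.ker πB.1 := hkB ▸ Ideal.mul_mem_mul hb' hc'
      exact h
  obtain ⟨J₀, ⟨hJ₀, hJ₀m, y, hy⟩, hmin⟩ := exists_least h1 hsemi s.y
  refine ⟨⟨quot B J₀ hJ₀m, HomSet.map (quotMk B J₀ hJ₀m) πB, (quotMk_surjective _ _ hJ₀m).comp hπB, y⟩,
    quotFactor hJ₀m p hJ₀, homSet_ext fun a => hpa a, hy, fun C π' hπ' hle g hg hz => ?_⟩
  obtain ⟨q, hq⟩ := exists_desc πB hπB π' (hkB.le.trans hle)
  have hqa : ∀ a, q (πB.1 a) = π'.1 a := fun a => congrArg (fun t => t.1 a) hq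
  have hqs : Function.Surjective q := fun c => by
    obtain ⟨a, rfl⟩ := hπ' c
    exact ⟨πB.1 a, hqa a⟩
  have hqg : q ≫ g = p := hom_ext' fun b => by
    obtain ⟨a, rfl⟩ := hπB b
    rw [Art.comp_apply, hqa, hpa]
    exact congrArg (fun t => t.1 a) hg
  have hker : RingHom.ker q.toAlgHom ≤ RingHom.ker p.toAlgHom := fun b hb => RingHom.mem_ker.2 (by
    change p b = 0
    rw [← hqg, Art.comp_apply, (RingHom.mem_ker.1 hb : q b = 0), map_zero])
  obtain ⟨z, hz⟩ := hz
  have hle0 : J₀ ≤ RingHom.ker q.toAlgHom := by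
    refine hmin _ ⟨hker, ker_le q, F.map (quotKerIso q hqs).inv z, ?_⟩
    rw [← map_comp', ← hz]
    refine map_congr F ((Iso.inv_comp_eq _).2 (epi_of_surjective _ (quotMk_surjective _ _ _) ?_)) _
    rw [← Category.assoc, quotMk_quotKerIso, hqg, quotMk_quotFactor]
  intro a ha
  have : πB.1 a ∈ J₀ := Ideal.Quotient.eq_zero_iff_mem.1 ha
  exact RingHom.mem_ker.2 ((hqa a).symm.trans (RingHom.mem_ker.1 (hle0 this)))

theorem surjective_or_isIso {P : CRing Λ k} {C Q : Art Λ k} (c : C ⟶ Q) (hc : IsSmallExt c)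
    (ψ : HomSet P.carrier P.res C) (hψ : Function.Surjective (fun a => c (ψ.1 a))) :
    Function.Surjective ψ.1 ∨ ∀ a, c (ψ.1 a) = 0 → ψ.1 a = 0 := by
  by_cases h : ∀ a, c (ψ.1 a) = 0 → ψ.1 a = 0
  · exact Or.inr h
  · push Not at h
    obtain ⟨a, ha, ha0⟩ := h
    refine Or.inl fun x => ?_
    obtain ⟨b, hb⟩ := hψ (c x)
    have hx : x - ψ.1 b ∈ RingHom.ker c.toAlgHom := RingHom.mem_ker.2 (by
      change c (x - ψ.1 b) = 0
      rw [map_sub, sub_eq_zero]
      exact hb.symm)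
    rw [ker_eq_span hc ha ha0] at hx
    obtain ⟨r, hr⟩ := Ideal.mem_span_singleton'.1 hx
    obtain ⟨r', hr'⟩ := P.res_surjective (C.res r)
    refine ⟨b + r' * a, ?_⟩
    rw [map_add, map_mul, mul_eq_of_res_eq hc.isSemismallExt (b := r)
      ((homSet_res ψ r').trans hr') ha, hr]
    ring

/-- Schlessinger's construction. -/
theorem exists_versal_quotient [IsNoetherianRing Λ] {F : Art Λ k ⥤ Type v} (h1 : S1 F) (h2 : Heps F)
    (P : CRing Λ k) (hP : IsSmoothFunctor (hR P.carrier P.res)) (s₀ : Stage F P) :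
    ∃ (R : CRing Λ k) (π : P.carrier →ₐ[Λ] R.carrier) (ξ : Family R.carrier R.res F)
      (φ₀ : HomSet R.carrier R.res s₀.Q), Function.Surjective π ∧ R.res.comp π = P.res ∧
        (∀ a, φ₀.1 (π a) = s₀.π.1 a) ∧ ξ.app s₀.Q φ₀ = s₀.y ∧
        (Function.Surjective (ξ.app (dual Λ k)) → IsVersal ξ) := by
  choose nxt f hf1 hf2 hf3 using fun s : Stage F P => s.exists_next h1
  let st : ℕ → Stage F P := fun q => Nat.rec s₀ (fun _ s => nxt s) q
  let a : ℕ → Ideal P.carrier := fun q => RingHom.ker (st q).π.1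
  have ha : Antitone a := antitone_nat_of_succ_le fun q x hx => RingHom.mem_ker.2 (by
    rw [← hf1 (st q)]
    change f (st q) ((nxt (st q)).π.1 x) = 0
    rw [(RingHom.mem_ker.1 hx : (nxt (st q)).π.1 x = 0), map_zero])
  obtain ⟨R, π, hres, hπ, hker⟩ := exists_quotient (P := P) (⨅ i, a i)
    ((iInf_le a 0).trans (ker_le_max _))
  have hle : ∀ q, RingHom.ker π ≤ a q := fun q => hker.le.trans (iInf_le a q)
  have hσ : ∀ q, ∃ σ : HomSet R.carrier R.res (st q).Q, ∀ x, σ.1 (π x) = (st q).π.1 x := fun q => by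
    let e := Ideal.quotientKerAlgEquivOfSurjective hπ
    let g : R.carrier →ₐ[Λ] (st q).Q :=
      (Ideal.Quotient.liftₐ (RingHom.ker π) (st q).π.1 fun _ ha => hle q ha).comp e.symm.toAlgHom
    have hg : ∀ x, g (π x) = (st q).π.1 x := fun x => by
      have : e.symm (π x) = Ideal.Quotient.mk _ x := e.symm_apply_eq.2 rfl
      change Ideal.Quotient.liftₐ _ (st q).π.1 (fun _ ha => hle q ha) (e.symm (π x)) = _
      rw [this]
      rfl
    refine ⟨⟨g, AlgHom.ext fun r => ?_⟩, hg⟩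
    obtain ⟨x, rfl⟩ := hπ r
    rw [AlgHom.comp_apply, hg, homSet_res, ← hres]
    rfl
  choose σ hσ using hσ
  have hσs : ∀ q, Function.Surjective (σ q).1 := fun q y => by
    obtain ⟨x, rfl⟩ := (st q).surj y
    exact ⟨π x, hσ q x⟩
  have hσf : ∀ q, HomSet.map (f (st q)) (σ (q + 1)) = σ q := fun q => homSet_ext fun r => by
    obtain ⟨x, rfl⟩ := hπ r
    change f (st q) ((σ (q + 1)).1 (π x)) = _
    rw [hσ, hσ]
    exact congrArg (fun t => t.1 x) (hf1 (st q))
  -- transition maps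
  have htr : ∀ {q q'}, q ≤ q' → ∃ t : (st q').Q ⟶ (st q).Q,
      HomSet.map t (σ q') = σ q ∧ F.map t (st q').y = (st q).y := by
    intro q q' h
    induction h with
    | refl => exact ⟨𝟙 _, rfl, map_id' F _⟩
    | @step q' h ih =>
      obtain ⟨t, ht1, ht2⟩ := ih
      refine ⟨f (st q') ≫ t, ?_, by rw [map_comp']; exact (congrArg _ (hf2 (st q'))).trans ht2⟩
      rw [← ht1, ← hσf q']
      rfl
  -- every point factors through a stage
  have hfac : ∀ {A : Art Λ k} (φ : HomSet R.carrier R.res A), ∃ q, ∃ t : (st q).Q ⟶ A,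
      HomSet.map t (σ q) = φ := by
    intro A φ
    let ψ : HomSet P.carrier P.res A := ⟨φ.1.comp π, by rw [← AlgHom.comp_assoc, φ.2, hres]⟩
    obtain ⟨n, hn⟩ := exists_mpow_le_ker ψ
    obtain ⟨q, hq⟩ := exists_le_iInf_sup a ha (fun q => exists_mpow_le_ker _) n
    have hkψ : ⨅ i, a i ≤ RingHom.ker ψ.1 := fun x hx => by
      rw [← hker] at hx
      exact RingHom.mem_ker.2 (by
        change φ.1 (π x) = 0
        rw [(RingHom.mem_ker.1 hx : π x = 0), map_zero])
    obtain ⟨t, ht⟩ := exists_desc (σ q) (hσs q) φ fun r hr => by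
      obtain ⟨x, rfl⟩ := hπ r
      have hx : x ∈ a q := RingHom.mem_ker.2 ((hσ q x).symm.trans (RingHom.mem_ker.1 hr))
      exact (sup_le hkψ hn) (hq hx)
    exact ⟨q, t, ht⟩
  choose qq tt htt using @hfac
  have huniq : ∀ {A : Art Λ k} {q : ℕ} (t : (st q).Q ⟶ A),
      F.map t (st q).y = F.map (tt (HomSet.map t (σ q))) (st _).y := by
    intro A q t
    obtain ⟨s, hs1, hs2⟩ := htr (le_max_left q (qq (HomSet.map t (σ q))))
    obtain ⟨s', hs1', hs2'⟩ := htr (le_max_right q (qq (HomSet.map t (σ q))))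
    rw [← hs2, ← hs2', ← map_comp', ← map_comp']
    refine map_congr F (hom_ext' fun y => ?_) _
    obtain ⟨r, rfl⟩ := hσs _ y
    have e1 := congrArg (fun w => t (w.1 r)) hs1
    have e2 := congrArg (fun w => (tt (HomSet.map t (σ q))) (w.1 r)) hs1'
    exact e1.trans ((congrArg (fun w => w.1 r) (htt (HomSet.map t (σ q)))).symm.trans e2.symm)
  let ξ : Family R.carrier R.res F :=
    { app := fun A φ => F.map (tt φ) (st (qq φ)).y
      natural := fun {A B} g φ => by
        rw [← map_comp']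
        refine ((huniq (tt φ ≫ g)).trans ?_).symm
        have : HomSet.map (tt φ ≫ g) (σ (qq φ)) = HomSet.map g φ := by
          conv_rhs => rw [← htt φ]
          rfl
        rw [this] }
  refine ⟨R, π, ξ, σ 0, hπ, hres, hσ 0,
    (show F.map (tt (σ 0)) (st (qq (σ 0))).y = s₀.y from (huniq (q := 0) (𝟙 _)).symm.trans (map_id' F _)),
    fun hT => isVersal_of_tangent ξ (s1_hbar h1) h2 hT fun B A μ hμ φ y hy => ?_⟩
  let q := qq φ
  let c : (st q).Q ⟶ A := tt φ
  obtain ⟨C, p₁, p₂, hC⟩ := exists_isFibreProd c μ hμ.1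
  have hp₁ := isSmallExt_fst hC hμ
  obtain ⟨z, hz1, hz2⟩ := (cmp_surjective_iff F hC).1 (h1 _ _ _ _ hC hμ.1) (st q).y y hy.symm
  obtain ⟨ψ, hψ⟩ := hP p₁ hp₁.1 (st q).π
  have hψa : ∀ x, p₁ (ψ.1 x) = (st q).π.1 x := fun x =>
    congrArg (fun t : HomSet P.carrier P.res (st q).Q => t.1 x) hψ
  have hkill : a (q + 1) ≤ RingHom.ker ψ.1 := by
    have hmk : IsLocalRing.maximalIdeal P.carrier * RingHom.ker (st q).π.1 ≤ RingHom.ker ψ.1 :=
      Ideal.mul_le.2 fun b hb x hx => RingHom.mem_ker.2 (by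
        rw [map_mul]
        exact (Ideal.mem_bot).1 (hp₁.2.2.2.le (Ideal.mul_mem_mul (homSet_mem_max ψ hb)
          (RingHom.mem_ker.2 ((hψa x).trans (RingHom.mem_ker.1 hx))))))
    rcases surjective_or_isIso p₁ hp₁ ψ (fun y => by
        obtain ⟨x, rfl⟩ := (st q).surj y
        exact ⟨x, hψa x⟩) with hs | hs
    · exact hf3 (st q) C ψ hs hmk p₁ (homSet_ext hψa) ⟨z, hz1⟩
    · exact (ha (Nat.le_succ q)).trans fun x hx =>
        RingHom.mem_ker.2 (hs x ((hψa x).trans (RingHom.mem_ker.1 hx)))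
  obtain ⟨g, hg⟩ := exists_desc (st (q + 1)).π (st (q + 1)).surj ψ hkill
  refine ⟨HomSet.map (g ≫ p₂) (σ (q + 1)), homSet_ext fun r => ?_⟩
  obtain ⟨x, rfl⟩ := hπ r
  have e : g ((st (q + 1)).π.1 x) = ψ.1 x := congrArg (fun t => t.1 x) hg
  change μ (p₂ (g ((σ (q + 1)).1 (π x)))) = φ.1 (π x)
  rw [hσ, e, ← hC.w_apply, hψa, ← hσ q x]
  exact congrArg (fun t => t.1 (π x)) (htt φ)

end Groth.Agent.ArtFunLib
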